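import Groth.Agent.Lib.OX.PullbackStalk
import Groth.Agent.Lib.OX.StalkTensor
import Groth.Agent.Lib.OX.Exact
import Groth.Agent.Lib.OX.Tensor
import Groth.Agent.Lib.RelVanish.Basic
import Groth.Agent.Lib.K0Sub.KerUnit
import Groth.Agent.Lib.QCoh.Extension
import Groth.Prelude
import Mathlib.RingTheory.Flat.Basic
import Mathlib.LinearAlgebra.TensorProduct.Tower

/-!
# Exactness of integral transforms
-/

set_option autoImplicit false
set_option linter.style.haveILetI false
set_option backward.isDefEq.respectTransparency.types false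

universe u

open CategoryTheory CategoryTheory.Limits AlgebraicGeometry Opposite TopologicalSpace MonoidalCategory TensorProduct

noncomputable section

namespace GrothLib.FunMor20

theorem injective_rTensor_baseChange {A B : Type u} [CommRing A] [CommRing B] [Algebra A B] {M M' : Type u}
    [AddCommGroup M] [Module A M] [AddCommGroup M'] [Module A M'] (K : Type u) [AddCommGroup K] [Module B K]
    [Module A K] [IsScalarTower A B K] [Module.Flat A K] (ψ : M →ₗ[A] M') (hψ : Function.Injective ψ) :
    Function.Injective ((ψ.baseChange B).rTensor K) := by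
  let e₁ := TensorProduct.comm B (B ⊗[A] M) K ≪≫ₗ AlgebraTensorModule.cancelBaseChange A B B K M
  let e₂ := TensorProduct.comm B (B ⊗[A] M') K ≪≫ₗ AlgebraTensorModule.cancelBaseChange A B B K M'
  have h : ∀ z, e₂ ((ψ.baseChange B).rTensor K z) = ψ.lTensor K (e₁ z) := fun z => by
    induction z using TensorProduct.induction_on with
    | zero => simp
    | add a b ha hb => simp only [map_add, ha, hb]
    | tmul a k =>
      induction a using TensorProduct.induction_on with
      | zero => simp
      | add a b ha hb => simp only [TensorProduct.add_tmul, map_add, ha, hb]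
      | tmul b m => simp [e₁, e₂]
  intro z z' hz
  exact e₁.injective (Module.Flat.lTensor_preserves_injective_linearMap ψ hψ ((h z).symm.trans ((congrArg e₂ hz).trans (h z'))))

variable {Z X Y : Scheme.{u}} (p : Z ⟶ X) (q : Z ⟶ Y) (K : Z.Modules)

/-- Tensoring a pullback with a flat kernel keeps monomorphisms. -/
theorem mono_pullback_tensor (hK : FlatMod.IsFlatOver p K) {M N : X.Modules} (m : M ⟶ N) [Mono m] :
    Mono ((DCoh.tensorRightMod K).map ((Scheme.Modules.pullback p).map m)) := by
  rw [OX.mono_iff]
  intro z
  haveI : Mono ((OX.stalk (p z)).map m) := (OX.mono_iff m).1 ‹_› _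
  have h1 := OX.stalkTensorBiIso_natural₁ z ((Scheme.Modules.pullback p).map m) K
  have h2 := congrArg (· ▷ (OX.stalk z).obj K) ((OX.pullStalkIso p z).hom.naturality m)
  simp only [MonoidalCategory.comp_whiskerRight] at h2
  haveI hm : Mono ((ModuleCat.extendScalars (p.stalkMap z).hom).map ((OX.stalk (p z)).map m) ▷ (OX.stalk z).obj K) := by
    letI : Algebra (X.presheaf.stalk (p z)) (Z.presheaf.stalk z) := (p.stalkMap z).hom.toAlgebra
    letI : Module (X.presheaf.stalk (p z)) ((OX.stalk z).obj K) := Module.compHom _ (p.stalkMap z).hom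
    haveI : IsScalarTower (X.presheaf.stalk (p z)) (Z.presheaf.stalk z) ((OX.stalk z).obj K) :=
      IsScalarTower.of_algebraMap_smul fun _ _ => rfl
    haveI : Module.Flat (X.presheaf.stalk (p z)) ((OX.stalk z).obj K) := hK z
    rw [ModuleCat.mono_iff_injective]
    exact injective_rTensor_baseChange (B := Z.presheaf.stalk z) ((OX.stalk z).obj K) ((OX.stalk (p z)).map m).hom
      ((ModuleCat.mono_iff_injective _).1 inferInstance)
  haveI : Mono ((OX.stalk z).map ((Scheme.Modules.pullback p).map m) ▷ (OX.stalk z).obj K) := by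
    have e : IsIso ((OX.pullStalkIso p z).hom.app N ▷ (OX.stalk z).obj K) := inferInstance
    have h3 : Mono ((OX.stalk z).map ((Scheme.Modules.pullback p).map m) ▷ (OX.stalk z).obj K ≫
        (OX.pullStalkIso p z).hom.app N ▷ (OX.stalk z).obj K) := by
      rw [← MonoidalCategory.comp_whiskerRight]
      erw [(OX.pullStalkIso p z).hom.naturality m]
      rw [MonoidalCategory.comp_whiskerRight]
      exact mono_comp' inferInstance hm
    exact mono_of_mono _ ((OX.pullStalkIso p z).hom.app N ▷ (OX.stalk z).obj K)
  show Mono ((OX.stalk z).map (((DCoh.tensorBi (X := Z)).map ((Scheme.Modules.pullback p).map m)).app K))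
  rw [(Iso.eq_comp_inv _).2 h1]
  exact mono_comp' (mono_comp' inferInstance ‹_›) inferInstance

variable [HasInjectiveResolutions Z.Modules]

/-- Pushing forward is right exact when the first higher direct image of the kernel vanishes. -/
theorem epi_push_of_Rpush [QuasiCompact q] [QuasiSeparated q] {S : ShortComplex Z.Modules} (hS : S.ShortExact)
    [S.X₁.IsQuasicoherent] [S.X₃.IsQuasicoherent] (h : IsZero ((Coh.Rpush q 1).obj S.X₁)) :
    Epi ((Scheme.Modules.pushforward q).map S.g) := by
  haveI : ((Scheme.Modules.pushforward q).obj S.X₃).IsQuasicoherent := QCoh.isQuasicoherent_pushforward q _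
  refine K0Sub.epi_of_app_surjective _ fun V => ?_
  obtain ⟨e⟩ := Cohom.nonempty_HHon_equiv S.X₁ (q ⁻¹ᵁ V.1) 1
  haveI := RelVanish.subsingleton_HHon_of_isZero_Rpush q S.X₁ 1 V.2 h
  exact QCoh.app_surjective_of_subsingleton hS (q ⁻¹ᵁ V.1) e.symm.toEquiv.subsingleton

end GrothLib.FunMor20
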