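import Groth.Agent.Lib.FunMor20.FMNat
import Groth.Agent.Lib.FunMor20.Exact
import Groth.Agent.Lib.FlatDesc.Basic

/-!
# Base change with coefficients: the square transformation and its behaviour under composition
-/

set_option autoImplicit false
set_option linter.style.haveILetI false
set_option linter.style.longLine false
set_option maxHeartbeats 1000000
set_option backward.isDefEq.respectTransparency.types false

universe u

open CategoryTheory CategoryTheory.Limits AlgebraicGeometry Opposite TopologicalSpace MonoidalCategory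

noncomputable section

namespace GrothLib.FunMor20

open GrothLib.ProjFormula (projHom projNat hom_ext_tmul map_left_tmulSec map_right_tmulSec projHom_tmulSec)
open GrothLib.OX (tmulSec)

/-- The unit of pullback and pushforward along a composite. -/
theorem unit_pullbackComp {X Y Z : Scheme.{u}} (f : X ⟶ Y) (g : Y ⟶ Z) (M : Z.Modules) :
    (Scheme.Modules.pullbackPushforwardAdjunction g).unit.app M ≫ (Scheme.Modules.pushforward g).map
      ((Scheme.Modules.pullbackPushforwardAdjunction f).unit.app ((Scheme.Modules.pullback g).obj M) ≫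
        (Scheme.Modules.pushforward f).map ((Scheme.Modules.pullbackComp f g).hom.app M)) =
      (Scheme.Modules.pullbackPushforwardAdjunction (f ≫ g)).unit.app M := by
  have h := unit_conjugateEquiv
    ((Scheme.Modules.pullbackPushforwardAdjunction g).comp (Scheme.Modules.pullbackPushforwardAdjunction f))
    (Scheme.Modules.pullbackPushforwardAdjunction (f ≫ g)) (Scheme.Modules.pullbackComp f g).inv M
  rw [Scheme.Modules.conjugateEquiv_pullbackComp_inv, Adjunction.comp_unit_app] at h
  have h' := congrArg (fun t => t ≫ (Scheme.Modules.pushforward (f ≫ g)).map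
    ((Scheme.Modules.pullbackComp f g).hom.app M)) h
  simp only [Category.assoc] at h'
  rw [← Functor.map_comp, Iso.inv_hom_id_app] at h'
  refine Eq.trans ?_ (h'.trans ((congrArg (fun t => _ ≫ t) ((Scheme.Modules.pushforward (f ≫ g)).map_id _)).trans
    (Category.comp_id _)))
  rw [Functor.map_comp]
  rfl

/-- Maps out of a pullback are determined on pulled back sections. -/
theorem pullback_hom_ext {X Y : Scheme.{u}} {p : X ⟶ Y} {M : Y.Modules} {T : X.Modules}
    {φ φ' : (Scheme.Modules.pullback p).obj M ⟶ T}
    (h : ∀ (V : Y.Opens) (s : Γ(M, V)), φ.app (p ⁻¹ᵁ V) (QCoh.pullSec p M (le_refl _) s) =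
      φ'.app (p ⁻¹ᵁ V) (QCoh.pullSec p M (le_refl _) s)) : φ = φ' := by
  refine ((Scheme.Modules.pullbackPushforwardAdjunction p).homEquiv M T).injective ?_
  refine ((Adjunction.homEquiv_unit _ _ _ _).trans ?_).trans (Adjunction.homEquiv_unit _ _ _ _).symm
  refine Scheme.Modules.hom_ext _ _ fun V => ?_
  refine ConcreteCategory.hom_ext _ _ fun s => ?_
  have h1 := h V s
  have hid : ∀ (z : Γ((Scheme.Modules.pullback p).obj M, p ⁻¹ᵁ V)),
      ((Scheme.Modules.pullback p).obj M).presheaf.map (homOfLE (le_refl (p ⁻¹ᵁ V))).op z = z := fun z => by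
    have : homOfLE (le_refl (p ⁻¹ᵁ V)) = 𝟙 _ := rfl
    rw [this, op_id, CategoryTheory.Functor.map_id]
    rfl
  simp only [QCoh.pullSec, AddMonoidHom.coe_comp, Function.comp_apply] at h1
  erw [hid] at h1
  exact h1

variable {X X' Z Z' : Scheme.{u}} {f : X' ⟶ X} {p : Z ⟶ X} {p' : Z' ⟶ X'} {g : Z' ⟶ Z}

/-- The composite of base change and the projection map. -/
def squareHom (h : IsPullback p' g f p) (K : Z.Modules) (M : X'.Modules) :
    (DCoh.tensorBi.obj K).obj ((Scheme.Modules.pullback p).obj ((Scheme.Modules.pushforward f).obj M)) ⟶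
      (Scheme.Modules.pushforward g).obj
        ((DCoh.tensorBi.obj ((Scheme.Modules.pullback g).obj K)).obj ((Scheme.Modules.pullback p').obj M)) :=
  (DCoh.tensorBi.obj K).map (AffBC.bcMap h M) ≫ projHom g K ((Scheme.Modules.pullback p').obj M)

theorem squareHom_natural (h : IsPullback p' g f p) (K : Z.Modules) {M N : X'.Modules} (a : M ⟶ N) :
    (DCoh.tensorBi.obj K).map ((Scheme.Modules.pullback p).map ((Scheme.Modules.pushforward f).map a)) ≫
        squareHom h K N = squareHom h K M ≫ (Scheme.Modules.pushforward g).map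
          ((DCoh.tensorBi.obj ((Scheme.Modules.pullback g).obj K)).map ((Scheme.Modules.pullback p').map a)) := by
  have h2 := congrArg ((DCoh.tensorBi (X := Z)).obj K).map (bcMap_natural h a)
  have h3 := (ProjFormula.projNat g K).naturality ((Scheme.Modules.pullback p').map a)
  simp only [Functor.map_comp] at h2
  unfold squareHom
  erw [← Category.assoc, h2, Category.assoc, Category.assoc]
  exact congrArg (_ ≫ ·) h3

/-- Base change with coefficients, as a natural transformation. -/
def pushSquareTrans (h : IsPullback p' g f p) (K : Z.Modules) :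
    Scheme.Modules.pushforward f ⋙ Scheme.Modules.pullback p ⋙ DCoh.tensorRightMod K ⟶
      Scheme.Modules.pullback p' ⋙ DCoh.tensorRightMod ((Scheme.Modules.pullback g).obj K) ⋙ Scheme.Modules.pushforward g where
  app M := (flipIso K).hom.app _ ≫ squareHom h K M ≫
    (Scheme.Modules.pushforward g).map ((flipIso ((Scheme.Modules.pullback g).obj K)).inv.app _)
  naturality M N a := by
    have h1 := (flipIso K).hom.naturality ((Scheme.Modules.pullback p).map ((Scheme.Modules.pushforward f).map a))
    have h2 := squareHom_natural h K a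
    have h4 := congrArg (Scheme.Modules.pushforward g).map
      ((flipIso ((Scheme.Modules.pullback g).obj K)).inv.naturality ((Scheme.Modules.pullback p').map a))
    simp only [Functor.map_comp] at h4
    simp only [Functor.comp_map, Category.assoc]
    erw [reassoc_of% h1, reassoc_of% h2, h4]

theorem isIso_pushSquareTrans_app (h : IsPullback p' g f p) (K : Z.Modules) (M : X'.Modules)
    [IsIso (squareHom h K M)] : IsIso ((pushSquareTrans h K).app M) :=
  inferInstanceAs (IsIso ((flipIso K).hom.app _ ≫ squareHom h K M ≫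
    (Scheme.Modules.pushforward g).map ((flipIso ((Scheme.Modules.pullback g).obj K)).inv.app _)))

section Comp

variable {X'' Z'' : Scheme.{u}} {f' : X'' ⟶ X'} {p'' : Z'' ⟶ X''} {g' : Z'' ⟶ Z'}

/-- Base change maps compose. -/
theorem bcMap_comp (h : IsPullback p' g f p) (h' : IsPullback p'' g' f' p')
    (h'' : IsPullback p'' (g' ≫ g) (f' ≫ f) p) (M : X''.Modules) :
    (Scheme.Modules.pullback p).map ((Scheme.Modules.pushforwardComp f' f).inv.app M) ≫
        AffBC.bcMap h ((Scheme.Modules.pushforward f').obj M) ≫
        (Scheme.Modules.pushforward g).map (AffBC.bcMap h' M) ≫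
        (Scheme.Modules.pushforwardComp g' g).hom.app _ = AffBC.bcMap h'' M := by
  refine pullback_hom_ext fun V s => ?_
  rw [AffBC.bcMap_pullSec h'' M (le_refl _) s]
  simp only [Scheme.Modules.Hom.comp_app, Scheme.Modules.pushforwardComp_hom_app_app]
  show (AffBC.bcMap h' M).app _ ((AffBC.bcMap h _).app _ (((Scheme.Modules.pullback p).map _).app _ _)) = _
  refine (congrArg (fun z => (AffBC.bcMap h' M).app _ ((AffBC.bcMap h _).app _ z))
    (QCoh.pullSec_natural p ((Scheme.Modules.pushforwardComp f' f).inv.app M) (le_refl _) s)).trans ?_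
  refine (congrArg (fun z => (AffBC.bcMap h' M).app _ z)
    (AffBC.bcMap_pullSec h ((Scheme.Modules.pushforward f').obj M) (le_refl _) _)).trans ?_
  exact (AffBC.bcMap_pullSec h' M _ _).trans rfl

/-- Projection maps compose. -/
theorem projHom_comp {T' T W : Scheme.{u}} (g' : T' ⟶ T) (b : T ⟶ W) (E : W.Modules) (G : T'.Modules) :
    projHom b E ((Scheme.Modules.pushforward g').obj G) ≫
        (Scheme.Modules.pushforward b).map (projHom g' ((Scheme.Modules.pullback b).obj E) G ≫
          (Scheme.Modules.pushforward g').map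
            (((DCoh.tensorBi (X := T')).map ((Scheme.Modules.pullbackComp g' b).hom.app E)).app G)) ≫
        (Scheme.Modules.pushforwardComp g' b).hom.app _ =
      (DCoh.tensorBi.obj E).map ((Scheme.Modules.pushforwardComp g' b).hom.app G) ≫ projHom (g' ≫ b) E G := by
  refine hom_ext_tmul fun U e x => ?_
  change (DCoh.toP.map (((DCoh.tensorBi (X := T')).map ((Scheme.Modules.pullbackComp g' b).hom.app E)).app G)).app
        (op (g' ⁻¹ᵁ b ⁻¹ᵁ U))
      ((DCoh.toP.map (projHom g' ((Scheme.Modules.pullback b).obj E) G)).app (op (b ⁻¹ᵁ U))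
        ((DCoh.toP.map (projHom b E ((Scheme.Modules.pushforward g').obj G))).app (op U) (tmulSec E _ U e x))) =
    (DCoh.toP.map (projHom (g' ≫ b) E G)).app (op U)
      ((DCoh.toP.map ((DCoh.tensorBi.obj E).map ((Scheme.Modules.pushforwardComp g' b).hom.app G))).app (op U)
        (tmulSec E _ U e x))
  refine (congrArg (fun z => (DCoh.toP.map (((DCoh.tensorBi (X := T')).map
    ((Scheme.Modules.pullbackComp g' b).hom.app E)).app G)).app (op (g' ⁻¹ᵁ b ⁻¹ᵁ U))
      ((DCoh.toP.map (projHom g' ((Scheme.Modules.pullback b).obj E) G)).app (op (b ⁻¹ᵁ U)) z))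
    (projHom_tmulSec b E ((Scheme.Modules.pushforward g').obj G) U e x)).trans ?_
  refine (congrArg _ (projHom_tmulSec g' _ G (b ⁻¹ᵁ U) _ x)).trans ?_
  refine (map_left_tmulSec _ G (g' ⁻¹ᵁ b ⁻¹ᵁ U) _ x).trans ?_
  refine Eq.trans ?_ (congrArg _ (map_right_tmulSec E _ U e x)).symm
  refine Eq.trans ?_ (projHom_tmulSec (g' ≫ b) E G U e _).symm
  refine congrArg (fun c => tmulSec _ G (g' ⁻¹ᵁ b ⁻¹ᵁ U) c x) ?_
  exact congrArg (fun φ => (DCoh.toP.map φ).app (op U) e) (unit_pullbackComp g' b E)

/-- Base change with coefficients is invertible on direct images which are affine over the base. -/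
theorem isIso_squareHom_pushforward (h : IsPullback p' g f p) (h' : IsPullback p'' g' f' p')
    [IsAffineHom f'] [IsAffineHom (f' ≫ f)] (K : Z.Modules) [K.IsQuasicoherent] (M : X''.Modules)
    [M.IsQuasicoherent] : IsIso (squareHom h K ((Scheme.Modules.pushforward f').obj M)) := by
  let h'' : IsPullback p'' (g' ≫ g) (f' ≫ f) p := h'.paste_vert h
  haveI : IsAffineHom g' := MorphismProperty.of_isPullback h' ‹IsAffineHom f'›
  haveI : IsAffineHom (g' ≫ g) := MorphismProperty.of_isPullback h'' ‹IsAffineHom (f' ≫ f)›
  let β := AffBC.bcMap h' M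
  haveI : IsIso β := AffBC.isIso_bcMap h' M
  let G := (Scheme.Modules.pullback p'').obj M
  haveI : G.IsQuasicoherent := VA.isQCoh_pullback p'' (M := M) inferInstance
  haveI : ((Scheme.Modules.pullback g).obj K).IsQuasicoherent := VA.isQCoh_pullback g (M := K) inferInstance
  haveI hb : IsIso (AffBC.bcMap h ((Scheme.Modules.pushforward f').obj M) ≫ (Scheme.Modules.pushforward g).map β) := by
    haveI := AffBC.isIso_bcMap h'' M
    haveI hc : IsIso ((Scheme.Modules.pullback p).map ((Scheme.Modules.pushforwardComp f' f).inv.app M) ≫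
        (AffBC.bcMap h ((Scheme.Modules.pushforward f').obj M) ≫ (Scheme.Modules.pushforward g).map β) ≫
        (Scheme.Modules.pushforwardComp g' g).hom.app G) := by
      simp only [Category.assoc]
      rw [bcMap_comp h h' h'' M]
      infer_instance
    haveI := @IsIso.of_isIso_comp_left _ _ _ _ _ ((Scheme.Modules.pullback p).map ((Scheme.Modules.pushforwardComp f' f).inv.app M)) _ inferInstance hc
    exact IsIso.of_isIso_comp_right _ ((Scheme.Modules.pushforwardComp g' g).hom.app G)
  haveI hp : IsIso (projHom g K ((Scheme.Modules.pushforward g').obj G)) := by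
    haveI := isIso_projHom_affine (g' ≫ g) G K
    haveI := isIso_projHom_affine g' G ((Scheme.Modules.pullback g).obj K)
    haveI hr : IsIso ((Scheme.Modules.pushforward g).map (projHom g' ((Scheme.Modules.pullback g).obj K) G ≫
        (Scheme.Modules.pushforward g').map
          (((DCoh.tensorBi (X := Z'')).map ((Scheme.Modules.pullbackComp g' g).hom.app K)).app G)) ≫
        (Scheme.Modules.pushforwardComp g' g).hom.app _) := inferInstance
    have e := projHom_comp g' g K G
    exact @IsIso.of_isIso_fac_right _ _ _ _ _ _ _ _ hr inferInstance e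
  have e : squareHom h K ((Scheme.Modules.pushforward f').obj M) ≫ (Scheme.Modules.pushforward g).map
      ((DCoh.tensorBi.obj ((Scheme.Modules.pullback g).obj K)).map β) =
      (DCoh.tensorBi.obj K).map (AffBC.bcMap h ((Scheme.Modules.pushforward f').obj M) ≫
        (Scheme.Modules.pushforward g).map β) ≫ projHom g K ((Scheme.Modules.pushforward g').obj G) := by
    unfold squareHom
    rw [Category.assoc]
    erw [← (projNat g K).naturality β]
    rw [Functor.map_comp, Category.assoc]
    rfl
  haveI : IsIso (squareHom h K ((Scheme.Modules.pushforward f').obj M) ≫ (Scheme.Modules.pushforward g).map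
      ((DCoh.tensorBi.obj ((Scheme.Modules.pullback g).obj K)).map β)) := by rw [e]; infer_instance
  exact IsIso.of_isIso_comp_right _ ((Scheme.Modules.pushforward g).map
      ((DCoh.tensorBi.obj ((Scheme.Modules.pullback g).obj K)).map β))

end Comp

end GrothLib.FunMor20
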