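import Groth.Agent.Lib.OX.SumSections
import Groth.Agent.Lib.AffHom.Basic
import Groth.Agent.Lib.QCoh.Extension
import Groth.Agent.Lib.QCoh.Coherent
import Mathlib.AlgebraicGeometry.Morphisms.QuasiCompact

/-!
# Direct images along quasi-compact morphisms commute with direct sums
-/

set_option autoImplicit false
set_option linter.style.haveILetI false

universe u

open CategoryTheory CategoryTheory.Limits AlgebraicGeometry Opposite TopologicalSpace

noncomputable section

attribute [local instance] Classical.decEq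

namespace GrothLib.FunMor20

variable {Z Y : Scheme.{u}}

theorem exists_eq_sum {ι : Type u} (M : ι → Z.Modules) {T : Z.Opens} (hT : IsCompact (T : Set Z)) (t : Γ(∐ M, T)) :
    ∃ s : Finset ι, t = ∑ k ∈ s, (Sigma.ι M k).app T ((Sigma.π M k).app T t) := by
  let e := OX.genSecAdd (∐ M) T
  obtain ⟨a, ha⟩ := OX.finHom_genF M hT (e.symm t)
  have hc : ∀ k, e.symm t ≫ Sigma.π M k = a k := fun k => by rw [← ha, TriCat.homSum_π]
  refine ⟨a.support, (e.apply_symm_apply t).symm.trans ((congrArg e ha.symm).trans ?_)⟩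
  conv_lhs => rw [← DirectSum.sum_support_of a, map_sum, map_sum]
  refine Finset.sum_congr rfl fun k _ => ?_
  rw [TriCat.homSum_of, ← hc]
  refine (SiteDer.secMod_comp T _ _).trans ?_
  refine congrArg ((Sigma.ι M k).app T) ?_
  refine (SiteDer.secMod_comp T (e.symm t) (Sigma.π M k)).trans ?_
  exact congrArg ((Sigma.π M k).app T) (e.apply_symm_apply t)

theorem preservesColimitsOfShape_pushforward_discrete (q : Z ⟶ Y) [QuasiCompact q] (ι : Type u) :
    PreservesColimitsOfShape (Discrete ι) (Scheme.Modules.pushforward q) := by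
  suffices h : ∀ M : ι → Z.Modules, PreservesColimit (Discrete.functor M) (Scheme.Modules.pushforward q) from
    preservesColimitsOfShape_of_discrete _
  intro M
  let P := Scheme.Modules.pushforward q
  let γ : (∐ fun k => P.obj (M k)) ⟶ P.obj (∐ M) := Sigma.desc fun k => P.map (Sigma.ι M k)
  have hγ : ∀ k, Sigma.ι (fun k => P.obj (M k)) k ≫ γ = P.map (Sigma.ι M k) := fun k => Sigma.ι_desc _ _
  have happ : ∀ (U : Y.Opens) (k : ι) (m : Γ(P.obj (M k), U)),
      γ.app U ((Sigma.ι (fun k => P.obj (M k)) k).app U m) = (Sigma.ι M k).app (q ⁻¹ᵁ U) m := fun U k m => by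
    rw [← ConcreteCategory.comp_apply, ← Scheme.Modules.Hom.comp_app, hγ]
    rfl
  have hπ : ∀ (T : Z.Opens) (k l : ι) (m : Γ(M k, T)),
      (Sigma.π M l).app T ((Sigma.ι M k).app T m) = (Sigma.ι M k ≫ Sigma.π M l).app T m := fun _ _ _ _ => rfl
  have hb : ∀ U : Y.affineOpens, Function.Bijective (γ.app U.1) := fun U => by
    have hc : IsCompact ((q ⁻¹ᵁ U.1 : Z.Opens) : Set Z) := q.isCompact_preimage U.2.isCompact
    refine ⟨(injective_iff_map_eq_zero _).2 fun z hz => ?_, fun t => ?_⟩
    · obtain ⟨s, hs⟩ := exists_eq_sum (fun k => P.obj (M k)) U.2.isCompact z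
      let w : ∀ k, Γ(M k, q ⁻¹ᵁ U.1) := fun k => (Sigma.π (fun k => P.obj (M k)) k).app U.1 z
      have hw : ∀ l ∈ s, w l = 0 := fun l hl => by
        have h1 : (0 : Γ(M l, q ⁻¹ᵁ U.1)) =
            (Sigma.π M l).app _ (∑ k ∈ s, (Sigma.ι M k).app (q ⁻¹ᵁ U.1) (w k)) := by
          refine (map_zero ((Sigma.π M l).app (q ⁻¹ᵁ U.1)).hom).symm.trans (congrArg _ ?_)
          refine hz.symm.trans ?_
          refine (congrArg (γ.app U.1) hs).trans ?_
          rw [map_sum]
          exact Finset.sum_congr rfl fun k _ => happ _ _ _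
        rw [map_sum, Finset.sum_eq_single l (fun k _ hk => ?_) (absurd hl)] at h1
        · rw [hπ, Sigma.ι_π_eq_id] at h1
          exact h1.symm
        · rw [hπ, Sigma.ι_π_of_ne _ hk]
          rfl
      rw [hs]
      refine Finset.sum_eq_zero fun k hk => ?_
      rw [show (Sigma.π (fun k => P.obj (M k)) k).app U.1 z = 0 from hw k hk, map_zero]
    · obtain ⟨s, hs⟩ := exists_eq_sum M hc t
      refine ⟨∑ k ∈ s, (Sigma.ι (fun k => P.obj (M k)) k).app U.1 ((Sigma.π M k).app (q ⁻¹ᵁ U.1) t), ?_⟩
      rw [map_sum]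
      exact (Finset.sum_congr rfl fun k _ => happ _ _ _).trans hs.symm
  obtain ⟨e, he⟩ := AffHom.exists_iso (M := ∐ fun k => P.obj (M k)) (N := P.obj (∐ M))
    (fun U => LinearEquiv.ofBijective (QCoh.appLinear γ U.1) (hb U)) (fun U V h m => QCoh.map_app γ (homOfLE h) m)
  haveI : IsIso (sigmaComparison P M) := by
    rw [show sigmaComparison P M = e.hom from AffHom.hom_ext fun U m => (he U m).symm]
    infer_instance
  exact PreservesCoproduct.of_iso_comparison P M

end GrothLib.FunMor20
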