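import Groth.Agent.Lib.OX.ProjLocal
import Groth.Agent.Lib.OX.RRLocal
import Groth.Agent.Lib.OX.ProjClosed
import Groth.Agent.Lib.DirImg8.Colim
import Groth.Agent.Lib.FinCov.FrameFree
import Groth.Agent.Lib.VA.QCohPullback
import Groth.Agent.Lib.VA.Tensor
import Groth.Agent.Lib.QCoh.Extension
import Groth.Agent.Lib.OX.AffineReflect
import Groth.Agent.Lib.WeakAss.Structure

/-!
# The projection formula for affine morphisms
-/

set_option autoImplicit false
set_option linter.style.haveILetI false
set_option backward.isDefEq.respectTransparency.types false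
set_option maxHeartbeats 1000000

universe u

open CategoryTheory CategoryTheory.Limits AlgebraicGeometry Opposite TopologicalSpace
open GrothLib.ProjFormula (projHom projHom_natural)

noncomputable section

namespace GrothLib.FunMor20

/-- The free module on the global sections. -/
def freeCover {V : Scheme.{u}} (M : V.Modules) : (∐ fun _ : Γ(M, ⊤) => Coh.structureModule V) ⟶ M :=
  Sigma.desc fun s => FinCov.homOfSection s

theorem epi_freeCover {V : Scheme.{u}} [IsAffine V] (M : V.Modules) [M.IsQuasicoherent] : Epi (freeCover M) := by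
  let C := ∐ fun _ : Γ(M, ⊤) => Coh.structureModule V
  haveI : C.IsQuasicoherent := QCoh.isQuasicoherent_colimit _ fun _ => WeakAss.isQuasicoherent_structureModule
  haveI := QCoh.isQuasicoherent_kernel (freeCover M)
  haveI := QCoh.isQuasicoherent_cokernel (freeCover M)
  let μ := cokernel.π (freeCover M)
  haveI := QCoh.isQuasicoherent_kernel μ
  have hS : (ShortComplex.mk (kernel.ι μ) μ (kernel.condition μ)).ShortExact :=
    { exact := ShortComplex.exact_kernel μ }
  refine Preadditive.epi_of_cokernel_zero (IsZero.eq_of_tgt ?_ _ _)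
  refine OX.isZero_of_affine_cover (QCoh.isQuasicoherent_cokernel (freeCover M)) (fun _ : PUnit.{1} => (⊤ : V.Opens))
    (fun _ => isAffineOpen_top V) (fun x => ⟨PUnit.unit, trivial⟩) fun _ t => ?_
  obtain ⟨s, rfl⟩ := QCoh.app_surjective_of_isAffineOpen hS (isAffineOpen_top V) t
  have h1 : Sigma.ι (fun _ : Γ(M, ⊤) => Coh.structureModule V) s ≫ freeCover M = FinCov.homOfSection s :=
    Sigma.ι_desc _ _
  have h2 : FinCov.homOfSection s ≫ μ = 0 := by rw [← h1, Category.assoc, cokernel.condition, comp_zero]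
  have h3 : (FinCov.homOfSection s).app ⊤ (FinCov.one V ⊤) = s :=
    (FinCov.homOfSection_one s ⊤).trans (Cohom.map_self_apply M _ s)
  have h4 := congrArg (fun ψ => Scheme.Modules.Hom.app ψ ⊤ (FinCov.one V ⊤)) h2
  simp only [Scheme.Modules.Hom.comp_app] at h4
  rw [← h3]
  exact h4

variable {X Y : Scheme.{u}} (f : X ⟶ Y) [IsAffineHom f] (G : X.Modules) [G.IsQuasicoherent] (V : Y.Opens)

theorem qcoh_pull_tensor_restrict (E : Y.Modules)
    [hE : ((Scheme.Modules.restrictFunctor V.ι).obj E).IsQuasicoherent] :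
    ((Scheme.Modules.restrictFunctor (f ⁻¹ᵁ V).ι).obj
      (((DCoh.tensorBi (X := X)).obj ((Scheme.Modules.pullback f).obj E)).obj G)).IsQuasicoherent := by
  let r := Scheme.Modules.restrictFunctorIsoPullback (f ⁻¹ᵁ V).ι
  have h1 : Coh.IsQCoh ((Scheme.Modules.pullback (f ⁻¹ᵁ V).ι).obj ((Scheme.Modules.pullback f).obj E)) :=
    @QCoh.isQuasicoherent_of_iso _ _ _ ((OX.pullRestrictIso f V).app E ≪≫ r.app _) (VA.isQCoh_pullback _ hE)
  haveI h2 : (((DCoh.tensorBi (X := (f ⁻¹ᵁ V : X.Opens))).obj _).obj _).IsQuasicoherent :=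
    VA.isQCoh_tensor h1 (VA.isQCoh_pullback (f ⁻¹ᵁ V).ι (M := G) inferInstance)
  exact QCoh.isQuasicoherent_of_iso (r.app _ ≪≫ OX.pullTensorIso (f ⁻¹ᵁ V).ι _ G).symm

/-- The two sides over `V`. -/
abbrev lhsF : Y.Modules ⥤ (V : Scheme.{u}).Modules :=
  (DCoh.tensorBi (X := Y)).flip.obj ((Scheme.Modules.pushforward f).obj G) ⋙ Scheme.Modules.restrictFunctor V.ι

abbrev rhsF : Y.Modules ⥤ (V : Scheme.{u}).Modules :=
  (Scheme.Modules.pullback f ⋙ (DCoh.tensorBi (X := X)).flip.obj G ⋙ Scheme.Modules.pushforward f) ⋙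
    Scheme.Modules.restrictFunctor V.ι

def projNatV : lhsF f G V ⟶ rhsF f G V where
  app E := (Scheme.Modules.restrictFunctor V.ι).map (projHom f E G)
  naturality E E' a :=
    ((Scheme.Modules.restrictFunctor V.ι).map_comp _ _).symm.trans
      ((congrArg (Scheme.Modules.restrictFunctor V.ι).map (projHom_natural f a G)).trans
        ((Scheme.Modules.restrictFunctor V.ι).map_comp _ _))

theorem preservesColimit_rhsF {J : Type u} [SmallCategory J] (D : J ⥤ Y.Modules)
    (hD : ∀ j, ((Scheme.Modules.restrictFunctor V.ι).obj (D.obj j)).IsQuasicoherent) :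
    PreservesColimit D (rhsF f G V) := by
  let W := f ⁻¹ᵁ V
  let H := Scheme.Modules.pullback f ⋙ (DCoh.tensorBi (X := X)).flip.obj G ⋙ Scheme.Modules.restrictFunctor W.ι
  haveI : PreservesColimitsOfSize.{u, u} (Scheme.Modules.pullback f) :=
    (Scheme.Modules.pullbackPushforwardAdjunction f).leftAdjoint_preservesColimits
  haveI : PreservesColimitsOfSize.{u, u} ((DCoh.tensorBi (X := X)).flip.obj G) :=
    OX.preservesColimitsOfSize_tensorBi_flip_obj G
  haveI : PreservesColimitsOfSize.{u, u} (Scheme.Modules.restrictFunctor W.ι) :=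
    (Scheme.Modules.restrictAdjunction W.ι).leftAdjoint_preservesColimits
  haveI : IsAffineHom (f ∣_ V) := IsZariskiLocalAtTarget.restrict ‹IsAffineHom f› V
  haveI : PreservesColimit (D ⋙ H) (Scheme.Modules.pushforward (f ∣_ V)) :=
    DirImg8.preservesColimit_pushforward (f ∣_ V) (D ⋙ H) fun j => by
      haveI := hD j
      exact qcoh_pull_tensor_restrict f G V (D.obj j)
  haveI : PreservesColimit D (H ⋙ Scheme.Modules.pushforward (f ∣_ V)) := inferInstance
  haveI : PreservesColimit D ((Scheme.Modules.pullback f ⋙ (DCoh.tensorBi (X := X)).flip.obj G) ⋙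
      Scheme.Modules.restrictFunctor W.ι ⋙ Scheme.Modules.pushforward (f ∣_ V)) :=
    ‹PreservesColimit D (H ⋙ Scheme.Modules.pushforward (f ∣_ V))›
  exact preservesColimit_of_natIso D
    (Functor.isoWhiskerLeft (Scheme.Modules.pullback f ⋙ (DCoh.tensorBi (X := X)).flip.obj G)
      (OX.pushRestrictIso f V)).symm

theorem preservesColimit_lhsF {J : Type u} [SmallCategory J] (D : J ⥤ Y.Modules) :
    PreservesColimit D (lhsF f G V) := by
  haveI := OX.preservesColimitsOfSize_tensorBi_flip_obj ((Scheme.Modules.pushforward f).obj G)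
  haveI : PreservesColimitsOfSize.{u, u} (Scheme.Modules.restrictFunctor V.ι) :=
    (Scheme.Modules.restrictAdjunction V.ι).leftAdjoint_preservesColimits
  infer_instance

/-- Good over `V`. -/
def Good (E : Y.Modules) : Prop :=
  ((Scheme.Modules.restrictFunctor V.ι).obj E).IsQuasicoherent ∧ IsIso ((projNatV f G V).app E)

theorem good_colim {J : Type u} [SmallCategory J] {D : J ⥤ Y.Modules} {c : Cocone D} (hc : IsColimit c)
    (h : ∀ j, Good f G V (D.obj j)) : Good f G V c.pt := by
  haveI := preservesColimit_lhsF f G V D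
  haveI := preservesColimit_rhsF f G V D fun j => (h j).1
  haveI : PreservesColimitsOfSize.{u, u} (Scheme.Modules.restrictFunctor V.ι) :=
    (Scheme.Modules.restrictAdjunction V.ι).leftAdjoint_preservesColimits
  refine ⟨?_, OX.isIso_app_of_isColimit _ hc fun j => (h j).2⟩
  let hc' := isColimitOfPreserves (Scheme.Modules.restrictFunctor V.ι) hc
  exact @QCoh.isQuasicoherent_of_iso _ _ _ ((colimit.isColimit _).coconePointUniqueUpToIso hc')
    (QCoh.isQuasicoherent_colimit (D ⋙ Scheme.Modules.restrictFunctor V.ι) fun j => (h j).1)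

theorem good_extZero_structure : Good f G V ((CxOX.extZero V.ι).obj (Coh.structureModule (V : Scheme.{u}))) := by
  let O := Coh.structureModule (V : Scheme.{u})
  let e₀ : (Scheme.Modules.restrictFunctor V.ι).obj ((CxOX.extZero V.ι).obj O) ≅ O :=
    ((asIso (CxOX.extZeroAdj V.ι).unit).app O).symm
  refine ⟨QCoh.isQuasicoherent_of_iso e₀.symm, ?_⟩
  exact OX.projGood_of_free f V (n := 1) (e₀ ≪≫ (coproductUniqueIso fun _ : Fin 1 => O).symm) G

/-- **The projection formula for an affine morphism.** -/
theorem isIso_projHom_affine (E : Y.Modules) [E.IsQuasicoherent] : IsIso (projHom f E G) := by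
  refine OX.isIso_of_restrict_cover _ (fun U : Y.affineOpens => U.1) (fun y => ?_) fun V => ?_
  · obtain ⟨U, hU, hy, -⟩ := exists_isAffineOpen_mem_and_subset (x := y) (U := ⊤) trivial
    exact ⟨⟨U, hU⟩, hy⟩
  haveI : IsAffine (V.1 : Scheme.{u}) := V.2
  let R := Scheme.Modules.restrictFunctor V.1.ι
  let Z := CxOX.extZero V.1.ι
  let M := R.obj E
  haveI : M.IsQuasicoherent := inferInstanceAs (E.restrict V.1.ι).IsQuasicoherent
  haveI := epi_freeCover M
  haveI : (∐ fun _ : Γ(M, ⊤) => Coh.structureModule (V.1 : Scheme.{u})).IsQuasicoherent :=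
    QCoh.isQuasicoherent_colimit _ fun _ => WeakAss.isQuasicoherent_structureModule
  haveI := QCoh.isQuasicoherent_kernel (freeCover M)
  haveI := epi_freeCover (kernel (freeCover M))
  let a := freeCover (kernel (freeCover M)) ≫ kernel.ι (freeCover M)
  have hw : a ≫ freeCover M = 0 := by simp [a]
  have hex : (ShortComplex.mk a (freeCover M) hw).Exact := by
    rw [ShortComplex.exact_iff_epi_kernel_lift]
    have : kernel.lift (freeCover M) a hw = freeCover (kernel (freeCover M)) := by
      rw [← cancel_mono (kernel.ι (freeCover M)), kernel.lift_ι]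
    rw [this]
    infer_instance
  haveI : PreservesColimitsOfSize.{u, u} Z := (CxOX.extZeroAdj V.1.ι).leftAdjoint_preservesColimits
  haveI : PreservesColimitsOfSize.{0, 0} Z := preservesSmallestColimits_of_preservesColimits _
  have hfree : ∀ ι : Type u, Good f G V.1 (Z.obj (∐ fun _ : ι => Coh.structureModule (V.1 : Scheme.{u}))) := fun ι =>
    good_colim f G V.1 (isColimitOfPreserves Z (coproductIsCoproduct fun _ : ι => Coh.structureModule (V.1 : Scheme.{u})))
      fun _ => good_extZero_structure f G V.1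
  have hZM : Good f G V.1 (Z.obj M) := by
    let D := parallelPair a 0 ⋙ Z
    let hc := isColimitOfPreserves Z hex.gIsCokernel
    let eS : AsSmall.{u} WalkingParallelPair ≌ WalkingParallelPair := AsSmall.equiv.symm
    refine good_colim f G V.1 (hc.whiskerEquivalence eS) fun j => ?_
    show Good f G V.1 (Z.obj ((parallelPair a 0).obj (eS.functor.obj j)))
    rcases eS.functor.obj j with _ | _ <;> exact hfree _
  let a₀ := OX.epsZ V.1.ι E
  haveI hτ : IsIso ((projNatV f G V.1).app (Z.obj M)) := hZM.2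
  haveI h1 : IsIso ((lhsF f G V.1).map a₀) :=
    OX.isIso_restrict_tensor_left V.1.ι a₀ (OX.isIso_restrict_epsZ V.1.ι E) _
  haveI h2 : IsIso ((rhsF f G V.1).map a₀) := by
    refine OX.isIso_restrict_push f V.1 _ (OX.isIso_restrict_tensor_left _ _ ?_ G)
    have hI : IsIso (R.map a₀) := OX.isIso_restrict_epsZ V.1.ι E
    exact (NatIso.isIso_map_iff (OX.pullRestrictIso f V.1) a₀).1
      (inferInstanceAs (IsIso ((Scheme.Modules.pullback (f ∣_ V.1)).map (R.map a₀))))
  exact @IsIso.of_isIso_fac_left _ _ _ _ _ _ _ _ h1 (@IsIso.comp_isIso _ _ _ _ _ _ _ hτ h2)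
    ((projNatV f G V.1).naturality a₀)

end GrothLib.FunMor20
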