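import Groth.Agent.Lib.FunMor20.Exact
import Groth.Agent.Lib.FunMor20.ProjAffine
import Groth.Agent.Lib.FunMor20.Coprod
import Groth.Agent.Lib.QCohCat20.Category
import Groth.Agent.Lib.QCohCat20.Compact
import Mathlib.Algebra.Homology.ShortComplex.ExactFunctor

/-!
# Functors out of quasi-coherent modules: generators, cogenerators and exactness
-/

set_option autoImplicit false
set_option linter.style.haveILetI false
set_option linter.style.longLine false
set_option maxHeartbeats 1000000
set_option backward.isDefEq.respectTransparency.types false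

universe u v' u'

open CategoryTheory CategoryTheory.Limits AlgebraicGeometry Opposite TopologicalSpace

noncomputable section

namespace GrothLib.FunMor20

/-- A natural transformation between functors preserving kernels is invertible once it is so on objects
cogenerating in the sense of monomorphisms. -/
theorem isIso_app_of_cogenerators {A : Type u'} [Category.{v'} A] [Abelian A] {B : Type*} [Category B]
    [HasZeroMorphisms B] {F G : A ⥤ B} [F.PreservesZeroMorphisms] [G.PreservesZeroMorphisms]
    [PreservesFiniteLimits F] [PreservesFiniteLimits G] (τ : F ⟶ G)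
    (h : ∀ N : A, ∃ (N₀ : A) (m : N ⟶ N₀), Mono m ∧ IsIso (τ.app N₀)) (N : A) : IsIso (τ.app N) := by
  obtain ⟨N₀, m, hm, h₀⟩ := h N
  obtain ⟨N₁, m', hm', h₁⟩ := h (cokernel m)
  let d := cokernel.π m ≫ m'
  let hN : IsLimit (KernelFork.ofι m (show m ≫ d = 0 by simp [d])) :=
    isKernelCompMono (Abelian.monoIsKernelOfCokernel (CokernelCofork.ofπ (cokernel.π m) (cokernel.condition m)) (cokernelIsCokernel m)) m' rfl
  let hF := isLimitForkMapOfIsLimit' F _ hN
  let hG := isLimitForkMapOfIsLimit' G _ hN
  obtain ⟨ψ, hψ⟩ := KernelFork.IsLimit.lift' hF (G.map m ≫ inv (τ.app N₀)) (by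
    rw [← cancel_mono (τ.app N₁), Category.assoc, Category.assoc, τ.naturality, IsIso.inv_hom_id_assoc,
      ← G.map_comp, show m ≫ d = 0 by simp [d], G.map_zero, zero_comp])
  have hψ' : ψ ≫ F.map m = G.map m ≫ inv (τ.app N₀) := hψ
  refine ⟨ψ, Fork.IsLimit.hom_ext hF ?_, Fork.IsLimit.hom_ext hG ?_⟩
  · show (τ.app N ≫ ψ) ≫ F.map m = 𝟙 _ ≫ F.map m
    rw [Category.assoc, hψ', ← τ.naturality_assoc, IsIso.hom_inv_id, Category.comp_id, Category.id_comp]
  · show (ψ ≫ τ.app N) ≫ G.map m = 𝟙 _ ≫ G.map m
    rw [Category.assoc, ← τ.naturality, reassoc_of% hψ', IsIso.inv_hom_id, Category.comp_id, Category.id_comp]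

section Generator

variable {U : Scheme.{u}}

/-- The structure module as a quasi-coherent module. -/
abbrev qO (U : Scheme.{u}) : QCohCat.QCoh U := ⟨Coh.structureModule U, WeakAss.isQuasicoherent_structureModule⟩

variable [IsAffine U]

theorem exists_epi_free (M : QCohCat.QCoh U) :
    ∃ (ι : Type u) (c : Cofan fun _ : ι => qO U) (_ : IsColimit c) (π : c.pt ⟶ M), Epi π := by
  haveI : M.obj.IsQuasicoherent := M.property
  let ι := Γ(M.obj, ⊤)
  let C : U.Modules := ∐ fun _ : ι => Coh.structureModule U
  have hC : QCohCat.isQCoh U C := QCoh.isQuasicoherent_colimit _ fun _ => WeakAss.isQuasicoherent_structureModule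
  let c : Cofan fun _ : ι => qO U := Cofan.mk ⟨C, hC⟩ fun i => ObjectProperty.homMk (Sigma.ι (fun _ : ι => Coh.structureModule U) i)
  refine ⟨ι, c, ?_, ObjectProperty.homMk (freeCover M.obj), ?_⟩
  · exact mkCofanColimit c (fun s => ObjectProperty.homMk (Sigma.desc fun i => (s.inj i).hom))
      (fun s i => ObjectProperty.hom_ext _ (Sigma.ι_desc _ _))
      fun s k hk => ObjectProperty.hom_ext _ (Sigma.hom_ext _ _ fun i => by
        rw [ObjectProperty.homMk_hom, Sigma.ι_desc]
        exact congrArg InducedCategory.Hom.hom (hk i))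
  · haveI := epi_freeCover M.obj
    exact ⟨fun a b h => ObjectProperty.hom_ext _ ((cancel_epi (freeCover M.obj)).1 (congrArg InducedCategory.Hom.hom h))⟩

/-- A natural transformation of right exact functors preserving coproducts is invertible once it is so on
the structure module. -/
theorem isIso_app_of_generator {B : Type u'} [Category.{v'} B] [HasZeroMorphisms B] {F G : QCohCat.QCoh U ⥤ B}
    [F.PreservesZeroMorphisms] [G.PreservesZeroMorphisms] [PreservesFiniteColimits F] [PreservesFiniteColimits G]
    [∀ J : Type u, PreservesColimitsOfShape (Discrete J) F] [∀ J : Type u, PreservesColimitsOfShape (Discrete J) G]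
    (τ : F ⟶ G) (h : IsIso (τ.app (qO U))) (M : QCohCat.QCoh U) : IsIso (τ.app M) := by
  have hfree : ∀ {ι : Type u} {c : Cofan fun _ : ι => qO U}, IsColimit c → IsIso (τ.app c.pt) := fun hc =>
    OX.isIso_app_of_isColimit τ hc fun _ => h
  obtain ⟨ι, c, hc, π, hπ⟩ := exists_epi_free M
  obtain ⟨ι', c', hc', π', hπ'⟩ := exists_epi_free (kernel π)
  have hex : (ShortComplex.mk (π' ≫ kernel.ι π) π (by simp)).Exact := by
    rw [ShortComplex.exact_iff_epi_kernel_lift]
    have : kernel.lift π (π' ≫ kernel.ι π) (by simp) = π' := by rw [← cancel_mono (kernel.ι π), kernel.lift_ι]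
    rw [this]
    exact hπ'
  refine OX.isIso_app_of_isColimit τ hex.gIsCokernel fun j => ?_
  rcases j with _ | _
  · exact hfree hc'
  · exact hfree hc

end Generator

section Exact

variable {X Z Z' : Scheme.{u}}

theorem preservesColimitsOfSize_pullback_tensor (a : Z' ⟶ Z) (L : Z'.Modules) :
    PreservesColimitsOfSize.{u, u} (Scheme.Modules.pullback a ⋙ DCoh.tensorRightMod L) :=
  haveI : PreservesColimitsOfSize.{u, u} (DCoh.tensorRightMod L) :=
    inferInstanceAs (PreservesColimitsOfSize.{u, u} ((DCoh.tensorBi).flip.obj L))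
  haveI : PreservesColimitsOfSize.{u, u} (Scheme.Modules.pullback a) :=
    (Scheme.Modules.pullbackPushforwardAdjunction a).leftAdjoint_preservesColimits
  inferInstance

theorem preservesFiniteColimits_pullback_tensor (a : Z' ⟶ Z) (L : Z'.Modules) :
    PreservesFiniteColimits (Scheme.Modules.pullback a ⋙ DCoh.tensorRightMod L) :=
  haveI := preservesColimitsOfSize_pullback_tensor a L
  preservesFiniteColimits_of_preservesFiniteColimitsOfSize.{u} _ fun _ _ _ => inferInstance

/-- Tensoring with a flat kernel after pullback keeps exactness. -/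
theorem exact_pullback_tensor {A : Type u'} [Category.{v'} A] [Abelian A] (H : A ⥤ Z.Modules)
    [PreservesFiniteLimits H] [PreservesFiniteColimits H] (a : Z' ⟶ Z) (L : Z'.Modules)
    (hL : FlatMod.IsFlatOver a L) :
    PreservesFiniteLimits (H ⋙ Scheme.Modules.pullback a ⋙ DCoh.tensorRightMod L) ∧
      PreservesFiniteColimits (H ⋙ Scheme.Modules.pullback a ⋙ DCoh.tensorRightMod L) := by
  let T := Scheme.Modules.pullback a ⋙ DCoh.tensorRightMod L
  haveI : PreservesFiniteColimits T := preservesFiniteColimits_pullback_tensor a L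
  haveI hG : PreservesFiniteColimits (H ⋙ T) := comp_preservesFiniteColimits H T
  haveI : PreservesBinaryBiproducts T := preservesBinaryBiproducts_of_preservesBinaryCoproducts T
  haveI : T.Additive := Functor.additive_of_preservesBinaryBiproducts T
  haveI : T.PreservesMonomorphisms := ⟨fun m _ => mono_pullback_tensor a L hL m⟩
  haveI : T.PreservesHomology := Functor.preservesHomology_of_preservesMonos_and_cokernels T
  haveI : PreservesFiniteLimits T := Functor.preservesFiniteLimits_of_preservesHomology T
  exact ⟨comp_preservesFiniteLimits H T, hG⟩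

theorem preservesFiniteLimits_comp_push {A : Type u'} [Category.{v'} A] (H : A ⥤ Z.Modules)
    [PreservesFiniteLimits H] (q : Z ⟶ X) : PreservesFiniteLimits (H ⋙ Coh.push q) :=
  haveI : PreservesLimitsOfSize.{0, 0} (Scheme.Modules.pushforward q) :=
    (Scheme.Modules.pullbackPushforwardAdjunction q).rightAdjoint_preservesLimits
  haveI : PreservesFiniteLimits (Coh.push q) := PreservesLimitsOfSize.preservesFiniteLimits _
  comp_preservesFiniteLimits H (Coh.push q)

/-- Direct image keeps exactness when the first higher direct images vanish. -/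
theorem exact_comp_push {A : Type u'} [Category.{v'} A] [Abelian A] (H : A ⥤ Z.Modules)
    [PreservesFiniteLimits H] [PreservesFiniteColimits H] (q : Z ⟶ X) [QuasiCompact q] [QuasiSeparated q]
    [HasInjectiveResolutions Z.Modules] (hq : ∀ a, (H.obj a).IsQuasicoherent)
    (hR : ∀ a, IsZero ((Coh.Rpush q 1).obj (H.obj a))) :
    PreservesFiniteLimits (H ⋙ Coh.push q) ∧ PreservesFiniteColimits (H ⋙ Coh.push q) := by
  let G := H ⋙ Coh.push q
  haveI : PreservesBinaryBiproducts H := preservesBinaryBiproducts_of_preservesBinaryCoproducts H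
  haveI : H.Additive := Functor.additive_of_preservesBinaryBiproducts H
  haveI : (Coh.push q).Additive := (Scheme.Modules.pullbackPushforwardAdjunction q).right_adjoint_additive
  haveI : G.Additive := inferInstance
  have hG : ∀ S : ShortComplex A, S.ShortExact → (S.map G).ShortExact := fun S hS => by
    have h2 := hS.map_of_exact H
    haveI : (S.map H).X₁.IsQuasicoherent := hq S.X₁
    haveI : (S.map H).X₃.IsQuasicoherent := hq S.X₃
    haveI : PreservesFiniteLimits (Coh.push q) :=
      haveI : PreservesLimitsOfSize.{0, 0} (Scheme.Modules.pushforward q) :=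
    (Scheme.Modules.pullbackPushforwardAdjunction q).rightAdjoint_preservesLimits
      PreservesLimitsOfSize.preservesFiniteLimits _
    exact
      { exact := h2.exact.map_of_mono_of_preservesKernel (Coh.push q) h2.mono_f inferInstance
        mono_f := by
          haveI : Mono (H.map S.f) := h2.mono_f
          exact (Coh.push q).map_mono (H.map S.f)
        epi_g := epi_push_of_Rpush q h2 (hR S.X₁) }
  exact ((Functor.exact_tfae G).out 0 3).1 hG

theorem preservesFiniteColimits_ι (X : Scheme.{u}) : PreservesFiniteColimits (ObjectProperty.ι (QCohCat.isQCoh X)) :=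
  preservesFiniteColimits_of_preservesFiniteColimitsOfSize.{u} _ fun _ _ _ =>
    ⟨fun {D} => QCohCat20.preservesColimit_ι D⟩

theorem preservesDiscrete_ι (X : Scheme.{u}) (J : Type u) :
    PreservesColimitsOfShape (Discrete J) (ObjectProperty.ι (QCohCat.isQCoh X)) :=
  ⟨fun {D} => QCohCat20.preservesColimit_ι D⟩

theorem preservesDiscrete_pullback_tensor {A : Type u'} [Category.{v'} A] (H : A ⥤ Z.Modules) (a : Z' ⟶ Z)
    (L : Z'.Modules) (J : Type u) [PreservesColimitsOfShape (Discrete J) H] :
    PreservesColimitsOfShape (Discrete J) (H ⋙ Scheme.Modules.pullback a ⋙ DCoh.tensorRightMod L) :=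
  haveI := preservesColimitsOfSize_pullback_tensor a L
  haveI : PreservesColimitsOfShape (Discrete J) (Scheme.Modules.pullback a ⋙ DCoh.tensorRightMod L) := inferInstance
  comp_preservesColimitsOfShape H (Scheme.Modules.pullback a ⋙ DCoh.tensorRightMod L)

end Exact

end GrothLib.FunMor20
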