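import Groth.Agent.Lib.FunMor20.BCProj
import Groth.Agent.Lib.FunMor20.Functors
import Groth.Agent.Lib.FinCov.FrameFree
import Groth.Agent.Lib.OX.Tensor
import Groth.Prelude.Def_KLin

/-!
# Multiplication by global functions, under pullback, direct image and tensor products
-/

set_option autoImplicit false
set_option linter.style.haveILetI false
set_option linter.style.longLine false
set_option maxHeartbeats 1000000
set_option backward.isDefEq.respectTransparency.types false

universe u

open CategoryTheory CategoryTheory.Limits AlgebraicGeometry Opposite TopologicalSpace MonoidalCategory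

noncomputable section

namespace GrothLib.FunMor20

open Formal (smulModΓ)

variable {X Y : Scheme.{u}}

theorem smulModΓ_app (M : X.Modules) (r : Γ(X, ⊤)) (U : X.Opens) (m : Γ(M, U)) :
    (smulModΓ M r).app U m = X.presheaf.map (homOfLE (le_top : U ≤ ⊤)).op r • m := rfl

theorem res_appTop (f : X ⟶ Y) (r : Γ(Y, ⊤)) {V : Y.Opens} {P : X.Opens} (e : P ≤ f ⁻¹ᵁ V) :
    f.appLE V P e (Y.presheaf.map (homOfLE (le_top : V ≤ ⊤)).op r) =
      X.presheaf.map (homOfLE (le_top : P ≤ ⊤)).op (f.appTop r) := by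
  rw [← ConcreteCategory.comp_apply, ← ConcreteCategory.comp_apply]
  refine congrArg (fun φ : Γ(Y, ⊤) ⟶ Γ(X, P) => φ r) ?_
  rw [Scheme.Hom.map_appLE]
  rfl

theorem pushforward_map_smulModΓ (f : X ⟶ Y) (M : X.Modules) (r : Γ(Y, ⊤)) :
    (Scheme.Modules.pushforward f).map (smulModΓ M (f.appTop r)) = smulModΓ ((Scheme.Modules.pushforward f).obj M) r := by
  refine Scheme.Modules.hom_ext _ _ fun U => ?_
  ext m
  refine Eq.trans ?_ (smulModΓ_app ((Scheme.Modules.pushforward f).obj M) r U m).symm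
  refine Eq.trans ?_ (QCoh.pushforward_smul f M _ m).symm
  refine Eq.trans (smulModΓ_app M (f.appTop r) (f ⁻¹ᵁ U) m) ?_
  refine congrArg (fun c : Γ(X, f ⁻¹ᵁ U) => c • (show Γ(M, f ⁻¹ᵁ U) from m)) ?_
  rw [← res_appTop f r (le_refl (f ⁻¹ᵁ U)), Scheme.Hom.appLE_eq_app]

theorem pullback_map_smulModΓ (f : X ⟶ Y) (M : Y.Modules) (r : Γ(Y, ⊤)) :
    (Scheme.Modules.pullback f).map (smulModΓ M r) = smulModΓ ((Scheme.Modules.pullback f).obj M) (f.appTop r) := by
  refine pullback_hom_ext fun V s => ?_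
  rw [smulModΓ_app]
  refine (QCoh.pullSec_natural f (smulModΓ M r) (le_refl _) s).trans ?_
  show QCoh.pullSec f M (le_refl _) (Y.presheaf.map (homOfLE (le_top : V ≤ ⊤)).op r • s) = _
  rw [QCoh.pullSec_smul, res_appTop]

theorem tensor_map_smulModΓ (M N : X.Modules) (r : Γ(X, ⊤)) :
    ((DCoh.tensorBi (X := X)).map (smulModΓ M r)).app N =
      smulModΓ (((DCoh.tensorBi (X := X)).obj M).obj N) r := by
  refine ProjFormula.hom_ext_tmul fun U s t => ?_
  rw [ProjFormula.map_left_tmulSec]
  show _ = (smulModΓ (((DCoh.tensorBi (X := X)).obj M).obj N) r).app U (OX.tmulSec M N U s t)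
  refine Eq.trans ?_ (smulModΓ_app (((DCoh.tensorBi (X := X)).obj M).obj N) r U (OX.tmulSec M N U s t)).symm
  exact OX.tmulSec_smul_left M N U (X.presheaf.map (homOfLE (le_top : U ≤ ⊤)).op r) s t

/-- Endomorphisms of the structure module are multiplications. -/
theorem exists_eq_smulModΓ (φ : Coh.structureModule X ⟶ Coh.structureModule X) :
    φ = smulModΓ (Coh.structureModule X) (φ.app ⊤ (FinCov.one X ⊤)) := by
  refine Scheme.Modules.hom_ext _ _ fun U => ?_
  ext m
  rw [smulModΓ_app]
  have h1 : (Coh.structureModule X).presheaf.map (homOfLE (le_top : U ≤ ⊤)).op (φ.app ⊤ (FinCov.one X ⊤)) =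
      φ.app U (FinCov.one X U) := by
    rw [QCoh.map_app]
    exact congrArg (φ.app U) (map_one (X.presheaf.map (homOfLE (le_top : U ≤ ⊤)).op).hom)
  have h2 : φ.app U m = (show Γ(X, U) from m) * (show Γ(X, U) from φ.app U (FinCov.one X U)) := by
    refine (congrArg (φ.app U) (show m = (show Γ(X, U) from m) • FinCov.one X U from (mul_one (show Γ(X, U) from m)).symm)).trans ?_
    exact Scheme.Modules.Hom.app_smul φ _ _
  refine h2.trans ?_
  refine Eq.trans (@mul_comm Γ(X, U) _ (show Γ(X, U) from m) _) ?_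
  exact congrArg (fun c : Γ(X, U) => c * (show Γ(X, U) from m)) h1.symm

theorem homOfSection_unique {N : X.Modules} {φ ψ : Coh.structureModule X ⟶ N}
    (h : φ.app ⊤ (FinCov.one X ⊤) = ψ.app ⊤ (FinCov.one X ⊤)) : φ = ψ := by
  refine Scheme.Modules.hom_ext _ _ fun U => ?_
  ext m
  have h1 : ∀ χ : Coh.structureModule X ⟶ N, χ.app U m = (show Γ(X, U) from m) •
      N.presheaf.map (homOfLE (le_top : U ≤ ⊤)).op (χ.app ⊤ (FinCov.one X ⊤)) := fun χ => by
    rw [QCoh.map_app]
    refine (congrArg (χ.app U) (show m = (show Γ(X, U) from m) • FinCov.one X U from (mul_one (show Γ(X, U) from m)).symm)).trans ?_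
    refine (Scheme.Modules.Hom.app_smul χ _ _).trans ?_
    exact congrArg (fun z => (show Γ(X, U) from m) • χ.app U z) (map_one (X.presheaf.map (homOfLE (le_top : U ≤ ⊤)).op).hom).symm
  rw [h1 φ, h1 ψ, h]

end GrothLib.FunMor20
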