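import Groth.Agent.Lib.FunMor20.Cover
import Groth.Agent.Lib.FunMor20.BCProj
import Groth.Agent.Lib.FunMor20.Scalar

/-!
# Modules supported in an open, in the sense of direct images
-/

set_option autoImplicit false
set_option linter.style.haveILetI false
set_option linter.style.longLine false
set_option linter.unusedSectionVars false
set_option maxHeartbeats 1000000
set_option backward.isDefEq.respectTransparency.types false

universe u

open CategoryTheory CategoryTheory.Limits AlgebraicGeometry Opposite TopologicalSpace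

noncomputable section

namespace GrothLib.FunMor20

variable {Z X : Scheme.{u}}

/-- The module is the direct image of its restriction. -/
def Supp (V : Z.Opens) (E : Z.Modules) : Prop :=
  IsIso ((Scheme.Modules.pullbackPushforwardAdjunction V.ι).unit.app E)

theorem isIso_counit_open {T : Scheme.{u}} (j : T ⟶ Z) [IsOpenImmersion j] :
    IsIso (Scheme.Modules.pullbackPushforwardAdjunction j).counit :=
  inferInstance

theorem supp_pushforward (V : Z.Opens) (N : (V : Scheme.{u}).Modules) :
    Supp V ((Scheme.Modules.pushforward V.ι).obj N) := by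
  let adj := Scheme.Modules.pullbackPushforwardAdjunction V.ι
  haveI := isIso_counit_open V.ι
  haveI : IsIso (adj.unit.app ((Scheme.Modules.pushforward V.ι).obj N) ≫ (Scheme.Modules.pushforward V.ι).map (adj.counit.app N)) := by
    erw [adj.right_triangle_components N]; infer_instance
  exact IsIso.of_isIso_comp_right _ ((Scheme.Modules.pushforward V.ι).map (adj.counit.app N))

theorem Supp.of_iso {V : Z.Opens} {E E' : Z.Modules} (e : E ≅ E') (hE : Supp V E) : Supp V E' := by
  haveI : IsIso ((Scheme.Modules.pullbackPushforwardAdjunction V.ι).unit.app E) := hE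
  have h := (Scheme.Modules.pullbackPushforwardAdjunction V.ι).unit.naturality e.hom
  simp only [Functor.id_map, Functor.comp_map] at h
  exact IsIso.of_isIso_fac_left h

theorem Supp.mono {V V' : Z.Opens} (hle : V' ≤ V) {E : Z.Modules} (hE : Supp V' E) : Supp V E := by
  haveI : IsIso ((Scheme.Modules.pullbackPushforwardAdjunction V'.ι).unit.app E) := hE
  let N := (Scheme.Modules.pullback V'.ι).obj E
  exact (supp_pushforward V ((Scheme.Modules.pushforward (Z.homOfLE hle)).obj N)).of_iso
    ((Scheme.Modules.pushforwardComp (Z.homOfLE hle) V.ι).app N ≪≫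
      (Scheme.Modules.pushforwardCongr (Z.homOfLE_ι hle)).app N ≪≫
      (@asIso _ _ _ _ ((Scheme.Modules.pullbackPushforwardAdjunction V'.ι).unit.app E) hE).symm)

theorem Supp.isIso {V : Z.Opens} {A B : Z.Modules} (hA : Supp V A) (hB : Supp V B) (a : A ⟶ B)
    (h : IsIso ((Scheme.Modules.pullback V.ι).map a)) : IsIso a := by
  haveI : IsIso ((Scheme.Modules.pullbackPushforwardAdjunction V.ι).unit.app A) := hA
  have h1 := (Scheme.Modules.pullbackPushforwardAdjunction V.ι).unit.naturality a
  simp only [Functor.id_map, Functor.comp_map] at h1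
  haveI : IsIso ((Scheme.Modules.pushforward V.ι).map ((Scheme.Modules.pullback V.ι).map a)) := inferInstance
  exact @IsIso.of_isIso_fac_right _ _ _ _ _ _ _ _ hB
    (inferInstanceAs (IsIso ((Scheme.Modules.pullbackPushforwardAdjunction V.ι).unit.app A ≫ _))) h1

theorem supp_tensor_right (V : Z.Opens) [IsAffineHom V.ι] {A E : Z.Modules} [A.IsQuasicoherent] [E.IsQuasicoherent]
    (hE : Supp V E) : Supp V (((DCoh.tensorBi (X := Z)).obj A).obj E) := by
  let N := (Scheme.Modules.pullback V.ι).obj E
  haveI : N.IsQuasicoherent := VA.isQCoh_pullback V.ι (M := E) inferInstance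
  haveI := isIso_projHom_affine V.ι N A
  exact (supp_pushforward V _).of_iso
    ((asIso (ProjFormula.projHom V.ι A N)).symm ≪≫
      ((DCoh.tensorBi (X := Z)).obj A).mapIso (@asIso _ _ _ _ ((Scheme.Modules.pullbackPushforwardAdjunction V.ι).unit.app E) hE).symm)

theorem supp_tensor_left (V : Z.Opens) [IsAffineHom V.ι] {A E : Z.Modules} [A.IsQuasicoherent] [E.IsQuasicoherent]
    (hA : Supp V A) : Supp V (((DCoh.tensorBi (X := Z)).obj A).obj E) :=
  (supp_tensor_right V (A := E) hA).of_iso (GrTilde.tensorModComm E A)

theorem supp_pullback (p : Z ⟶ X) (U : X.Opens) [IsAffineHom U.ι] {M : X.Modules} [M.IsQuasicoherent] (hM : Supp U M) :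
    Supp (p ⁻¹ᵁ U) ((Scheme.Modules.pullback p).obj M) := by
  let N := (Scheme.Modules.pullback U.ι).obj M
  haveI : N.IsQuasicoherent := VA.isQCoh_pullback U.ι (M := M) inferInstance
  haveI := AffBC.isIso_bcMap (isPullback_morphismRestrict p U) N
  exact (supp_pushforward (p ⁻¹ᵁ U) _).of_iso
    ((asIso (AffBC.bcMap (isPullback_morphismRestrict p U) N)).symm ≪≫
      (Scheme.Modules.pullback p).mapIso (@asIso _ _ _ _ ((Scheme.Modules.pullbackPushforwardAdjunction U.ι).unit.app M) hM).symm)

theorem isAffineHom_preimage_ι (p : Z ⟶ X) (U : X.Opens) [IsAffineHom U.ι] : IsAffineHom (p ⁻¹ᵁ U).ι :=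
  MorphismProperty.of_isPullback (isPullback_morphismRestrict p U) ‹IsAffineHom U.ι›

end GrothLib.FunMor20
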