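import Groth.Agent.Lib.FunMor20.Cover
import Groth.Agent.Lib.FunMor20.BCProj
import Groth.Agent.Lib.OX.TensorAssoc
import Groth.Agent.Lib.OX.ProjLocal

/-!
# Composition of integral transforms
-/

set_option autoImplicit false
set_option linter.style.haveILetI false
set_option linter.style.longLine false
set_option maxHeartbeats 1000000
set_option backward.isDefEq.respectTransparency.types false

universe u v' u'

open CategoryTheory CategoryTheory.Limits AlgebraicGeometry Opposite TopologicalSpace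

noncomputable section

namespace GrothLib.FunMor20

variable {X Y Z Z₁₂ Z₂₃ Z₁₃ T S : Scheme.{u}}

/-- The transform before pushing forward. -/
abbrev preFM (p : Z₁₂ ⟶ X) (K : Z₁₂.Modules) : QCohCat.QCoh X ⥤ Z₁₂.Modules :=
  ObjectProperty.ι (QCohCat.isQCoh X) ⋙ Scheme.Modules.pullback p ⋙ DCoh.tensorRightMod K

theorem qcoh_preFM (p : Z₁₂ ⟶ X) (K : Z₁₂.Modules) (hK : Coh.IsQCoh K) (M : QCohCat.QCoh X) :
    ((preFM p K).obj M).IsQuasicoherent :=
  VA.isQCoh_tensor (VA.isQCoh_pullback p M.property) hK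

theorem exact_preFM (p : Z₁₂ ⟶ X) (K : Z₁₂.Modules) (hK : FlatMod.IsFlatOver p K) :
    PreservesFiniteLimits (preFM p K) ∧ PreservesFiniteColimits (preFM p K) :=
  haveI := QCohCat20.preservesFiniteLimits_ι (X := X)
  haveI := preservesFiniteColimits_ι X
  exact_pullback_tensor (ObjectProperty.ι (QCohCat.isQCoh X)) p K hK

theorem preservesDiscrete_preFM (p : Z₁₂ ⟶ X) (K : Z₁₂.Modules) (J : Type u) :
    PreservesColimitsOfShape (Discrete J) (preFM p K) :=
  haveI := preservesDiscrete_ι X J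
  preservesDiscrete_pullback_tensor (ObjectProperty.ι (QCohCat.isQCoh X)) p K J

section Step1

variable {p₁ : Z₁₂ ⟶ X} {q₁ : Z₁₂ ⟶ Y} {p₂ : Z₂₃ ⟶ Y} {a : T ⟶ Z₁₂} {b : T ⟶ Z₂₃}
  {x : X ⟶ S} {y : Y ⟶ S} [IsAffine S] [CompactSpace X] [IsAffineHom (pullback.diagonal x)]

/-- Flat tensors commute with the first direct image. -/
theorem nonempty_step₁ (h₁₂ : IsPullback p₁ q₁ x y) (h : IsPullback a b q₁ p₂) (K : Z₁₂.Modules) (hK : Coh.IsQCoh K)
    (hKf : FlatMod.IsFlatOver p₁ K) (L : Z₂₃.Modules) (hL : Coh.IsQCoh L) (hLf : FlatMod.IsFlatOver p₂ L)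
    (hex : PreservesFiniteLimits (preFM p₁ K ⋙ Coh.push q₁) ∧ PreservesFiniteColimits (preFM p₁ K ⋙ Coh.push q₁)) :
    Nonempty ((preFM p₁ K ⋙ Coh.push q₁) ⋙ Scheme.Modules.pullback p₂ ⋙ DCoh.tensorRightMod L ≅
      (preFM p₁ K ⋙ Scheme.Modules.pullback a ⋙ DCoh.tensorRightMod ((Scheme.Modules.pullback b).obj L)) ⋙ Coh.push b) := by
  haveI : K.IsQuasicoherent := hK
  haveI : L.IsQuasicoherent := hL
  let L' := (Scheme.Modules.pullback b).obj L
  let Src := (preFM p₁ K ⋙ Coh.push q₁) ⋙ Scheme.Modules.pullback p₂ ⋙ DCoh.tensorRightMod L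
  let H := preFM p₁ K ⋙ Scheme.Modules.pullback a ⋙ DCoh.tensorRightMod L'
  let τ : Src ⟶ H ⋙ Coh.push b := Functor.whiskerLeft (preFM p₁ K) (pushSquareTrans h L)
  haveI := hex.1
  haveI := hex.2
  obtain ⟨hs₁, hs₂⟩ := exact_pullback_tensor (preFM p₁ K ⋙ Coh.push q₁) p₂ L hLf
  haveI : PreservesFiniteLimits Src := hs₁
  haveI := (exact_preFM p₁ K hKf).1
  haveI := (exact_preFM p₁ K hKf).2
  have hL'f : FlatMod.IsFlatOver a L' := FlatDesc.isFlatOver_baseChange h.flip L hLf
  haveI : PreservesFiniteLimits H := (exact_pullback_tensor (preFM p₁ K) a L' hL'f).1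
  haveI : PreservesFiniteLimits (H ⋙ Coh.push b) := preservesFiniteLimits_comp_push H b
  haveI : PreservesBinaryBiproducts Src := preservesBinaryBiproducts_of_preservesBinaryProducts Src
  haveI : Src.Additive := Functor.additive_of_preservesBinaryBiproducts Src
  haveI : PreservesBinaryBiproducts (H ⋙ Coh.push b) := preservesBinaryBiproducts_of_preservesBinaryProducts _
  haveI : (H ⋙ Coh.push b).Additive := Functor.additive_of_preservesBinaryBiproducts _
  obtain ⟨X', hX', f, hf, hmono⟩ := exists_affine_cover x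
  haveI := hf
  haveI := hX'
  suffices ∀ N, IsIso (τ.app N) from ⟨@asIso _ _ _ _ τ (NatIso.isIso_of_isIso_app τ)⟩
  intro N
  refine isIso_app_of_cogenerators τ (fun N => ?_) N
  haveI : ((Scheme.Modules.pullback f).obj N.obj).IsQuasicoherent := VA.isQCoh_pullback f N.property
  let M₀ : QCohCat.QCoh X' := ⟨(Scheme.Modules.pullback f).obj N.obj, VA.isQCoh_pullback f N.property⟩
  refine ⟨(qcohPush f).obj M₀, ObjectProperty.homMk ((Scheme.Modules.pullbackPushforwardAdjunction f).unit.app N.obj), ?_, ?_⟩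
  · haveI := hmono N.obj
    exact ⟨fun u v w => ObjectProperty.hom_ext _ ((cancel_mono ((Scheme.Modules.pullbackPushforwardAdjunction f).unit.app N.obj)).1
      (congrArg InducedCategory.Hom.hom w))⟩
  let g := pullback.snd f p₁
  let hsq := IsPullback.of_hasPullback f p₁
  haveI : IsAffineHom g := MorphismProperty.of_isPullback hsq ‹IsAffineHom f›
  haveI : IsAffineHom (g ≫ q₁) :=
    MorphismProperty.of_isPullback (hsq.paste_vert h₁₂) (isAffineHom_of_isAffine (f ≫ x))
  let e := (pushSquareIso hsq K).app M₀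
  let G := (Scheme.Modules.pullback (pullback.fst f p₁) ⋙ DCoh.tensorRightMod ((Scheme.Modules.pullback g).obj K)).obj M₀.obj
  haveI : G.IsQuasicoherent := VA.isQCoh_tensor (VA.isQCoh_pullback _ M₀.property) (VA.isQCoh_pullback g hK)
  haveI := isIso_squareHom_pushforward h (IsPullback.of_hasPullback g a) L G
  haveI := isIso_pushSquareTrans_app h L ((Scheme.Modules.pushforward g).obj G)
  exact (NatTrans.isIso_app_iff_of_iso (pushSquareTrans h L) e).2
    (isIso_pushSquareTrans_app h L ((Scheme.Modules.pushforward g).obj G))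

end Step1

section Step3

variable [IsAffine S]

/-- The projection formula for transforms with right exact direct image. -/
theorem nonempty_step₃ (x : X ⟶ S) [IsAffineHom (pullback.diagonal x)] (p₃ : Z₁₃ ⟶ X) (c : T ⟶ Z₁₃) (E : T.Modules)
    (hex : PreservesFiniteColimits
      ((ObjectProperty.ι (QCohCat.isQCoh X) ⋙ Scheme.Modules.pullback p₃ ⋙ Scheme.Modules.pullback c ⋙ DCoh.tensorRightMod E) ⋙ Coh.push c))
    (hsum : ∀ J : Type u, PreservesColimitsOfShape (Discrete J)
      ((ObjectProperty.ι (QCohCat.isQCoh X) ⋙ Scheme.Modules.pullback p₃ ⋙ Scheme.Modules.pullback c ⋙ DCoh.tensorRightMod E) ⋙ Coh.push c)) :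
    Nonempty (preFM p₃ ((Coh.push c).obj E) ≅
      (ObjectProperty.ι (QCohCat.isQCoh X) ⋙ Scheme.Modules.pullback p₃ ⋙ Scheme.Modules.pullback c ⋙ DCoh.tensorRightMod E) ⋙ Coh.push c) := by
  let Φ := (ObjectProperty.ι (QCohCat.isQCoh X) ⋙ Scheme.Modules.pullback p₃ ⋙ Scheme.Modules.pullback c ⋙ DCoh.tensorRightMod E) ⋙ Coh.push c
  let Ψ := preFM p₃ ((Coh.push c).obj E)
  let θ : Ψ ⟶ Φ :=
    { app := fun N => ProjFormula.projHom c ((Scheme.Modules.pullback p₃).obj N.obj) E
      naturality := fun M N α => ProjFormula.projHom_natural c ((Scheme.Modules.pullback p₃).map α.hom) E }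
  suffices ∀ N, IsIso (θ.app N) from ⟨@asIso _ _ _ _ θ (NatIso.isIso_of_isIso_app θ)⟩
  intro N
  refine OX.isIso_of_restrict_cover _ (fun U : X.affineOpens => p₃ ⁻¹ᵁ U.1) (fun z => ?_) fun U => ?_
  · obtain ⟨U, hU, hz, -⟩ := exists_isAffineOpen_mem_and_subset (x := p₃ z) (U := ⊤) trivial
    exact ⟨⟨U, hU⟩, hz⟩
  haveI : IsAffine (U.1 : Scheme.{u}) := U.2
  let j := U.1.ι
  haveI : IsAffineHom j := isAffineHom_of_affine_source x j
  let V := p₃ ⁻¹ᵁ U.1
  let R := Scheme.Modules.restrictFunctor V.ι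
  let G₁ := qcohPush j ⋙ Ψ ⋙ R
  let G₂ := qcohPush j ⋙ Φ ⋙ R
  haveI := preservesFiniteColimits_qcohPush j
  haveI : ∀ J : Type u, PreservesColimitsOfShape (Discrete J) (qcohPush j) := fun J => preservesColimitsOfShape_qcohPush j _
  haveI : PreservesColimitsOfSize.{u, u} R := (Scheme.Modules.restrictAdjunction V.ι).leftAdjoint_preservesColimits
  haveI : PreservesFiniteColimits R := preservesFiniteColimits_of_preservesFiniteColimitsOfSize.{u} _ fun _ _ _ => inferInstance
  haveI : PreservesFiniteColimits Ψ :=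
    haveI := preservesFiniteColimits_ι X
    haveI := preservesFiniteColimits_pullback_tensor p₃ ((Coh.push c).obj E)
    comp_preservesFiniteColimits (ObjectProperty.ι (QCohCat.isQCoh X)) (Scheme.Modules.pullback p₃ ⋙ DCoh.tensorRightMod ((Coh.push c).obj E))
  haveI : ∀ J : Type u, PreservesColimitsOfShape (Discrete J) Ψ := preservesDiscrete_preFM p₃ _
  haveI : PreservesFiniteColimits Φ := hex
  haveI : ∀ J : Type u, PreservesColimitsOfShape (Discrete J) Φ := hsum
  haveI : PreservesFiniteColimits G₁ := comp_preservesFiniteColimits (qcohPush j) (Ψ ⋙ R)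
  haveI : PreservesFiniteColimits G₂ := comp_preservesFiniteColimits (qcohPush j) (Φ ⋙ R)
  haveI : G₁.PreservesZeroMorphisms := Functor.preservesZeroMorphisms_of_preserves_initial_object (F := G₁)
  haveI : G₂.PreservesZeroMorphisms := Functor.preservesZeroMorphisms_of_preserves_initial_object (F := G₂)
  let τ : G₁ ⟶ G₂ := Functor.whiskerLeft (qcohPush j) (Functor.whiskerRight θ R)
  let O := Coh.structureModule (U.1 : Scheme.{u})
  have hO : IsIso (τ.app (qO _)) := by
    let e : R.obj ((Scheme.Modules.pullback p₃).obj ((Scheme.Modules.pushforward j).obj O)) ≅ FlatMod.freeMod V 1 :=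
      ((OX.pullRestrictIso p₃ U.1).app _).symm ≪≫
        (Scheme.Modules.pullback (p₃ ∣_ U.1)).mapIso (asIso ((Scheme.Modules.restrictAdjunction j).counit.app O)) ≪≫
        OX.pullUnitIso _ ≪≫ (coproductUniqueIso fun _ : Fin 1 => Coh.structureModule (V : Scheme.{u})).symm
    exact OX.projGood_of_free c V e E
  let M : QCohCat.QCoh (U.1 : Scheme.{u}) :=
    ⟨(Scheme.Modules.restrictFunctor j).obj N.obj, by
      haveI : N.obj.IsQuasicoherent := N.property
      exact inferInstanceAs (N.obj.restrict j).IsQuasicoherent⟩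
  have hM : IsIso (τ.app M) := isIso_app_of_generator τ hO M
  let r : N ⟶ (qcohPush j).obj M := ObjectProperty.homMk ((Scheme.Modules.restrictAdjunction j).unit.app N.obj)
  have hr : IsIso ((Scheme.Modules.restrictFunctor j).map r.hom) := by
    haveI hci : ∀ W, IsIso ((Scheme.Modules.restrictAdjunction j).counit.app W) := fun W => inferInstance
    haveI : IsIso ((Scheme.Modules.restrictFunctor j).map r.hom ≫
        (Scheme.Modules.restrictAdjunction j).counit.app ((Scheme.Modules.restrictFunctor j).obj N.obj)) := by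
      erw [(Scheme.Modules.restrictAdjunction j).left_triangle_components N.obj]; infer_instance
    exact @IsIso.of_isIso_comp_right _ _ _ _ _ _ _ (hci _) this
  have hp : IsIso (R.map ((Scheme.Modules.pullback p₃).map r.hom)) :=
    (NatIso.isIso_map_iff (OX.pullRestrictIso p₃ U.1) r.hom).1
      (inferInstanceAs (IsIso ((Scheme.Modules.pullback (p₃ ∣_ U.1)).map ((Scheme.Modules.restrictFunctor j).map r.hom))))
  have hc : IsIso ((Scheme.Modules.restrictFunctor (c ⁻¹ᵁ V).ι).map
      ((Scheme.Modules.pullback c).map ((Scheme.Modules.pullback p₃).map r.hom))) :=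
    (NatIso.isIso_map_iff (OX.pullRestrictIso c V) _).1
      (inferInstanceAs (IsIso ((Scheme.Modules.pullback (c ∣_ V)).map (R.map ((Scheme.Modules.pullback p₃).map r.hom)))))
  have h₁ : IsIso (R.map (((DCoh.tensorBi (X := Z₁₃)).map ((Scheme.Modules.pullback p₃).map r.hom)).app
      ((Scheme.Modules.pushforward c).obj E))) :=
    OX.isIso_restrict_tensor_left V.ι ((Scheme.Modules.pullback p₃).map r.hom) hp ((Scheme.Modules.pushforward c).obj E)
  have h₂ : IsIso (R.map ((Scheme.Modules.pushforward c).map (((DCoh.tensorBi (X := T)).map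
      ((Scheme.Modules.pullback c).map ((Scheme.Modules.pullback p₃).map r.hom))).app E))) :=
    OX.isIso_restrict_push c V _ (OX.isIso_restrict_tensor_left _ _ hc E)
  have hM' : IsIso (R.map (ProjFormula.projHom c ((Scheme.Modules.pullback p₃).obj ((qcohPush j).obj M).obj) E)) := hM
  have e := (R.map_comp _ _).symm.trans ((congrArg R.map
    (ProjFormula.projHom_natural c ((Scheme.Modules.pullback p₃).map r.hom) E)).trans (R.map_comp _ _))
  exact @IsIso.of_isIso_fac_right _ _ _ _ _ _ _ _ h₂ (@IsIso.comp_isIso _ _ _ _ _ _ _ h₁ hM') e.symm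

end Step3

end GrothLib.FunMor20
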