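import Groth.Agent.Lib.FunMor20.Scalar
import Groth.Agent.Lib.FunMor20.Coprod

/-!
# Natural transformations out of quasi-coherent modules on an affine scheme
-/

set_option autoImplicit false
set_option linter.style.haveILetI false
set_option linter.style.longLine false
set_option linter.unusedSectionVars false
set_option maxHeartbeats 1000000
set_option backward.isDefEq.respectTransparency.types false

universe u v' u'

open CategoryTheory CategoryTheory.Limits AlgebraicGeometry Opposite TopologicalSpace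

noncomputable section

attribute [local instance] Classical.decEq

namespace GrothLib.FunMor20

variable {U : Scheme.{u}}

/-- A free quasi-coherent module. -/
def freeQ (U : Scheme.{u}) (ι : Type u) : QCohCat.QCoh U :=
  ⟨∐ fun _ : ι => Coh.structureModule U,
    QCoh.isQuasicoherent_colimit _ fun _ => WeakAss.isQuasicoherent_structureModule⟩

/-- The inclusions of a free quasi-coherent module. -/
def freeQι {ι : Type u} (i : ι) : qO U ⟶ freeQ U ι :=
  ObjectProperty.homMk (Sigma.ι (fun _ : ι => Coh.structureModule U) i)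

/-- A free quasi-coherent module is a coproduct. -/
def isColimitFreeQ (U : Scheme.{u}) (ι : Type u) : IsColimit (Cofan.mk (freeQ U ι) fun i => freeQι i) :=
  Cofan.IsColimit.mk _ (fun s => ObjectProperty.homMk (Sigma.desc fun i => (s.inj i).hom))
    (fun s i => ObjectProperty.hom_ext _ (Sigma.ι_desc _ _))
    fun s k hk => ObjectProperty.hom_ext _ (Sigma.hom_ext _ _ fun i => by
      rw [ObjectProperty.homMk_hom, Sigma.ι_desc]
      exact congrArg InducedCategory.Hom.hom (hk i))

theorem exists_eq_sum_freeQ [IsAffine U] {ι : Type u} (φ : qO U ⟶ freeQ U ι) :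
    ∃ (s : Finset ι) (a : ι → (qO U ⟶ qO U)), φ = ∑ k ∈ s, a k ≫ freeQι k := by
  obtain ⟨s, hs⟩ := exists_eq_sum (fun _ : ι => Coh.structureModule U) (isAffineOpen_top U).isCompact
    (φ.hom.app ⊤ (FinCov.one U ⊤))
  refine ⟨s, fun k => ObjectProperty.homMk (FinCov.homOfSection
    ((Sigma.π (fun _ : ι => Coh.structureModule U) k).app ⊤ (φ.hom.app ⊤ (FinCov.one U ⊤)))), ?_⟩
  apply ObjectProperty.hom_ext
  refine homOfSection_unique ?_
  refine hs.trans ?_
  let ev : (qO U ⟶ freeQ U ι) →+ Γ((freeQ U ι).obj, ⊤) :=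
    { toFun := fun ψ => ψ.hom.app ⊤ (FinCov.one U ⊤)
      map_zero' := rfl
      map_add' := fun _ _ => rfl }
  refine Eq.trans ?_ (map_sum ev _ s).symm
  refine Finset.sum_congr rfl fun k _ => ?_
  refine congrArg ((Sigma.ι (fun _ : ι => Coh.structureModule U) k).app ⊤) ?_
  refine Eq.trans ?_ (FinCov.homOfSection_one _ ⊤).symm
  exact (Cohom.map_self_apply _ _ _).symm

theorem hom_eq_freeQι_comp (M : QCohCat.QCoh U) (ψ : qO U ⟶ M) :
    freeQι (ψ.hom.app ⊤ (FinCov.one U ⊤)) ≫ (ObjectProperty.homMk (freeCover M.obj) : freeQ U Γ(M.obj, ⊤) ⟶ M) = ψ := by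
  apply ObjectProperty.hom_ext
  refine (Sigma.ι_desc _ _).trans (homOfSection_unique ?_)
  exact (FinCov.homOfSection_one _ ⊤).trans (Cohom.map_self_apply _ _ _)

theorem epi_freeQ_cover [IsAffine U] (M : QCohCat.QCoh U) :
    Epi (ObjectProperty.homMk (freeCover M.obj) : freeQ U Γ(M.obj, ⊤) ⟶ M) := by
  haveI : M.obj.IsQuasicoherent := M.property
  haveI := epi_freeCover M.obj
  exact ⟨fun a b h => ObjectProperty.hom_ext _
    ((cancel_epi (freeCover M.obj)).1 (congrArg InducedCategory.Hom.hom h))⟩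

variable [IsAffine U] {B : Type u'} [Category.{v'} B] [Preadditive B] {G₁ G₂ : QCohCat.QCoh U ⥤ B}
  [PreservesFiniteColimits G₁] [∀ J : Type u, PreservesColimitsOfShape (Discrete J) G₁]

/-- Transformations out of a right exact functor preserving coproducts are determined on the structure module. -/
theorem natTrans_ext_affine {τ τ' : G₁ ⟶ G₂} (h : τ.app (qO U) = τ'.app (qO U)) : τ = τ' := by
  refine NatTrans.ext (funext fun M => ?_)
  let π : freeQ U Γ(M.obj, ⊤) ⟶ M := ObjectProperty.homMk (freeCover M.obj)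
  haveI := epi_freeQ_cover M
  haveI : Epi (G₁.map π) := Functor.map_epi G₁ π
  rw [← cancel_epi (G₁.map π), τ.naturality π, τ'.naturality π]
  refine congrArg (· ≫ G₂.map π) ?_
  refine Cofan.IsColimit.hom_ext (isColimitCofanMkObjOfIsColimit G₁ _ _ (isColimitFreeQ U Γ(M.obj, ⊤))) _ _ fun i => ?_
  show G₁.map (freeQι i) ≫ τ.app _ = G₁.map (freeQι i) ≫ τ'.app _
  rw [τ.naturality, τ'.naturality, h]

/-- Equivariant maps at the structure module extend. -/
theorem exists_natTrans_affine [G₁.Additive] [G₂.Additive] (e : G₁.obj (qO U) ⟶ G₂.obj (qO U))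
    (he : ∀ φ : qO U ⟶ qO U, G₁.map φ ≫ e = e ≫ G₂.map φ) :
    ∃ τ : G₁ ⟶ G₂, τ.app (qO U) = e := by
  let Gc := fun ι : Type u => isColimitCofanMkObjOfIsColimit G₁ _ _ (isColimitFreeQ U ι)
  let ec : ∀ ι : Type u, G₁.obj (freeQ U ι) ⟶ G₂.obj (freeQ U ι) := fun ι =>
    Cofan.IsColimit.desc (Gc ι) fun i => e ≫ G₂.map (freeQι i)
  have hec : ∀ (ι : Type u) (i : ι), G₁.map (freeQι i) ≫ ec ι = e ≫ G₂.map (freeQι i) := fun ι i =>
    Cofan.IsColimit.fac (Gc ι) _ i
  have hkey : ∀ {ι : Type u} (φ : qO U ⟶ freeQ U ι), G₁.map φ ≫ ec ι = e ≫ G₂.map φ := by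
    intro ι φ
    obtain ⟨s, a, rfl⟩ := exists_eq_sum_freeQ φ
    simp only [Functor.map_sum, Preadditive.sum_comp, Preadditive.comp_sum, Functor.map_comp, Category.assoc, hec]
    refine Finset.sum_congr rfl fun k _ => ?_
    rw [← Category.assoc, he, Category.assoc]
  have hex : ∀ M : QCohCat.QCoh U, ∃ t : G₁.obj M ⟶ G₂.obj M, ∀ ψ : qO U ⟶ M, G₁.map ψ ≫ t = e ≫ G₂.map ψ := by
    intro M
    let π : freeQ U Γ(M.obj, ⊤) ⟶ M := ObjectProperty.homMk (freeCover M.obj)
    let N := kernel π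
    let π' : freeQ U Γ(N.obj, ⊤) ⟶ N := ObjectProperty.homMk (freeCover N.obj)
    haveI := epi_freeQ_cover M
    haveI := epi_freeQ_cover N
    let d := π' ≫ kernel.ι π
    have hd : d ≫ π = 0 := by simp [d]
    have hexact : (ShortComplex.mk d π hd).Exact := by
      rw [ShortComplex.exact_iff_epi_kernel_lift]
      have : kernel.lift π d hd = π' := by rw [← cancel_mono (kernel.ι π), kernel.lift_ι]
      rw [this]
      exact epi_freeQ_cover N
    haveI : G₁.PreservesZeroMorphisms := inferInstance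
    let hG := isColimitCoforkMapOfIsColimit' G₁ hd hexact.gIsCokernel
    have hzero : G₁.map d ≫ ec _ ≫ G₂.map π = 0 := by
      refine Cofan.IsColimit.hom_ext (Gc _) _ _ fun i => ?_
      show G₁.map (freeQι i) ≫ G₁.map d ≫ ec _ ≫ G₂.map π = G₁.map (freeQι i) ≫ 0
      rw [← Category.assoc, ← G₁.map_comp, reassoc_of% hkey (freeQι i ≫ d), ← G₂.map_comp, Category.assoc, hd,
        comp_zero, G₂.map_zero, comp_zero, comp_zero]
    obtain ⟨t, ht⟩ := CokernelCofork.IsColimit.desc' hG (ec _ ≫ G₂.map π) hzero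
    have ht' : G₁.map π ≫ t = ec _ ≫ G₂.map π := ht
    refine ⟨t, fun ψ => ?_⟩
    rw [← hom_eq_freeQι_comp M ψ, G₁.map_comp, Category.assoc]
    show G₁.map (freeQι _) ≫ G₁.map π ≫ t = _
    rw [ht', reassoc_of% hec, ← G₂.map_comp]
  choose t ht using hex
  refine ⟨{ app := t, naturality := fun M N f => ?_ }, ?_⟩
  · let π : freeQ U Γ(M.obj, ⊤) ⟶ M := ObjectProperty.homMk (freeCover M.obj)
    haveI := epi_freeQ_cover M
    haveI : Epi (G₁.map π) := Functor.map_epi G₁ π
    rw [← cancel_epi (G₁.map π)]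
    refine Cofan.IsColimit.hom_ext (Gc _) _ _ fun i => ?_
    show G₁.map (freeQι i) ≫ G₁.map π ≫ G₁.map f ≫ t N = G₁.map (freeQι i) ≫ G₁.map π ≫ t M ≫ G₂.map f
    rw [← G₁.map_comp_assoc, ← G₁.map_comp_assoc, ht, ← G₁.map_comp_assoc, reassoc_of% ht, ← G₂.map_comp,
      Category.assoc]
  · have := ht (qO U) (𝟙 _)
    rw [G₁.map_id, G₂.map_id, Category.id_comp, Category.comp_id] at this
    exact this

end GrothLib.FunMor20
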