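import Groth.Agent.Lib.FunMor20.Scalar
import Groth.Agent.Lib.FunMor20.Coprod
import Groth.Agent.Lib.QCoh.Extension
import Groth.Agent.Lib.OX.AffineReflect

/-!
# Quasi-coherent modules over an affine base change, from modules with an action
-/

set_option autoImplicit false
set_option linter.style.haveILetI false
set_option linter.style.longLine false
set_option linter.unusedSectionVars false
set_option maxHeartbeats 1000000
set_option backward.isDefEq.respectTransparency.types false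

universe u

open CategoryTheory CategoryTheory.Limits AlgebraicGeometry Opposite TopologicalSpace TensorProduct

noncomputable section

attribute [local instance] Classical.decEq

namespace GrothLib.FunMor20

open Formal (smulModΓ)

/-- An epimorphism from surjectivity on an affine cover. -/
theorem epi_of_surjective_cover {Z : Scheme.{u}} {M N : Z.Modules} [M.IsQuasicoherent] [N.IsQuasicoherent]
    (f : M ⟶ N) {ι : Type u} (T : ι → Z.Opens) (hT : ∀ i, IsAffineOpen (T i)) (hc : ∀ z, ∃ i, z ∈ T i)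
    (h : ∀ i, Function.Surjective (f.app (T i))) : Epi f := by
  haveI := QCoh.isQuasicoherent_cokernel f
  haveI := QCoh.isQuasicoherent_kernel (cokernel.π f)
  refine Preadditive.epi_of_cokernel_zero (IsZero.eq_of_tgt ?_ _ _)
  have hS : (ShortComplex.mk (kernel.ι (cokernel.π f)) (cokernel.π f) (kernel.condition _)).ShortExact :=
    { exact := ShortComplex.exact_kernel _ }
  refine OX.isZero_of_affine_cover (QCoh.isQuasicoherent_cokernel f) T hT hc fun i c => ?_
  obtain ⟨n, rfl⟩ := QCoh.app_surjective_of_isAffineOpen hS (hT i) c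
  obtain ⟨m, rfl⟩ := h i n
  exact congrArg (fun ψ : M ⟶ cokernel f => ψ.app (T i) m) (cokernel.condition f)

/-- Maps are determined on sections over an affine cover. -/
theorem hom_ext_affine_cover {Z : Scheme.{u}} {M N : Z.Modules} [M.IsQuasicoherent] [N.IsQuasicoherent]
    {f g : M ⟶ N} {ι : Type u} (T : ι → Z.Opens) (hT : ∀ i, IsAffineOpen (T i)) (hc : ∀ z, ∃ i, z ∈ T i)
    (h : ∀ i m, f.app (T i) m = g.app (T i) m) : f = g := by
  let k := kernel.ι (f - g)
  haveI := QCoh.isQuasicoherent_kernel (f - g)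
  haveI : Epi k := by
    refine epi_of_surjective_cover k T hT hc fun i m => ?_
    haveI := QCoh.isQuasicoherent_cokernel k
    let π := cokernel.π k
    have hS : (ShortComplex.mk k π (cokernel.condition k)).ShortExact :=
      { exact := ShortComplex.exact_cokernel _ }
    refine QCoh.app_exact hS (T i) m ?_
    show π.app (T i) m = 0
    let j := cokernel.desc k (f - g) (kernel.condition _)
    haveI : Mono j := inferInstanceAs (Mono (Abelian.factorThruCoimage (f - g)))
    refine Cohom.app_injective_of_mono j (T i) ?_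
    rw [map_zero]
    refine (congrArg (fun ψ : M ⟶ N => ψ.app (T i) m) (cokernel.π_desc k (f - g) (kernel.condition _))).trans ?_
    show f.app (T i) m - g.app (T i) m = 0
    rw [h i m, sub_self]
  exact sub_eq_zero.1 ((cancel_epi k).1 ((kernel.condition (f - g)).trans comp_zero.symm))

variable {W Y S Z : Scheme.{u}} [IsAffine W] [IsAffine S] {x : W ⟶ S} {y : Y ⟶ S} {p : Z ⟶ W} {q : Z ⟶ Y}

/-- Multiplication by a function of the affine factor. -/
abbrev act (p : Z ⟶ W) (M : Z.Modules) (a : Γ(W, ⊤)) : M ⟶ M := smulModΓ M (p.appTop a)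

theorem isAffineHom_snd (h : IsPullback p q x y) : IsAffineHom q :=
  MorphismProperty.of_isPullback h (isAffineHom_of_isAffine x)

include x y in
/-- Sections of a pullback from `Y` over an affine are spanned by the products of functions of the affine factor and
pulled back sections, freely up to the relations of the base. -/
theorem exists_sections_hom (h : IsPullback p q x y) (P : Y.Modules) [P.IsQuasicoherent] {V : Y.Opens} (hV : IsAffineOpen V) :
    (∀ (Q : Γ((Scheme.Modules.pullback q).obj P, q ⁻¹ᵁ V) → Prop), Q 0 → (∀ z w, Q z → Q w → Q (z + w)) →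
      (∀ (a : Γ(W, ⊤)) (m : Γ(P, V)), Q ((act p _ a).app (q ⁻¹ᵁ V) (QCoh.pullSec q P (le_refl _) m))) → ∀ z, Q z) ∧
    ∀ (T : AddCommGrpCat.{u}) (f : Γ(W, ⊤) →+ Γ(P, V) →+ T),
      (∀ (r : Γ(S, ⊤)) (a : Γ(W, ⊤)) (m : Γ(P, V)), f (x.appTop r * a) m = f a ((smulModΓ P (y.appTop r)).app V m)) →
      ∃ Φ : Γ((Scheme.Modules.pullback q).obj P, q ⁻¹ᵁ V) →+ T,
        ∀ a m, Φ ((act p _ a).app (q ⁻¹ᵁ V) (QCoh.pullSec q P (le_refl _) m)) = f a m := by
  haveI := isAffineHom_snd h
  have hle : V ≤ y ⁻¹ᵁ (⊤ : S.Opens) := le_top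
  have hP : IsAffineOpen (q ⁻¹ᵁ V) := hV.preimage q
  have hle2 : q ⁻¹ᵁ V ≤ p ⁻¹ᵁ (x ⁻¹ᵁ (⊤ : S.Opens)) := le_top
  have hUY : q ⁻¹ᵁ V = p ⁻¹ᵁ (x ⁻¹ᵁ (⊤ : S.Opens)) ⊓ q ⁻¹ᵁ V := (inf_eq_right.2 hle2).symm
  have hpo := (isIso_pushoutSection_iff h hle le_rfl hUY).1
    (isIso_pushoutSection_of_isAffineOpen h hle le_rfl hUY (isAffineOpen_top S) hV (isAffineOpen_top W))
  rw [Scheme.Hom.appLE_eq_app, Scheme.Hom.appLE_eq_app] at hpo
  letI := (x.app ⊤).hom.toAlgebra
  letI := (y.appLE ⊤ V hle).hom.toAlgebra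
  letI := (p.appLE (x ⁻¹ᵁ ⊤) (q ⁻¹ᵁ V) hle2).hom.toAlgebra
  letI := (q.app V).hom.toAlgebra
  letI := ((y.appLE ⊤ V hle ≫ q.app V).hom).toAlgebra
  haveI : IsScalarTower Γ(S, ⊤) Γ(Y, V) Γ(Z, q ⁻¹ᵁ V) := .of_algebraMap_eq' rfl
  haveI : IsScalarTower Γ(S, ⊤) Γ(W, x ⁻¹ᵁ ⊤) Γ(Z, q ⁻¹ᵁ V) :=
    .of_algebraMap_eq' (congrArg CommRingCat.Hom.hom hpo.w.symm)
  haveI hB : Algebra.IsPushout Γ(S, ⊤) Γ(Y, V) Γ(W, x ⁻¹ᵁ ⊤) Γ(Z, q ⁻¹ᵁ V) :=
    CommRingCat.isPushout_iff_isPushout.1 hpo.flip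
  haveI : Algebra.IsPushout Γ(S, ⊤) Γ(W, x ⁻¹ᵁ ⊤) Γ(Y, V) Γ(Z, q ⁻¹ᵁ V) := hB.symm
  letI : Module Γ(S, ⊤) Γ(P, V) := Module.compHom _ (y.appLE ⊤ V hle).hom
  haveI : IsScalarTower Γ(S, ⊤) Γ(Y, V) Γ(P, V) := .of_algebraMap_smul fun _ _ => rfl
  let κ := Algebra.IsPushout.cancelBaseChange Γ(S, ⊤) Γ(W, x ⁻¹ᵁ ⊤) Γ(Y, V) Γ(Z, q ⁻¹ᵁ V) Γ(P, V)
  have halg : algebraMap Γ(Y, V) Γ(Z, q ⁻¹ᵁ V) = (q.appLE V (q ⁻¹ᵁ V) le_rfl).hom := by
    rw [Scheme.Hom.appLE_eq_app]; rfl
  let σ := QCoh.sectionsMap q P (le_refl (q ⁻¹ᵁ V)) halg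
  have hσ := QCoh.bijective_sectionsMap q P (le_refl (q ⁻¹ᵁ V)) halg hV hP
  have hgen : ∀ (a : Γ(W, ⊤)) (m : Γ(P, V)), σ (κ.symm (a ⊗ₜ m)) =
      (act p _ a).app (q ⁻¹ᵁ V) (QCoh.pullSec q P (le_refl _) m) := fun a m => by
    rw [smulModΓ_app]
    show σ (κ.symm (a ⊗ₜ m)) = _
    rw [Algebra.IsPushout.cancelBaseChange_symm_tmul, QCoh.sectionsMap_tmul]
    refine congrArg (fun c : Γ(Z, q ⁻¹ᵁ V) => c • QCoh.pullSec q P (le_refl _) m) ?_
    refine Eq.trans ?_ (res_appTop p a hle2)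
    show p.appLE (x ⁻¹ᵁ ⊤) (q ⁻¹ᵁ V) hle2 a = _
    congr 1
    exact (Cohom.map_self_apply (Coh.structureModule W) _ a).symm
  refine ⟨fun Q h0 hadd hg z => ?_, fun T f hf => ?_⟩
  · obtain ⟨w, rfl⟩ := hσ.2 z
    obtain ⟨t, rfl⟩ := κ.symm.surjective w
    induction t using TensorProduct.induction_on with
    | zero => rwa [map_zero, map_zero]
    | tmul a m => rw [hgen]; exact hg a m
    | add s t hs ht => rw [map_add, map_add]; exact hadd _ _ hs ht
  · have hr : ∀ (r : Γ(S, ⊤)) (a : Γ(W, x ⁻¹ᵁ ⊤)) (m : Γ(P, V)), f (r • a) m = f a (r • m) := fun r a m => by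
      refine (hf r a m).trans (congrArg (f a) ?_)
      rw [smulModΓ_app]
      refine congrArg (fun c : Γ(Y, V) => c • m) ?_
      rw [← res_appTop y r (V := (⊤ : S.Opens)) (P := V) le_top]
      exact congrArg (y.appLE ⊤ V le_top) (Cohom.map_self_apply (Coh.structureModule S) _ r)
    let Φ₀ : Γ(W, x ⁻¹ᵁ ⊤) ⊗[Γ(S, ⊤)] Γ(P, V) →+ T := TensorProduct.liftAddHom f hr
    let τ := LinearEquiv.ofBijective σ hσ
    refine ⟨(Φ₀.comp κ.toAddEquiv.toAddMonoidHom).comp τ.symm.toAddEquiv.toAddMonoidHom, fun a m => ?_⟩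
    rw [← hgen a m]
    show Φ₀ (κ (τ.symm (τ (κ.symm (a ⊗ₜ m))))) = _
    rw [LinearEquiv.symm_apply_apply, LinearEquiv.apply_symm_apply]
    rfl

/-- The adjoint of the identity on pulled back sections. -/
theorem counit_pullSec (K : Z.Modules) (V : Y.Opens) (m : Γ((Scheme.Modules.pushforward q).obj K, V)) :
    ((Scheme.Modules.pullbackPushforwardAdjunction q).counit.app K).app (q ⁻¹ᵁ V)
      (QCoh.pullSec q ((Scheme.Modules.pushforward q).obj K) (le_refl _) m) = (show Γ(K, q ⁻¹ᵁ V) from m) := by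
  have h1 := congrArg (fun φ => Scheme.Modules.Hom.app φ V m)
    ((Scheme.Modules.pullbackPushforwardAdjunction q).right_triangle_components K)
  refine Eq.trans ?_ h1
  show _ = ((Scheme.Modules.pullbackPushforwardAdjunction q).counit.app K).app (q ⁻¹ᵁ V) _
  exact congrArg _ (Cohom.map_self_apply _ _ _)

theorem cover_preimage_affine (q : Z ⟶ Y) (z : Z) : ∃ V : Y.affineOpens, z ∈ q ⁻¹ᵁ V.1 := by
  obtain ⟨U, hU, hz, -⟩ := exists_isAffineOpen_mem_and_subset (x := q z) (U := ⊤) trivial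
  exact ⟨⟨U, hU⟩, hz⟩

include x y in
/-- Equivariant maps of direct images come from unique maps. -/
theorem existsUnique_of_equivariant (h : IsPullback p q x y) (K₁ K₂ : Z.Modules) [K₁.IsQuasicoherent] [K₂.IsQuasicoherent]
    (η : (Scheme.Modules.pushforward q).obj K₁ ⟶ (Scheme.Modules.pushforward q).obj K₂)
    (hη : ∀ a, (Scheme.Modules.pushforward q).map (act p K₁ a) ≫ η = η ≫ (Scheme.Modules.pushforward q).map (act p K₂ a)) :
    ∃! ψ : K₁ ⟶ K₂, (Scheme.Modules.pushforward q).map ψ = η := by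
  haveI := isAffineHom_snd h
  let adj := Scheme.Modules.pullbackPushforwardAdjunction q
  let P := (Scheme.Modules.pushforward q).obj K₁
  haveI : P.IsQuasicoherent := QCoh.isQuasicoherent_pushforward q K₁
  let QP := (Scheme.Modules.pullback q).obj P
  haveI : QP.IsQuasicoherent := FittSheaf.isQuasicoherent_pullback q P
  let ε : QP ⟶ K₁ := adj.counit.app K₁
  let η' : QP ⟶ K₂ := (Scheme.Modules.pullback q).map η ≫ adj.counit.app K₂
  let cov := fun V : Y.affineOpens => q ⁻¹ᵁ V.1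
  have hcov : ∀ V, IsAffineOpen (cov V) := fun V => V.2.preimage q
  have hεg : ∀ (V : Y.Opens) (a : Γ(W, ⊤)) (m : Γ(P, V)),
      ε.app (q ⁻¹ᵁ V) ((act p QP a).app (q ⁻¹ᵁ V) (QCoh.pullSec q P (le_refl _) m)) =
        (act p K₁ a).app (q ⁻¹ᵁ V) (show Γ(K₁, q ⁻¹ᵁ V) from m) := fun V a m => by
    refine (congrArg (fun φ : QP ⟶ K₁ => φ.app (q ⁻¹ᵁ V) (QCoh.pullSec q P (le_refl _) m))
      (KLin.comp_smulModΓ ε (p.appTop a)).symm).trans ?_
    exact congrArg ((act p K₁ a).app (q ⁻¹ᵁ V)) (counit_pullSec K₁ V m)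
  have hηg : ∀ (V : Y.Opens) (a : Γ(W, ⊤)) (m : Γ(P, V)),
      η'.app (q ⁻¹ᵁ V) ((act p QP a).app (q ⁻¹ᵁ V) (QCoh.pullSec q P (le_refl _) m)) =
        (show Γ(K₂, q ⁻¹ᵁ V) from η.app V (((Scheme.Modules.pushforward q).map (act p K₁ a)).app V m)) := fun V a m => by
    refine (congrArg (fun φ : QP ⟶ K₂ => φ.app (q ⁻¹ᵁ V) (QCoh.pullSec q P (le_refl _) m))
      (KLin.comp_smulModΓ η' (p.appTop a)).symm).trans ?_
    have e1 : η'.app (q ⁻¹ᵁ V) (QCoh.pullSec q P (le_refl _) m) = (show Γ(K₂, q ⁻¹ᵁ V) from η.app V m) :=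
      (congrArg ((adj.counit.app K₂).app (q ⁻¹ᵁ V)) (QCoh.pullSec_natural q η (le_refl _) m)).trans
        (counit_pullSec K₂ V (η.app V m))
    refine (congrArg ((act p K₂ a).app (q ⁻¹ᵁ V)) e1).trans ?_
    exact (congrArg (fun φ : P ⟶ (Scheme.Modules.pushforward q).obj K₂ => φ.app V m) (hη a)).symm
  have key : ∀ (V : Y.affineOpens) (z : Γ(QP, cov V)), η'.app (cov V) z =
      (show Γ(K₂, cov V) from η.app V.1 (show Γ(P, V.1) from ε.app (cov V) z)) := fun V => by
    refine (exists_sections_hom h P V.2).1 _ ?_ ?_ fun a m => ?_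
    · rw [map_zero, map_zero]
      exact (map_zero (η.app V.1).hom).symm
    · intro z w hz hw
      rw [map_add, map_add, hz, hw]
      exact (map_add (η.app V.1).hom _ _).symm
    · rw [hεg, hηg]
      rfl
  haveI : Epi ε := epi_of_surjective_cover ε cov hcov (cover_preimage_affine q) fun V m =>
    ⟨QCoh.pullSec q P (le_refl _) (show Γ(P, V.1) from m), counit_pullSec K₁ V.1 m⟩
  have hker : kernel.ι ε ≫ η' = 0 := by
    haveI := QCoh.isQuasicoherent_kernel ε
    refine hom_ext_affine_cover cov hcov (cover_preimage_affine q) fun V z => ?_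
    show η'.app (cov V) ((kernel.ι ε).app (cov V) z) = 0
    rw [key V]
    have h0 : ε.app (cov V) ((kernel.ι ε).app (cov V) z) = 0 :=
      congrArg (fun φ : kernel ε ⟶ K₁ => φ.app (cov V) z) (kernel.condition ε)
    rw [h0]
    exact map_zero (η.app V.1).hom
  obtain ⟨ψ, hψ⟩ := CokernelCofork.IsColimit.desc' (Abelian.epiIsCokernelOfKernel _ (kernelIsKernel ε)) η' hker
  have hψ' : ε ≫ ψ = η' := hψ
  refine ⟨ψ, ?_, fun ψ' h' => ?_⟩
  · refine Scheme.Modules.hom_ext _ _ fun V => ?_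
    ext m
    have e1 := congrArg (fun φ : QP ⟶ K₂ => φ.app (q ⁻¹ᵁ V) (QCoh.pullSec q P (le_refl _) m)) hψ'
    refine Eq.trans ?_ ((congrArg (ψ.app (q ⁻¹ᵁ V)) (counit_pullSec K₁ V m)).symm.trans (e1.trans
      ((congrArg ((adj.counit.app K₂).app (q ⁻¹ᵁ V)) (QCoh.pullSec_natural q η (le_refl _) m)).trans
        (counit_pullSec K₂ V (η.app V m)))))
    rfl
  · refine (cancel_epi ε).1 (hψ'.symm ▸ ?_)
    refine hom_ext_affine_cover cov hcov (cover_preimage_affine q) fun V z => ?_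
    rw [key V, ← h']
    rfl

include x y in
/-- A module with an action of the functions of the affine factor is the direct image of a module. -/
theorem exists_kernel (h : IsPullback p q x y) (P : Y.Modules) [P.IsQuasicoherent] (α : Γ(W, ⊤) → (P ⟶ P))
    (h1 : α 1 = 𝟙 P) (hadd : ∀ a b, α (a + b) = α a + α b) (hmul : ∀ a b, α (a * b) = α b ≫ α a)
    (hR : ∀ r, α (x.appTop r) = smulModΓ P (y.appTop r)) :
    ∃ (K : Z.Modules) (_ : K.IsQuasicoherent) (e : P ≅ (Scheme.Modules.pushforward q).obj K),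
      ∀ a, α a ≫ e.hom = e.hom ≫ (Scheme.Modules.pushforward q).map (act p K a) := by
  haveI := isAffineHom_snd h
  let adj := Scheme.Modules.pullbackPushforwardAdjunction q
  let QP := (Scheme.Modules.pullback q).obj P
  haveI : QP.IsQuasicoherent := FittSheaf.isQuasicoherent_pullback q P
  let D : Z.Modules := ∐ fun _ : Γ(W, ⊤) => QP
  haveI : D.IsQuasicoherent := QCoh.isQuasicoherent_colimit _ fun _ => inferInstanceAs QP.IsQuasicoherent
  let d : D ⟶ QP := Sigma.desc fun a => (Scheme.Modules.pullback q).map (α a) - act p QP a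
  let K := cokernel d
  haveI : K.IsQuasicoherent := QCoh.isQuasicoherent_cokernel d
  haveI : ((Scheme.Modules.pushforward q).obj K).IsQuasicoherent := QCoh.isQuasicoherent_pushforward q K
  let π := cokernel.π d
  let e : P ⟶ (Scheme.Modules.pushforward q).obj K := adj.unit.app P ≫ (Scheme.Modules.pushforward q).map π
  have hπ : ∀ a, (Scheme.Modules.pullback q).map (α a) ≫ π = π ≫ act p K a := fun a => by
    have h2 : Sigma.ι (fun _ : Γ(W, ⊤) => QP) a ≫ d ≫ π = 0 := by rw [cokernel.condition, comp_zero]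
    rw [Sigma.ι_desc_assoc, Preadditive.sub_comp, sub_eq_zero] at h2
    exact h2.trans (KLin.comp_smulModΓ π (p.appTop a)).symm
  have hequiv : ∀ a, α a ≫ e = e ≫ (Scheme.Modules.pushforward q).map (act p K a) := fun a => by
    have hu := adj.unit.naturality (α a)
    simp only [Functor.id_map, Functor.comp_map] at hu
    simp only [e]
    rw [reassoc_of% hu, ← Functor.map_comp, hπ, Functor.map_comp, Category.assoc]
  have heps : ∀ (V : Y.Opens) (m : Γ(P, V)), (show Γ(K, q ⁻¹ᵁ V) from e.app V m) =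
      π.app (q ⁻¹ᵁ V) (QCoh.pullSec q P (le_refl _) m) := fun V m =>
    congrArg (π.app (q ⁻¹ᵁ V)) (Cohom.map_self_apply QP _ _).symm
  haveI := QCoh.isQuasicoherent_kernel π
  have hS : (ShortComplex.mk (kernel.ι π) π (kernel.condition π)).ShortExact :=
    { exact := ShortComplex.exact_kernel _ }
  haveI : Epi (kernel.lift π d (cokernel.condition d)) :=
    (ShortComplex.exact_iff_epi_kernel_lift (ShortComplex.mk d π (cokernel.condition d))).1 (ShortComplex.exact_cokernel d)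
  haveI : IsIso e := by
    refine QCoh.isIso_of_bijective_on_cover e (fun V : Y.affineOpens => V.1) ?_ (fun V => V.2) fun V => ?_
    · refine top_le_iff.1 fun z (_ : z ∈ (⊤ : Y.Opens)) => ?_
      obtain ⟨U, hU, hz, -⟩ := exists_isAffineOpen_mem_and_subset (x := z) (U := ⊤) trivial
      exact Opens.mem_iSup.2 ⟨⟨U, hU⟩, hz⟩
    have hTa : IsAffineOpen (q ⁻¹ᵁ V.1) := V.2.preimage q
    obtain ⟨hspan, hlift⟩ := exists_sections_hom h P V.2
    refine ⟨?_, fun c => ?_⟩
    · let f : Γ(W, ⊤) →+ Γ(P, V.1) →+ Γ(P, V.1) :=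
        { toFun := fun a => ((α a).app V.1).hom
          map_zero' := by
            have h00 : α 0 = 0 := by simpa using hadd 0 0
            ext m
            show (α 0).app V.1 m = 0
            rw [h00]
            rfl
          map_add' := fun a b => by
            ext m
            show (α (a + b)).app V.1 m = (α a).app V.1 m + (α b).app V.1 m
            rw [hadd]
            rfl }
      obtain ⟨Φ, hΦ⟩ := hlift Γ(P, V.1) f fun r a m => by
        show (α (x.appTop r * a)).app V.1 m = (α a).app V.1 _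
        rw [mul_comm, hmul, hR]
        rfl
      have hΦd : ∀ (a : Γ(W, ⊤)) (z : Γ(QP, q ⁻¹ᵁ V.1)),
          Φ (((Scheme.Modules.pullback q).map (α a) - act p QP a).app (q ⁻¹ᵁ V.1) z) = 0 := fun a => by
        refine hspan _ ?_ ?_ fun b m => ?_
        · rw [map_zero, map_zero]
        · intro z w hz hw
          rw [map_add, map_add, hz, hw, add_zero]
        · show Φ (((Scheme.Modules.pullback q).map (α a)).app _ ((act p QP b).app _ (QCoh.pullSec q P (le_refl _) m)) -
            (act p QP a).app _ ((act p QP b).app _ (QCoh.pullSec q P (le_refl _) m))) = 0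
          have e1 : ((Scheme.Modules.pullback q).map (α a)).app _ ((act p QP b).app (q ⁻¹ᵁ V.1) (QCoh.pullSec q P (le_refl _) m)) =
              (act p QP b).app _ (QCoh.pullSec q P (le_refl _) ((α a).app V.1 m)) :=
            (congrArg (fun φ : QP ⟶ QP => φ.app (q ⁻¹ᵁ V.1) (QCoh.pullSec q P (le_refl _) m))
              (KLin.comp_smulModΓ ((Scheme.Modules.pullback q).map (α a)) (p.appTop b)).symm).trans
              (congrArg ((act p QP b).app _) (QCoh.pullSec_natural q (α a) (le_refl _) m))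
          have e2 : (act p QP a).app _ ((act p QP b).app (q ⁻¹ᵁ V.1) (QCoh.pullSec q P (le_refl _) m)) =
              (act p QP (b * a)).app _ (QCoh.pullSec q P (le_refl _) m) := by
            show _ = (smulModΓ QP (p.appTop (b * a))).app _ _
            rw [map_mul]
            erw [KLin.smulModΓ_mul]
            rfl
          rw [e1, e2, map_sub, hΦ, hΦ]
          show (α b).app V.1 ((α a).app V.1 m) - (α (b * a)).app V.1 m = 0
          rw [hmul]
          exact sub_self _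
      refine (injective_iff_map_eq_zero (e.app V.1).hom).2 fun m hm => ?_
      have hm0 : π.app (q ⁻¹ᵁ V.1) (QCoh.pullSec q P (le_refl _) m) = 0 := (heps V.1 m).symm.trans hm
      obtain ⟨k, hk⟩ := QCoh.app_exact hS _ _ hm0
      let lf := kernel.lift π d (cokernel.condition d)
      haveI := QCoh.isQuasicoherent_kernel lf
      have hS' : (ShortComplex.mk (kernel.ι lf) lf (kernel.condition lf)).ShortExact :=
        { exact := ShortComplex.exact_kernel _ }
      obtain ⟨t, rfl⟩ := QCoh.app_surjective_of_isAffineOpen hS' hTa k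
      have hdt : d.app (q ⁻¹ᵁ V.1) t = QCoh.pullSec q P (le_refl _) m :=
        (congrArg (fun φ : D ⟶ QP => φ.app (q ⁻¹ᵁ V.1) t) (kernel.lift_ι π d (cokernel.condition d))).symm.trans hk
      obtain ⟨s, hs⟩ := exists_eq_sum (fun _ : Γ(W, ⊤) => QP) hTa.isCompact t
      have hz : Φ (d.app (q ⁻¹ᵁ V.1) t) = 0 := by
        rw [hs, map_sum, map_sum]
        refine Finset.sum_eq_zero fun a _ => ?_
        refine Eq.trans (congrArg Φ ?_) (hΦd a ((Sigma.π (fun _ : Γ(W, ⊤) => QP) a).app _ t))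
        exact congrArg (fun φ : QP ⟶ QP => φ.app (q ⁻¹ᵁ V.1) _) (Sigma.ι_desc (fun a => (Scheme.Modules.pullback q).map (α a) - act p QP a) a)
      have h5 := hΦ 1 m
      have h6 : (act p QP 1).app (q ⁻¹ᵁ V.1) (QCoh.pullSec q P (le_refl _) m) = QCoh.pullSec q P (le_refl _) m := by
        show (smulModΓ QP (p.appTop 1)).app _ _ = _
        rw [map_one]
        erw [KLin.smulModΓ_one]
        rfl
      rw [h6, ← hdt, hz] at h5
      have h8 : (α 1).app V.1 m = 0 := h5.symm
      rw [h1] at h8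
      exact h8
    · obtain ⟨z, hz⟩ := QCoh.app_surjective_of_isAffineOpen hS hTa (show Γ(K, q ⁻¹ᵁ V.1) from c)
      have hin : ∀ z : Γ(QP, q ⁻¹ᵁ V.1), ∃ m, (show Γ(K, q ⁻¹ᵁ V.1) from e.app V.1 m) = π.app (q ⁻¹ᵁ V.1) z := by
        refine hspan _ ⟨0, ?_⟩ ?_ fun a m => ⟨(α a).app V.1 m, ?_⟩
        · rw [map_zero, map_zero]
          rfl
        · rintro z w ⟨m, hm⟩ ⟨n, hn⟩
          exact ⟨m + n, (map_add (e.app V.1).hom m n).trans ((congrArg₂ (fun s t : Γ(K, q ⁻¹ᵁ V.1) => s + t) hm hn).trans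
            (map_add (π.app (q ⁻¹ᵁ V.1)).hom z w).symm)⟩
        · refine (congrArg (fun φ : P ⟶ (Scheme.Modules.pushforward q).obj K => φ.app V.1 m) (hequiv a)).trans ?_
          refine (congrArg ((act p K a).app (q ⁻¹ᵁ V.1)) (heps V.1 m)).trans ?_
          exact congrArg (fun φ : QP ⟶ K => φ.app (q ⁻¹ᵁ V.1) (QCoh.pullSec q P (le_refl _) m))
            (KLin.comp_smulModΓ π (p.appTop a))
      obtain ⟨m, hm⟩ := hin z
      exact ⟨m, hm.trans hz⟩
  exact ⟨K, inferInstance, asIso e, hequiv⟩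

end GrothLib.FunMor20
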