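import Groth.Agent.Lib.FunMor20.Supp
import Groth.Agent.Lib.FunMor20.EW
import Groth.Agent.Lib.FunMor20.KernelAffine
import Groth.Agent.Lib.FunMor20.Compose

/-!
# Local kernels of functors on quasi-coherent modules
-/

set_option autoImplicit false
set_option linter.style.haveILetI false
set_option linter.style.longLine false
set_option linter.unusedSectionVars false
set_option maxHeartbeats 400000
set_option backward.isDefEq.respectTransparency.types false

universe u

open CategoryTheory CategoryTheory.Limits AlgebraicGeometry Opposite TopologicalSpace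

noncomputable section

namespace GrothLib.FunMor20

open Formal (smulModΓ)

/-- Multiplication on a quasi-coherent module. -/
def smulQ {X : Scheme.{u}} (M : QCohCat.QCoh X) (a : Γ(X, ⊤)) : M ⟶ M := ObjectProperty.homMk (smulModΓ M.obj a)

theorem end_qO_eq_smulQ {X : Scheme.{u}} (φ : qO X ⟶ qO X) : ∃ a, φ = smulQ (qO X) a :=
  ⟨_, ObjectProperty.hom_ext _ (exists_eq_smulModΓ φ.hom)⟩

theorem tensorUnitLeftIso_natural {Z : Scheme.{u}} {A B : Z.Modules} (ψ : A ⟶ B) :
    ((DCoh.tensorBi (X := Z)).obj (Coh.structureModule Z)).map ψ ≫ (OX.tensorUnitLeftIso B).hom =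
      (OX.tensorUnitLeftIso A).hom ≫ ψ := by
  refine ProjFormula.hom_ext_tmul fun U r t => ?_
  change (DCoh.toP.map (OX.tensorUnitLeftIso B).hom).app (op U) ((DCoh.toP.map (((DCoh.tensorBi (X := Z)).obj (Coh.structureModule Z)).map ψ)).app (op U) (OX.tmulSec (Coh.structureModule Z) A U r t)) =
    (DCoh.toP.map ψ).app (op U) ((DCoh.toP.map (OX.tensorUnitLeftIso A).hom).app (op U) (OX.tmulSec (Coh.structureModule Z) A U r t))
  rw [ProjFormula.map_right_tmulSec, ProjFormula.tensorUnitLeftIso_tmulSec, ProjFormula.tensorUnitLeftIso_tmulSec]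
  exact (map_smul ((DCoh.toP.map ψ).app (op U)).hom _ _).symm

section Trans

variable {X Y Z : Scheme.{u}} (p : Z ⟶ X) (q : Z ⟶ Y)

/-- The transform with kernel `E`. -/
abbrev Φ (E : Z.Modules) : QCohCat.QCoh X ⥤ Y.Modules := preFM p E ⋙ Coh.push q

/-- Functoriality of the transform in the kernel, before pushing forward. -/
def preFMMap {E E' : Z.Modules} (ψ : E ⟶ E') : preFM p E ⟶ preFM p E' where
  app M := ((DCoh.tensorBi (X := Z)).obj ((Scheme.Modules.pullback p).obj M.obj)).map ψ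
  naturality _ _ f := (((DCoh.tensorBi (X := Z)).map ((Scheme.Modules.pullback p).map f.hom)).naturality ψ).symm

/-- Functoriality of the transform in the kernel. -/
def ΦMap {E E' : Z.Modules} (ψ : E ⟶ E') : Φ p q E ⟶ Φ p q E' := Functor.whiskerRight (preFMMap p ψ) (Coh.push q)

theorem ΦMap_comp {E E' E'' : Z.Modules} (ψ : E ⟶ E') (φ : E' ⟶ E'') :
    ΦMap p q (ψ ≫ φ) = ΦMap p q ψ ≫ ΦMap p q φ := by
  ext M : 2
  simp only [ΦMap, preFMMap, Functor.whiskerRight_app, NatTrans.comp_app, Functor.map_comp]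
  exact (Scheme.Modules.pushforward q).map_comp _ _

theorem ΦMap_id (E : Z.Modules) : ΦMap p q (𝟙 E) = 𝟙 _ := by
  ext M : 2
  simp only [ΦMap, preFMMap, Functor.whiskerRight_app, CategoryTheory.Functor.map_id, NatTrans.id_app]
  rfl

theorem preservesColimits_Φ_of_affine [IsAffineHom q] (E : Z.Modules) [E.IsQuasicoherent] (J : Type u) [SmallCategory J] :
    PreservesColimitsOfShape J (Φ p q E) := by
  refine ⟨fun {D} => ?_⟩
  haveI := QCohCat20.preservesColimit_ι D
  haveI := preservesColimitsOfSize_pullback_tensor p E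
  haveI : PreservesColimit D (preFM p E) := inferInstanceAs
    (PreservesColimit D (ObjectProperty.ι (QCohCat.isQCoh X) ⋙ Scheme.Modules.pullback p ⋙ DCoh.tensorRightMod E))
  haveI : PreservesColimit (D ⋙ preFM p E) (Scheme.Modules.pushforward q) :=
    DirImg8.preservesColimit_pushforward q _ fun k => qcoh_preFM p E inferInstance (D.obj k)
  exact inferInstanceAs (PreservesColimit D (preFM p E ⋙ Scheme.Modules.pushforward q))

theorem additive_Φ (E : Z.Modules) : (Φ p q E).Additive := by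
  haveI := preservesFiniteColimits_ι X
  haveI := preservesFiniteColimits_pullback_tensor p E
  haveI : PreservesFiniteColimits (preFM p E) :=
    comp_preservesFiniteColimits (ObjectProperty.ι (QCohCat.isQCoh X)) (Scheme.Modules.pullback p ⋙ DCoh.tensorRightMod E)
  haveI : PreservesBinaryBiproducts (preFM p E) := preservesBinaryBiproducts_of_preservesBinaryCoproducts _
  haveI : (preFM p E).Additive := Functor.additive_of_preservesBinaryBiproducts _
  haveI : (Coh.push q).Additive := (Scheme.Modules.pullbackPushforwardAdjunction q).right_adjoint_additive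
  infer_instance

end Trans

section Slice

variable {X Y Z S : Scheme.{u}} (p : Z ⟶ X) (q : Z ⟶ Y) (U : X.Opens)

/-- The restriction of the pullback of `U`'s structure module to the box is trivial. -/
def boxUnitIso : (Scheme.Modules.pullback (p ⁻¹ᵁ U).ι).obj ((Scheme.Modules.pullback p).obj
    ((Scheme.Modules.pushforward U.ι).obj (Coh.structureModule (U : Scheme.{u})))) ≅ Coh.structureModule ((p ⁻¹ᵁ U : Z.Opens) : Scheme.{u}) :=
  (Scheme.Modules.pullbackComp (p ⁻¹ᵁ U).ι p ≪≫ Scheme.Modules.pullbackCongr (morphismRestrict_ι p U).symm ≪≫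
      (Scheme.Modules.pullbackComp (p ∣_ U) U.ι).symm).app _ ≪≫
    (Scheme.Modules.pullback (p ∣_ U)).mapIso (@asIso _ _ _ _ ((Scheme.Modules.pullbackPushforwardAdjunction U.ι).counit.app (Coh.structureModule (U : Scheme.{u})))
      (by haveI := isIso_counit_open U.ι; infer_instance)) ≪≫
    OX.pullUnitIso _

theorem boxUnitIso_smul (a : Γ((U : Scheme.{u}), ⊤)) :
    (Scheme.Modules.pullback (p ⁻¹ᵁ U).ι).map ((Scheme.Modules.pullback p).map
        ((Scheme.Modules.pushforward U.ι).map (smulModΓ (Coh.structureModule (U : Scheme.{u})) a))) ≫ (boxUnitIso p U).hom =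
      (boxUnitIso p U).hom ≫ smulModΓ (Coh.structureModule ((p ⁻¹ᵁ U : Z.Opens) : Scheme.{u})) ((p ∣_ U).appTop a) := by
  have h1 := (Scheme.Modules.pullbackComp (p ⁻¹ᵁ U).ι p ≪≫ Scheme.Modules.pullbackCongr (morphismRestrict_ι p U).symm ≪≫
      (Scheme.Modules.pullbackComp (p ∣_ U) U.ι).symm).hom.naturality
    ((Scheme.Modules.pushforward U.ι).map (smulModΓ (Coh.structureModule (U : Scheme.{u})) a))
  have h2 := (Scheme.Modules.pullbackPushforwardAdjunction U.ι).counit.naturality (smulModΓ (Coh.structureModule (U : Scheme.{u})) a)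
  simp only [Functor.comp_map, Functor.id_map] at h1 h2
  have h3 := congrArg (Scheme.Modules.pullback (p ∣_ U)).map h2
  simp only [Functor.map_comp] at h3
  simp only [boxUnitIso, Iso.trans_hom, Iso.app_hom, Functor.mapIso_hom, asIso_hom, Category.assoc, NatTrans.comp_app] at h1 ⊢
  erw [reassoc_of% h1, reassoc_of% h3, pullback_map_smulModΓ]
  erw [KLin.comp_smulModΓ]
  rfl

/-- The restriction of the box product with `U`'s structure module. -/
def boxIso (E : Z.Modules) : (Scheme.Modules.pullback (p ⁻¹ᵁ U).ι).obj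
    (((DCoh.tensorBi (X := Z)).obj ((Scheme.Modules.pullback p).obj
      ((Scheme.Modules.pushforward U.ι).obj (Coh.structureModule (U : Scheme.{u}))))).obj E) ≅ (Scheme.Modules.pullback (p ⁻¹ᵁ U).ι).obj E :=
  OX.pullTensorIso _ _ E ≪≫ ((DCoh.tensorBi).mapIso (boxUnitIso p U)).app _ ≪≫ OX.tensorUnitLeftIso _

theorem boxIso_natural {E E' : Z.Modules} (ψ : E ⟶ E') :
    (Scheme.Modules.pullback (p ⁻¹ᵁ U).ι).map (((DCoh.tensorBi (X := Z)).obj _).map ψ) ≫ (boxIso p U E').hom =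
      (boxIso p U E).hom ≫ (Scheme.Modules.pullback (p ⁻¹ᵁ U).ι).map ψ := by
  simp only [boxIso, Iso.trans_hom, Iso.app_hom, Functor.mapIso_hom, Category.assoc]
  erw [reassoc_of% (OX.pullTensorIso_natural₂ (p ⁻¹ᵁ U).ι _ ψ)]
  refine congrArg (_ ≫ ·) ?_
  erw [reassoc_of% ((DCoh.tensorBi).map (boxUnitIso p U).hom).naturality ((Scheme.Modules.pullback (p ⁻¹ᵁ U).ι).map ψ)]
  exact congrArg (_ ≫ ·) (tensorUnitLeftIso_natural _)

theorem boxIso_smul (E : Z.Modules) (a : Γ((U : Scheme.{u}), ⊤)) :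
    (Scheme.Modules.pullback (p ⁻¹ᵁ U).ι).map (((DCoh.tensorBi (X := Z)).map ((Scheme.Modules.pullback p).map
        ((Scheme.Modules.pushforward U.ι).map (smulModΓ (Coh.structureModule (U : Scheme.{u})) a)))).app E) ≫ (boxIso p U E).hom =
      (boxIso p U E).hom ≫ act (p ∣_ U) _ a := by
  have h1 := congrArg (fun φ => ((DCoh.tensorBi).map φ).app ((Scheme.Modules.pullback (p ⁻¹ᵁ U).ι).obj E)) (boxUnitIso_smul p U a)
  simp only [Functor.map_comp, NatTrans.comp_app] at h1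
  simp only [boxIso, Iso.trans_hom, Iso.app_hom, Functor.mapIso_hom, Category.assoc]
  erw [reassoc_of% (OX.pullTensorIso_natural₁ (p ⁻¹ᵁ U).ι ((Scheme.Modules.pullback p).map
        ((Scheme.Modules.pushforward U.ι).map (smulModΓ (Coh.structureModule (U : Scheme.{u})) a))) E), reassoc_of% h1]
  rw [tensor_map_smulModΓ]
  erw [KLin.comp_smulModΓ]

variable [IsAffineHom U.ι]

theorem isIso_unit_box (E : Z.Modules) [E.IsQuasicoherent] :
    IsIso ((Scheme.Modules.pullbackPushforwardAdjunction (p ⁻¹ᵁ U).ι).unit.app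
      (((DCoh.tensorBi (X := Z)).obj ((Scheme.Modules.pullback p).obj
        ((Scheme.Modules.pushforward U.ι).obj (Coh.structureModule (U : Scheme.{u}))))).obj E)) := by
  haveI := isAffineHom_preimage_ι p U
  haveI : (Coh.structureModule (U : Scheme.{u})).IsQuasicoherent := WeakAss.isQuasicoherent_structureModule
  haveI : ((Scheme.Modules.pushforward U.ι).obj (Coh.structureModule (U : Scheme.{u}))).IsQuasicoherent :=
    QCoh.isQuasicoherent_pushforward U.ι _
  haveI : ((Scheme.Modules.pullback p).obj ((Scheme.Modules.pushforward U.ι).obj (Coh.structureModule (U : Scheme.{u})))).IsQuasicoherent :=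
    FittSheaf.isQuasicoherent_pullback p _
  exact supp_tensor_left (p ⁻¹ᵁ U) (supp_pullback p U (supp_pushforward U _))

/-- The transform at `U`'s structure module. -/
def θ (E : Z.Modules) [E.IsQuasicoherent] :
    (qcohPush U.ι ⋙ Φ p q E).obj (qO _) ≅ (Scheme.Modules.pushforward ((p ⁻¹ᵁ U).ι ≫ q)).obj ((Scheme.Modules.pullback (p ⁻¹ᵁ U).ι).obj E) :=
  (Scheme.Modules.pushforward q).mapIso (@asIso _ _ _ _ _ (isIso_unit_box p U E) ≪≫
      (Scheme.Modules.pushforward (p ⁻¹ᵁ U).ι).mapIso (boxIso p U E)) ≪≫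
    (Scheme.Modules.pushforwardComp (p ⁻¹ᵁ U).ι q).app _

theorem θ_natural {E E' : Z.Modules} [E.IsQuasicoherent] [E'.IsQuasicoherent] (ψ : E ⟶ E') :
    (ΦMap p q ψ).app ((qcohPush U.ι).obj (qO _)) ≫ (θ p q U E').hom =
      (θ p q U E).hom ≫ (Scheme.Modules.pushforward ((p ⁻¹ᵁ U).ι ≫ q)).map ((Scheme.Modules.pullback (p ⁻¹ᵁ U).ι).map ψ) := by
  have h1 := congrArg (Scheme.Modules.pushforward (p ⁻¹ᵁ U).ι).map (boxIso_natural p U ψ)
  have h2 := (Scheme.Modules.pullbackPushforwardAdjunction (p ⁻¹ᵁ U).ι).unit.naturality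
    (((DCoh.tensorBi (X := Z)).obj ((Scheme.Modules.pullback p).obj
      ((Scheme.Modules.pushforward U.ι).obj (Coh.structureModule (U : Scheme.{u}))))).map ψ)
  have h3 := (Scheme.Modules.pushforwardComp (p ⁻¹ᵁ U).ι q).hom.naturality ((Scheme.Modules.pullback (p ⁻¹ᵁ U).ι).map ψ)
  simp only [Functor.map_comp, Functor.comp_map, Functor.id_map] at h1 h2 h3
  have h4 := congrArg (Scheme.Modules.pushforward q).map h2
  have h5 := congrArg (Scheme.Modules.pushforward q).map h1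
  simp only [Functor.map_comp] at h4 h5
  simp only [θ, Iso.trans_hom, Functor.mapIso_hom, asIso_hom, Iso.app_hom, Functor.map_comp, Category.assoc]
  erw [reassoc_of% h4, reassoc_of% h5, h3]
  rfl

theorem θ_smul (E : Z.Modules) [E.IsQuasicoherent] (a : Γ((U : Scheme.{u}), ⊤)) :
    (qcohPush U.ι ⋙ Φ p q E).map (smulQ (qO _) a) ≫ (θ p q U E).hom =
      (θ p q U E).hom ≫ (Scheme.Modules.pushforward ((p ⁻¹ᵁ U).ι ≫ q)).map (act (p ∣_ U) _ a) := by
  have h1 := congrArg (Scheme.Modules.pushforward (p ⁻¹ᵁ U).ι).map (boxIso_smul p U E a)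
  have h2 := (Scheme.Modules.pullbackPushforwardAdjunction (p ⁻¹ᵁ U).ι).unit.naturality
    (((DCoh.tensorBi (X := Z)).map ((Scheme.Modules.pullback p).map
        ((Scheme.Modules.pushforward U.ι).map (smulModΓ (Coh.structureModule (U : Scheme.{u})) a)))).app E)
  have h3 := (Scheme.Modules.pushforwardComp (p ⁻¹ᵁ U).ι q).hom.naturality (act (p ∣_ U) ((Scheme.Modules.pullback (p ⁻¹ᵁ U).ι).obj E) a)
  simp only [Functor.map_comp, Functor.comp_map, Functor.id_map] at h1 h2 h3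
  have h4 := congrArg (Scheme.Modules.pushforward q).map h2
  have h5 := congrArg (Scheme.Modules.pushforward q).map h1
  simp only [Functor.map_comp] at h4 h5
  simp only [θ, Iso.trans_hom, Functor.mapIso_hom, asIso_hom, Iso.app_hom, Functor.map_comp, Category.assoc]
  erw [reassoc_of% h4, reassoc_of% h5, h3]
  rfl

end Slice

section Datum

variable {X Y Z S : Scheme.{u}} [IsAffine S] {x : X ⟶ S} {y : Y ⟶ S} {p : Z ⟶ X} {q : Z ⟶ Y}

/-- Restriction to an open, on quasi-coherent modules. -/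
def qcohPull (U : X.Opens) : QCohCat.QCoh X ⥤ QCohCat.QCoh (U : Scheme.{u}) :=
  ObjectProperty.lift _ (ObjectProperty.ι (QCohCat.isQCoh X) ⋙ Scheme.Modules.pullback U.ι) fun M => VA.isQCoh_pullback U.ι M.property

/-- The unit of restriction, on quasi-coherent modules. -/
def unitQ (U : X.Opens) [IsAffineHom U.ι] : 𝟭 (QCohCat.QCoh X) ⟶ qcohPull U ⋙ qcohPush U.ι where
  app M := ObjectProperty.homMk ((Scheme.Modules.pullbackPushforwardAdjunction U.ι).unit.app M.obj)
  naturality _ _ f := ObjectProperty.hom_ext _ ((Scheme.Modules.pullbackPushforwardAdjunction U.ι).unit.naturality f.hom)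

theorem isIso_unitQ_app (U : X.Opens) [IsAffineHom U.ι] (M : QCohCat.QCoh X) (hM : Supp U M.obj) : IsIso ((unitQ U).app M) := by
  haveI : IsIso ((ObjectProperty.ι (QCohCat.isQCoh X)).map ((unitQ U).app M)) := hM
  exact isIso_of_fully_faithful (ObjectProperty.ι (QCohCat.isQCoh X)) _

theorem isIso_pullback_unit (U : X.Opens) (M : X.Modules) :
    IsIso ((Scheme.Modules.pullback U.ι).map ((Scheme.Modules.pullbackPushforwardAdjunction U.ι).unit.app M)) := by
  let adj := Scheme.Modules.pullbackPushforwardAdjunction U.ι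
  haveI := isIso_counit_open U.ι
  haveI : IsIso ((Scheme.Modules.pullback U.ι).map (adj.unit.app M) ≫ adj.counit.app ((Scheme.Modules.pullback U.ι).obj M)) := by
    erw [adj.left_triangle_components M]; infer_instance
  exact IsIso.of_isIso_comp_right _ (adj.counit.app ((Scheme.Modules.pullback U.ι).obj M))

variable (p q) in
theorem isIso_Φ_unitQ (U : X.Opens) [IsAffineHom U.ι] (E : Z.Modules) [E.IsQuasicoherent] (hE : Supp (p ⁻¹ᵁ U) E) (M : QCohCat.QCoh X) :
    IsIso ((Φ p q E).map ((unitQ U).app M)) := by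
  haveI := isAffineHom_preimage_ι p U
  let η : M.obj ⟶ ((qcohPush U.ι).obj ((qcohPull U).obj M)).obj :=
    (Scheme.Modules.pullbackPushforwardAdjunction U.ι).unit.app M.obj
  haveI : ((Scheme.Modules.pullback p).obj M.obj).IsQuasicoherent := VA.isQCoh_pullback p M.property
  haveI : ((Scheme.Modules.pullback p).obj ((qcohPush U.ι).obj ((qcohPull U).obj M)).obj).IsQuasicoherent :=
    VA.isQCoh_pullback p ((qcohPush U.ι).obj ((qcohPull U).obj M)).property
  haveI : IsIso ((Scheme.Modules.pullback U.ι).map η) := isIso_pullback_unit U M.obj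
  let e := Scheme.Modules.pullbackComp (p ∣_ U) U.ι ≪≫ Scheme.Modules.pullbackCongr (morphismRestrict_ι p U) ≪≫
      (Scheme.Modules.pullbackComp (p ⁻¹ᵁ U).ι p).symm
  have hL : IsIso ((Scheme.Modules.pullback (p ⁻¹ᵁ U).ι).map ((Scheme.Modules.pullback p).map η)) :=
    (NatIso.isIso_map_iff e η).1 (inferInstanceAs (IsIso ((Scheme.Modules.pullback (p ∣_ U)).map ((Scheme.Modules.pullback U.ι).map η))))
  have hT : IsIso ((Scheme.Modules.pullback (p ⁻¹ᵁ U).ι).map (((DCoh.tensorBi (X := Z)).map ((Scheme.Modules.pullback p).map η)).app E)) := by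
    haveI := hL
    haveI : IsIso (((DCoh.tensorBi (X := ((p ⁻¹ᵁ U : Z.Opens) : Scheme.{u}))).map ((Scheme.Modules.pullback (p ⁻¹ᵁ U).ι).map ((Scheme.Modules.pullback p).map η))).app
      ((Scheme.Modules.pullback (p ⁻¹ᵁ U).ι).obj E)) := inferInstance
    exact IsIso.of_isIso_fac_right (OX.pullTensorIso_natural₁ (p ⁻¹ᵁ U).ι ((Scheme.Modules.pullback p).map η) E)
  haveI : IsIso (((DCoh.tensorBi (X := Z)).map ((Scheme.Modules.pullback p).map η)).app E) :=
    (supp_tensor_right (p ⁻¹ᵁ U) hE).isIso (supp_tensor_right (A := (Scheme.Modules.pullback p).obj ((qcohPush U.ι).obj ((qcohPull U).obj M)).obj) (p ⁻¹ᵁ U) hE) _ hT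
  exact inferInstanceAs (IsIso ((Scheme.Modules.pushforward q).map (((DCoh.tensorBi (X := Z)).map ((Scheme.Modules.pullback p).map η)).app E)))

variable (𝔽 : QCohCat.QCoh X ⥤ Y.Modules)

variable (p q) in
/-- A kernel of `𝔽` over `U`. -/
structure Datum (U : X.Opens) [IsAffineHom U.ι] where
  E : Z.Modules
  qcoh : E.IsQuasicoherent
  supp : Supp (p ⁻¹ᵁ U) E
  τ : 𝔽 ⟶ Φ p q E
  iso : ∀ N : QCohCat.QCoh (U : Scheme.{u}), IsIso (τ.app ((qcohPush U.ι).obj N))

attribute [instance] Datum.qcoh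

variable {𝔽}

theorem Datum.isIso_app {U : X.Opens} [IsAffineHom U.ι] (D : Datum p q 𝔽 U) (M : QCohCat.QCoh X) (hM : Supp U M.obj) :
    IsIso (D.τ.app M) := by
  haveI := isIso_unitQ_app U M hM
  exact (NatTrans.isIso_app_iff_of_iso D.τ (asIso ((unitQ U).app M))).2 (D.iso ((qcohPull U).obj M))

variable [IsAffineHom (pullback.diagonal x)] [PreservesFiniteColimits 𝔽] [∀ J : Type u, PreservesColimitsOfShape (Discrete J) 𝔽] [𝔽.Additive]

theorem colim_qcohPush_comp (U : X.Opens) [IsAffineHom U.ι] :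
    PreservesFiniteColimits (qcohPush U.ι ⋙ 𝔽) ∧ ∀ J : Type u, PreservesColimitsOfShape (Discrete J) (qcohPush U.ι ⋙ 𝔽) :=
  haveI := preservesFiniteColimits_qcohPush U.ι
  ⟨comp_preservesFiniteColimits (qcohPush U.ι) 𝔽, fun J =>
    haveI := preservesColimitsOfShape_qcohPush U.ι (Discrete J)
    comp_preservesColimitsOfShape (qcohPush U.ι) 𝔽⟩

instance additive_qcohPush {U : Scheme.{u}} (j : U ⟶ X) [IsAffineHom j] : (qcohPush j).Additive where
  map_add := ObjectProperty.hom_ext _ ((Scheme.Modules.pullbackPushforwardAdjunction j).right_adjoint_additive.map_add)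

variable (h : IsPullback p q x y)

include h in
theorem colim_qcohPush_Φ (U : X.Opens) [IsAffine (U : Scheme.{u})] [IsAffineHom U.ι] (E : Z.Modules) [E.IsQuasicoherent] :
    PreservesFiniteColimits (qcohPush U.ι ⋙ Φ p q E) ∧
      ∀ J : Type u, PreservesColimitsOfShape (Discrete J) (qcohPush U.ι ⋙ Φ p q E) := by
  have hres : IsPullback (p ∣_ U) ((p ⁻¹ᵁ U).ι ≫ q) (U.ι ≫ x) y := (isPullback_morphismRestrict p U).paste_vert h
  haveI := isAffineHom_snd hres
  haveI : ((Scheme.Modules.pullback (p ⁻¹ᵁ U).ι).obj E).IsQuasicoherent := FittSheaf.isQuasicoherent_pullback _ _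
  let e : qcohPush U.ι ⋙ Φ p q E ≅ Φ (p ∣_ U) ((p ⁻¹ᵁ U).ι ≫ q) ((Scheme.Modules.pullback (p ⁻¹ᵁ U).ι).obj E) :=
    Functor.isoWhiskerRight (pushSquareIso (isPullback_morphismRestrict p U) E) (Scheme.Modules.pushforward q) ≪≫
      Functor.isoWhiskerLeft (preFM (p ∣_ U) ((Scheme.Modules.pullback (p ⁻¹ᵁ U).ι).obj E))
        (Scheme.Modules.pushforwardComp (p ⁻¹ᵁ U).ι q)
  haveI := fun (J : Type u) (_ : SmallCategory J) =>
    preservesColimits_Φ_of_affine (p ∣_ U) ((p ⁻¹ᵁ U).ι ≫ q) ((Scheme.Modules.pullback (p ⁻¹ᵁ U).ι).obj E) J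
  refine ⟨preservesFiniteColimits_of_preservesFiniteColimitsOfSize.{u} _ fun J _ _ => ?_, fun J => ?_⟩
  all_goals exact preservesColimitsOfShape_of_natIso e.symm

theorem comm_of_act {U : X.Opens} [IsAffineHom U.ι] {E : Z.Modules} [E.IsQuasicoherent] {P : Y.Modules} (G : End (qO (U : Scheme.{u})) → (P ⟶ P))
    (η : P ⟶ (qcohPush U.ι ⋙ Φ p q E).obj (qO _))
    (hη : ∀ a, G (smulQ (qO _) a) ≫ η ≫ (θ p q U E).hom =
      η ≫ (θ p q U E).hom ≫ (Scheme.Modules.pushforward ((p ⁻¹ᵁ U).ι ≫ q)).map (act (p ∣_ U) _ a))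
    (φ : qO (U : Scheme.{u}) ⟶ qO _) : G φ ≫ η = η ≫ (qcohPush U.ι ⋙ Φ p q E).map φ := by
  obtain ⟨a, rfl⟩ := end_qO_eq_smulQ φ
  rw [← cancel_mono (θ p q U E).hom, Category.assoc, Category.assoc, hη, θ_smul]

include h in
/-- Existence of local kernels. -/
theorem nonempty_datum (hqc : ∀ M, (𝔽.obj M).IsQuasicoherent)
    (hR : ∀ (M : QCohCat.QCoh X) (r : Γ(S, ⊤)), 𝔽.map (smulQ M (x.appTop r)) = smulModΓ (𝔽.obj M) (y.appTop r))
    (U : X.Opens) [IsAffine (U : Scheme.{u})] [IsAffineHom U.ι] : Nonempty (Datum p q 𝔽 U) := by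
  have hres : IsPullback (p ∣_ U) ((p ⁻¹ᵁ U).ι ≫ q) (U.ι ≫ x) y := (isPullback_morphismRestrict p U).paste_vert h
  haveI := isAffineHom_preimage_ι p U
  let G := qcohPush U.ι ⋙ 𝔽
  haveI : (G.obj (qO _)).IsQuasicoherent := hqc _
  haveI : G.Additive := inferInstance
  obtain ⟨K, hK, e, he⟩ := exists_kernel hres (G.obj (qO _)) (fun a => G.map (smulQ (qO _) a))
    (by
      rw [← G.map_id]
      exact congrArg G.map (ObjectProperty.hom_ext _ (KLin.smulModΓ_one _)))
    (fun a b => by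
      rw [← G.map_add]
      exact congrArg G.map (ObjectProperty.hom_ext _ (KLin.smulModΓ_add (Coh.structureModule (U : Scheme.{u})) a b)))
    (fun a b => by
      rw [← G.map_comp, mul_comm]
      exact congrArg G.map (ObjectProperty.hom_ext _ (KLin.smulModΓ_mul (Coh.structureModule (U : Scheme.{u})) b a)))
    (fun r => by
      refine Eq.trans ?_ (hR ((qcohPush U.ι).obj (qO _)) r)
      refine congrArg 𝔽.map (ObjectProperty.hom_ext _ ?_)
      exact pushforward_map_smulModΓ U.ι _ (x.appTop r))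
  haveI : K.IsQuasicoherent := hK
  let E := (Scheme.Modules.pushforward (p ⁻¹ᵁ U).ι).obj K
  haveI hEq : E.IsQuasicoherent := QCoh.isQuasicoherent_pushforward _ K
  have hE : Supp (p ⁻¹ᵁ U) E := supp_pushforward _ K
  haveI := isIso_counit_open (p ⁻¹ᵁ U).ι
  let c := (Scheme.Modules.pullbackPushforwardAdjunction (p ⁻¹ᵁ U).ι).counit.app K
  let η : G.obj (qO _) ⟶ (qcohPush U.ι ⋙ Φ p q E).obj (qO _) :=
    e.hom ≫ (Scheme.Modules.pushforward ((p ⁻¹ᵁ U).ι ≫ q)).map (inv c) ≫ (θ p q U E).inv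
  have hη : ∀ φ : qO (U : Scheme.{u}) ⟶ qO _, G.map φ ≫ η = η ≫ (qcohPush U.ι ⋙ Φ p q E).map φ :=
    comm_of_act (fun φ => G.map φ) η fun a => by
      simp only [η, Category.assoc, Iso.inv_hom_id_assoc, Iso.inv_hom_id, Category.comp_id]
      erw [reassoc_of% he a]
      rw [← Functor.map_comp, ← Functor.map_comp]
      exact congrArg (fun t => e.hom ≫ (Scheme.Modules.pushforward ((p ⁻¹ᵁ U).ι ≫ q)).map t) (KLin.comp_smulModΓ (inv c) _).symm
  haveI := (colim_qcohPush_comp (𝔽 := 𝔽) U).1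
  haveI := (colim_qcohPush_comp (𝔽 := 𝔽) U).2
  haveI := (colim_qcohPush_Φ h U E).1
  haveI := (colim_qcohPush_Φ h U E).2
  haveI := additive_Φ p q E
  haveI : (qcohPush U.ι ⋙ Φ p q E).Additive := inferInstance
  obtain ⟨τU, hτU⟩ := exists_natTrans_affine (G₁ := G) η hη
  haveI hO : IsIso (τU.app (qO _)) := by rw [hτU]; infer_instance
  have hiso : ∀ N, IsIso (τU.app N) := fun N => isIso_app_of_generator τU hO N
  haveI : IsIso (Functor.whiskerRight (unitQ U) (Φ p q E)) := by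
    haveI : ∀ M, IsIso ((Functor.whiskerRight (unitQ U) (Φ p q E)).app M) := fun M => isIso_Φ_unitQ p q U E hE M
    exact NatIso.isIso_of_isIso_app _
  let τ : 𝔽 ⟶ Φ p q E := Functor.whiskerRight (unitQ U) 𝔽 ≫ Functor.whiskerLeft (qcohPull U) τU ≫
    inv (Functor.whiskerRight (unitQ U) (Φ p q E))
  refine ⟨⟨E, hEq, hE, τ, fun N => ?_⟩⟩
  haveI := isIso_unitQ_app U ((qcohPush U.ι).obj N) (supp_pushforward U N.obj)
  haveI := hiso ((qcohPull U).obj ((qcohPush U.ι).obj N))
  show IsIso (𝔽.map ((unitQ U).app _) ≫ τU.app _ ≫ (inv (Functor.whiskerRight (unitQ U) (Φ p q E))).app _)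
  infer_instance

include h in
/-- The universal property of local kernels. -/
theorem Datum.existsUnique {U : X.Opens} [IsAffine (U : Scheme.{u})] [IsAffineHom U.ι] (D : Datum p q 𝔽 U) (E' : Z.Modules)
    [E'.IsQuasicoherent] (hE' : Supp (p ⁻¹ᵁ U) E') (τ' : 𝔽 ⟶ Φ p q E') :
    ∃! ψ : D.E ⟶ E', D.τ ≫ ΦMap p q ψ = τ' := by
  have hres : IsPullback (p ∣_ U) ((p ⁻¹ᵁ U).ι ≫ q) (U.ι ≫ x) y := (isPullback_morphismRestrict p U).paste_vert h
  let L := Scheme.Modules.pullback (p ⁻¹ᵁ U).ι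
  let J := Scheme.Modules.pushforward (p ⁻¹ᵁ U).ι
  let q' := (p ⁻¹ᵁ U).ι ≫ q
  haveI : (L.obj D.E).IsQuasicoherent := FittSheaf.isQuasicoherent_pullback _ _
  haveI : (L.obj E').IsQuasicoherent := FittSheaf.isQuasicoherent_pullback _ _
  let O := (qcohPush U.ι).obj (qO (U : Scheme.{u}))
  haveI : IsIso (D.τ.app O) := D.iso _
  let η := (θ p q U D.E).inv ≫ inv (D.τ.app O) ≫ τ'.app O ≫ (θ p q U E').hom
  have hη : ∀ a, (Scheme.Modules.pushforward q').map (act (p ∣_ U) (L.obj D.E) a) ≫ η =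
      η ≫ (Scheme.Modules.pushforward q').map (act (p ∣_ U) (L.obj E') a) := fun a => by
    let φ := (qcohPush U.ι).map (smulQ (qO (U : Scheme.{u})) a)
    have e1 : (Φ p q D.E).map φ ≫ (θ p q U D.E).hom = _ := θ_smul p q U D.E a
    have e2 : (Φ p q E').map φ ≫ (θ p q U E').hom = _ := θ_smul p q U E' a
    have e3 : inv (D.τ.app O) ≫ 𝔽.map φ = (Φ p q D.E).map φ ≫ inv (D.τ.app O) := by
      rw [IsIso.inv_comp_eq, ← D.τ.naturality_assoc, IsIso.hom_inv_id, Category.comp_id]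
    have e4 : (Scheme.Modules.pushforward q').map (act (p ∣_ U) (L.obj D.E) a) =
        (θ p q U D.E).inv ≫ (Φ p q D.E).map φ ≫ (θ p q U D.E).hom := by
      rw [e1, Iso.inv_hom_id_assoc]
    rw [e4]
    simp only [η, Category.assoc, Iso.hom_inv_id_assoc]
    erw [← reassoc_of% e3, τ'.naturality_assoc, e2]
  obtain ⟨ψ', hψ', huniq⟩ := existsUnique_of_equivariant hres (L.obj D.E) (L.obj E') η hη
  haveI : IsIso ((Scheme.Modules.pullbackPushforwardAdjunction (p ⁻¹ᵁ U).ι).unit.app E') := hE'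
  haveI : IsIso ((Scheme.Modules.pullbackPushforwardAdjunction (p ⁻¹ᵁ U).ι).unit.app D.E) := D.supp
  let ψ := (Scheme.Modules.pullbackPushforwardAdjunction (p ⁻¹ᵁ U).ι).unit.app D.E ≫ J.map ψ' ≫
    inv ((Scheme.Modules.pullbackPushforwardAdjunction (p ⁻¹ᵁ U).ι).unit.app E')
  have hconj : ∀ φ : D.E ⟶ E', φ = (Scheme.Modules.pullbackPushforwardAdjunction (p ⁻¹ᵁ U).ι).unit.app D.E ≫
      J.map (L.map φ) ≫ inv ((Scheme.Modules.pullbackPushforwardAdjunction (p ⁻¹ᵁ U).ι).unit.app E') := fun φ => by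
    rw [← Category.assoc, IsIso.eq_comp_inv]
    exact (Scheme.Modules.pullbackPushforwardAdjunction (p ⁻¹ᵁ U).ι).unit.naturality φ
  have hLψ : L.map ψ = ψ' := by
    refine J.map_injective ?_
    have h0 := hconj ψ
    exact (cancel_mono (inv ((Scheme.Modules.pullbackPushforwardAdjunction (p ⁻¹ᵁ U).ι).unit.app E'))).1
      ((cancel_epi ((Scheme.Modules.pullbackPushforwardAdjunction (p ⁻¹ᵁ U).ι).unit.app D.E)).1 h0.symm)
  have hkey : ∀ φ : D.E ⟶ E', (D.τ ≫ ΦMap p q φ).app O = τ'.app O ↔ L.map φ = ψ' := fun φ => by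
    have e1 := θ_natural p q U φ
    rw [NatTrans.comp_app]
    constructor
    · intro heq
      refine huniq _ ?_
      simp only [η]
      rw [← heq, Category.assoc]
      erw [e1, IsIso.inv_hom_id_assoc, Iso.inv_hom_id_assoc]
    · intro heq
      rw [← cancel_mono (θ p q U E').hom, Category.assoc]
      erw [e1]
      rw [heq, hψ']
      simp only [η, Iso.hom_inv_id_assoc]
      erw [IsIso.hom_inv_id_assoc]
  haveI := (colim_qcohPush_comp (𝔽 := 𝔽) U).1
  haveI := (colim_qcohPush_comp (𝔽 := 𝔽) U).2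
  refine ⟨ψ, ?_, fun φ hφ => ?_⟩
  · have hw : Functor.whiskerLeft (qcohPush U.ι) (D.τ ≫ ΦMap p q ψ) = Functor.whiskerLeft (qcohPush U.ι) τ' :=
      natTrans_ext_affine ((hkey ψ).2 hLψ)
    refine NatTrans.ext (funext fun M => ?_)
    haveI := isIso_Φ_unitQ p q U E' hE' M
    rw [← cancel_mono ((Φ p q E').map ((unitQ U).app M))]
    erw [← (D.τ ≫ ΦMap p q ψ).naturality ((unitQ U).app M), ← τ'.naturality ((unitQ U).app M)]
    exact congrArg (fun t => 𝔽.map ((unitQ U).app M) ≫ t) (NatTrans.congr_app hw ((qcohPull U).obj M))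
  · have h2 : L.map φ = ψ' := (hkey φ).1 (NatTrans.congr_app hφ O)
    rw [hconj φ, h2]

include h in
/-- Transition maps restrict to isomorphisms. -/
theorem Datum.isIso_restrict {U U' : X.Opens} [IsAffine (U : Scheme.{u})] [IsAffineHom U.ι] [IsAffine (U' : Scheme.{u})]
    [IsAffineHom U'.ι] (hle : U' ≤ U) (D : Datum p q 𝔽 U) (D' : Datum p q 𝔽 U') (r : D.E ⟶ D'.E)
    (hr : D.τ ≫ ΦMap p q r = D'.τ) : IsIso ((Scheme.Modules.pullback (p ⁻¹ᵁ U').ι).map r) := by
  haveI := isAffineHom_preimage_ι p U'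
  let L := Scheme.Modules.pullback (p ⁻¹ᵁ U').ι
  let E'' := (Scheme.Modules.pushforward (p ⁻¹ᵁ U').ι).obj (L.obj D.E)
  let η : D.E ⟶ E'' := (Scheme.Modules.pullbackPushforwardAdjunction (p ⁻¹ᵁ U').ι).unit.app D.E
  haveI : (L.obj D.E).IsQuasicoherent := FittSheaf.isQuasicoherent_pullback _ _
  haveI hq'' : E''.IsQuasicoherent := QCoh.isQuasicoherent_pushforward _ _
  have hs'' : Supp (p ⁻¹ᵁ U') E'' := supp_pushforward _ _
  have hiso : ∀ N, IsIso ((D.τ ≫ ΦMap p q η).app ((qcohPush U'.ι).obj N)) := fun N => by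
    let M := (qcohPush U'.ι).obj N
    haveI : N.obj.IsQuasicoherent := N.property
    haveI : M.obj.IsQuasicoherent := M.property
    have hτ := D.isIso_app M ((supp_pushforward U' N.obj).mono hle)
    let A := (Scheme.Modules.pullback p).obj M.obj
    haveI : A.IsQuasicoherent := VA.isQCoh_pullback p M.property
    have hA : Supp (p ⁻¹ᵁ U') A := supp_pullback p U' (supp_pushforward U' N.obj)
    haveI : IsIso (L.map η) := isIso_pullback_unit (p ⁻¹ᵁ U') D.E
    have hη : IsIso (((DCoh.tensorBi (X := Z)).obj A).map η) :=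
      (supp_tensor_left (p ⁻¹ᵁ U') hA).isIso (supp_tensor_left (E := E'') (p ⁻¹ᵁ U') hA) _
        (IsIso.of_isIso_fac_right (OX.pullTensorIso_natural₂ (p ⁻¹ᵁ U').ι A η))
    exact IsIso.comp_isIso' (f := D.τ.app M) hτ (@Functor.map_isIso _ _ _ _ _ _ (Coh.push q) _ hη)
  let D'' : Datum p q 𝔽 U' := ⟨E'', hq'', hs'', D.τ ≫ ΦMap p q η, hiso⟩
  obtain ⟨ψ, hψ, -⟩ := D''.existsUnique h D'.E D'.supp D'.τ
  obtain ⟨χ, hχ, -⟩ := D'.existsUnique h E'' hs'' (D.τ ≫ ΦMap p q η)
  obtain ⟨_, -, hu''⟩ := D''.existsUnique h E'' hs'' D''.τ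
  obtain ⟨_, -, hu'⟩ := D'.existsUnique h D'.E D'.supp D'.τ
  have h1 : ψ ≫ χ = 𝟙 _ :=
    (hu'' (ψ ≫ χ) ((congrArg (D''.τ ≫ ·) (ΦMap_comp p q ψ χ)).trans ((Category.assoc _ _ _).symm.trans ((congrArg (· ≫ ΦMap p q χ) hψ).trans hχ)))).trans
      (hu'' (𝟙 _) ((congrArg (D''.τ ≫ ·) (ΦMap_id p q E'')).trans (Category.comp_id _))).symm
  have h2 : χ ≫ ψ = 𝟙 _ :=
    (hu' (χ ≫ ψ) ((congrArg (D'.τ ≫ ·) (ΦMap_comp p q χ ψ)).trans ((Category.assoc _ _ _).symm.trans ((congrArg (· ≫ ΦMap p q ψ) hχ).trans hψ)))).trans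
      (hu' (𝟙 _) ((congrArg (D'.τ ≫ ·) (ΦMap_id p q D'.E)).trans (Category.comp_id _))).symm
  haveI : IsIso ψ := ⟨χ, h1, h2⟩
  obtain ⟨_, -, hu⟩ := D.existsUnique h D'.E (D'.supp.mono ((Opens.map p.base).map (homOfLE hle)).le) D'.τ
  have hfac : r = η ≫ ψ := (hu r hr).trans (hu (η ≫ ψ) ((congrArg (D.τ ≫ ·) (ΦMap_comp p q η ψ)).trans ((Category.assoc _ _ _).symm.trans hψ))).symm
  rw [hfac]
  have hLη : IsIso (L.map η) := isIso_pullback_unit (p ⁻¹ᵁ U') D.E
  exact (L.map_comp η ψ).symm ▸ IsIso.comp_isIso' hLη (Functor.map_isIso L ψ)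

end Datum

end GrothLib.FunMor20
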