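import Groth.Agent.Lib.FunMor20.Ind
import Groth.Agent.Lib.QCohCat20.Category
import Groth.Agent.Lib.QCohCat20.Compact
import Groth.Agent.Lib.QCohCat20.Separator
import Groth.Agent.Lib.QCoh.DevissageSummands
import Groth.Agent.Lib.FlatFP.Sheaf
import Groth.Agent.Lib.FlatFP.Kernel
import Mathlib.CategoryTheory.Presentable.Dense
import Mathlib.CategoryTheory.Presentable.StrongGenerator

/-!
# Quasi-coherent modules on a noetherian scheme are generated by coherent ones
-/

set_option autoImplicit false
set_option linter.style.haveILetI false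
set_option linter.unusedSectionVars false
set_option backward.isDefEq.respectTransparency.types false

universe u

open CategoryTheory CategoryTheory.Limits AlgebraicGeometry Opposite TopologicalSpace

noncomputable section

attribute [local instance] Cardinal.fact_isRegular_aleph0

namespace GrothLib.FunMor20

variable {X : Scheme.{u}}

/-- Coherent modules. -/
abbrev cohP (X : Scheme.{u}) : ObjectProperty X.Modules := fun M => Coh.IsCoh M

abbrev cohι (X : Scheme.{u}) : (cohP X).FullSubcategory ⥤ QCohCat.QCoh X :=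
  ObjectProperty.ιOfLE (P := cohP X) (P' := QCohCat.isQCoh X) (fun _ h => h.1)

variable [IsNoetherian X]

theorem isFP_of_isCoh {M : X.Modules} (hM : Coh.IsCoh M) : CohB1.IsFP M := by
  haveI := hM.1
  refine FlatFP.isFP_of_sections M (fun U : X.affineOpens => U.1) (iSup_affineOpens_eq_top X) (fun U => U.2)
    fun U => ?_
  haveI := QCoh.moduleFinite_of_isFiniteType M hM.2 U.2
  haveI : IsNoetherianRing Γ(X, U.1) := IsLocallyNoetherian.component_noetherian U
  exact Module.finitePresentation_of_finite _ _

theorem isFinitelyPresentable_iff_isCoh (M : QCohCat.QCoh X) :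
    IsFinitelyPresentable.{u} M ↔ Coh.IsCoh M.obj := by
  refine ⟨fun _ => ⟨M.property, ?_⟩, fun h => QCohCat20.isFinitelyPresentable_of_isFP M (isFP_of_isCoh h)⟩
  have hF := QCohCat20.isFP_of_isFinitelyPresentable M
  haveI := hF
  have hFT : CohB1.IsFT M.obj := inferInstance
  exact hFT

theorem isLocallyFinitelyPresentable : IsLocallyFinitelyPresentable.{u} (QCohCat.QCoh X) := by
  classical
  rw [IsLocallyFinitelyPresentable, IsCardinalLocallyPresentable.iff_exists_isStrongGenerator]
  obtain ⟨ι, _, V, hVA, -, hcov⟩ := QCoh.exists_finite_affine_cover (U := (⊤ : X.Opens))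
    (by simpa using isCompact_univ)
  let e := Fintype.equivFin ι
  let W : Fin (Fintype.card ι) → X.Opens := fun l => V (e.symm l)
  have hW : ∀ l, IsAffineOpen (W l) := fun l => hVA _
  have hcov' : ∀ x : X, ∃ l, x ∈ W l := fun x => by
    obtain ⟨i, hi⟩ := Opens.mem_iSup.1 (hcov (Set.mem_univ x))
    exact ⟨e i, by simpa [W] using hi⟩
  let I : Type u := Σ d : QCohCat20.Data W, {S : Shrink.{u} (Subobject (QCohCat20.bound W hW d)) //
    Coh.IsCoh (((equivShrink _).symm S : Subobject (QCohCat20.bound W hW d)) : X.Modules)}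
  let obj : I → QCohCat.QCoh X := fun i =>
    ⟨(((equivShrink _).symm i.2.1 : Subobject (QCohCat20.bound W hW i.1)) : X.Modules), i.2.2.1⟩
  have hgen : ∀ {M N : QCohCat.QCoh X} (f g : M ⟶ N),
      (∀ (i : I) (h : obj i ⟶ M), h ≫ f = h ≫ g) → f = g := by
    intro M N f g h
    haveI : M.obj.IsQuasicoherent := M.property
    refine ObjectProperty.hom_ext _ (AffHom.hom_ext fun U s => ?_)
    obtain ⟨G, i, hi, hGq, hGf, a, rfl⟩ := QCohCat20.exists_finiteType_through_section M.obj U s
    obtain ⟨d, φ, hφ⟩ := QCohCat20.exists_mono_bound W hW hcov' G hGf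
    let ψ : (((equivShrink _).symm (equivShrink _ (Subobject.mk φ)) : Subobject (QCohCat20.bound W hW d)) : X.Modules) ≅ G :=
      eqToIso (by rw [Equiv.symm_apply_apply]) ≪≫ Subobject.underlyingIso φ
    let k : I := ⟨d, ⟨equivShrink _ (Subobject.mk φ), QCoh.isCoh_of_iso ψ.symm ⟨hGq, hGf⟩⟩⟩
    have hh := congrArg (fun q : obj k ⟶ N => q.hom) (h k (ObjectProperty.homMk (ψ.hom ≫ i)))
    have h2 : i ≫ f.hom = i ≫ g.hom := by
      rw [← cancel_epi ψ.hom]
      simpa using hh
    exact congrArg (fun q : G ⟶ N.obj => q.app U.1 a) h2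
  refine ⟨ObjectProperty.ofObj obj, inferInstance, ?_, ?_⟩
  · rw [ObjectProperty.isStrongGenerator_iff]
    refine ⟨fun M N f g h => hgen f g fun i q => h _ (ObjectProperty.ofObj.mk i) q, fun M N m _ hm => ?_⟩
    haveI : Epi m := Preadditive.epi_of_cokernel_zero (hgen _ _ fun i q => by
      obtain ⟨r, hr⟩ := hm _ (ObjectProperty.ofObj.mk i) q
      rw [← hr]
      simp)
    exact isIso_of_mono_of_epi m
  · rintro _ ⟨i⟩
    exact (isFinitelyPresentable_iff_isCoh _).2 i.2.2

instance finitelyAccessible : IsFinitelyAccessibleCategory.{u} (QCohCat.QCoh X) :=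
  haveI := isLocallyFinitelyPresentable (X := X)
  inferInstance

/-- Coherent modules, as compact objects. -/
def cohFP (X : Scheme.{u}) [IsNoetherian X] : (cohP X).FullSubcategory ⥤
    (ObjectProperty.isFinitelyPresentable.{u} (QCohCat.QCoh X)).FullSubcategory :=
  (ObjectProperty.isFinitelyPresentable.{u} (QCohCat.QCoh X)).lift (cohι X)
    fun M => (isFinitelyPresentable_iff_isCoh _).2 M.property

instance isEquivalence_cohFP : (cohFP X).IsEquivalence where
  faithful := ⟨fun {A B} {f g} h => (cohι X).map_injective (congrArg (fun t => t.hom) h)⟩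
  full := ⟨fun {A B} f => ⟨(cohι X).preimage f.hom, ObjectProperty.hom_ext _ ((cohι X).map_preimage _)⟩⟩
  essSurj := ⟨fun F => ⟨⟨F.obj.obj, (isFinitelyPresentable_iff_isCoh _).1 F.property⟩,
    ⟨ObjectProperty.isoMk _ (Iso.refl _)⟩⟩⟩

instance isDense_cohι : (cohι X).IsDense :=
  inferInstanceAs ((cohFP X ⋙ (ObjectProperty.isFinitelyPresentable.{u} (QCohCat.QCoh X)).ι).IsDense)

instance isFiltered_over_cohι (M : QCohCat.QCoh X) : IsFiltered (CostructuredArrow (cohι X) M) :=
  IsFiltered.of_equivalence ((CostructuredArrow.pre (cohFP X)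
    (ObjectProperty.isFinitelyPresentable.{u} (QCohCat.QCoh X)).ι M).asEquivalence).symm

instance essentiallySmall_coh : EssentiallySmall.{u} (cohP X).FullSubcategory :=
  (essentiallySmall_congr (cohFP X).asEquivalence).2 inferInstance

instance essentiallySmall_over_cohι (M : QCohCat.QCoh X) : EssentiallySmall.{u} (CostructuredArrow (cohι X) M) :=
  inferInstance

instance compact_cohι (M : (cohP X).FullSubcategory) : IsFinitelyPresentable.{u} ((cohι X).obj M) :=
  (isFinitelyPresentable_iff_isCoh _).2 M.property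

instance : (cohP X).IsClosedUnderIsomorphisms where
  of_iso e hM := QCoh.isCoh_of_iso e hM

instance : (cohP X).IsClosedUnderKernels where
  kernels_le := by
    rintro Z ⟨f, k, hk, hf⟩
    obtain ⟨hA, hB⟩ := hf
    exact QCoh.isCoh_of_iso ((kernelIsKernel f).conePointUniqueUpToIso hk) (QCoh.isCoh_kernel f hA hB)

instance : (cohP X).IsClosedUnderCokernels where
  cokernels_le := by
    rintro Z ⟨f, k, hk, hf⟩
    obtain ⟨hA, hB⟩ := hf
    exact QCoh.isCoh_of_iso ((cokernelIsCokernel f).coconePointUniqueUpToIso hk) (QCoh.isCoh_cokernel f hA hB)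

end GrothLib.FunMor20
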