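import Groth.Agent.Lib.FunMor20.SuppInter

/-!
# Gluing local kernels
-/

set_option autoImplicit false
set_option linter.style.haveILetI false
set_option linter.style.longLine false
set_option linter.unusedSectionVars false
set_option maxHeartbeats 400000
set_option backward.isDefEq.respectTransparency.types false

universe u v₁ u₁ v₂ u₂

open CategoryTheory CategoryTheory.Limits AlgebraicGeometry Opposite TopologicalSpace

noncomputable section

attribute [local instance] Classical.decEq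

namespace GrothLib.FunMor20

section Split

variable {C : Type u₁} [Category.{v₁} C] [Preadditive C] {D : Type u₂} [Category.{v₂} D] [Preadditive D]

theorem isIso_map_kernel_lift (L : C ⥤ D) [L.PreservesMonomorphisms] [L.Additive] {K P Q : C} (a : K ⟶ P) (b : P ⟶ Q)
    [HasKernel b] (w : a ≫ b = 0) (s : L.obj P ⟶ L.obj K) (H : L.obj Q ⟶ L.obj P) (h₁ : L.map a ≫ s = 𝟙 _)
    (h₂ : s ≫ L.map a + L.map b ≫ H = 𝟙 _) : IsIso (L.map (kernel.lift b a w)) := by
  haveI : Mono (L.map (kernel.ι b)) := L.map_mono _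
  refine ⟨L.map (kernel.ι b) ≫ s, ?_, ?_⟩
  · rw [← Category.assoc, ← L.map_comp, kernel.lift_ι, h₁]
  · have hs : s ≫ L.map a = 𝟙 _ - L.map b ≫ H := eq_sub_of_add_eq h₂
    rw [← cancel_mono (L.map (kernel.ι b)), Category.assoc, ← L.map_comp, kernel.lift_ι, Category.assoc, hs,
      Preadditive.comp_sub, Category.comp_id, ← Category.assoc, ← L.map_comp, kernel.condition, L.map_zero, zero_comp,
      sub_zero, Category.id_comp]

variable {D' : Type u₂} [Category.{v₂} D'] [Preadditive D']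

/-- Split data pass through functors. -/
theorem exists_split_map (T : C ⥤ C) (L : C ⥤ D) (T' : D ⥤ D') [T'.Additive] (L' : C ⥤ D')
    (e : ∀ M, L'.obj (T.obj M) ≅ T'.obj (L.obj M))
    (he : ∀ {M N : C} (f : M ⟶ N), L'.map (T.map f) ≫ (e N).hom = (e M).hom ≫ T'.map (L.map f))
    {K P Q : C} (a : K ⟶ P) (b : P ⟶ Q) (s : L.obj P ⟶ L.obj K) (H : L.obj Q ⟶ L.obj P)
    (h₁ : L.map a ≫ s = 𝟙 _) (h₂ : s ≫ L.map a + L.map b ≫ H = 𝟙 _) :
    ∃ (S : L'.obj (T.obj P) ⟶ L'.obj (T.obj K)) (G : L'.obj (T.obj Q) ⟶ L'.obj (T.obj P)),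
      L'.map (T.map a) ≫ S = 𝟙 _ ∧ S ≫ L'.map (T.map a) + L'.map (T.map b) ≫ G = 𝟙 _ := by
  refine ⟨(e P).hom ≫ T'.map s ≫ (e K).inv, (e Q).hom ≫ T'.map H ≫ (e P).inv, ?_, ?_⟩
  · rw [reassoc_of% he a, ← T'.map_comp_assoc, h₁, T'.map_id, Category.id_comp, Iso.hom_inv_id]
  · have ha : L'.map (T.map a) = (e K).hom ≫ T'.map (L.map a) ≫ (e P).inv := by
      rw [← Category.assoc, Iso.eq_comp_inv, he]
    rw [reassoc_of% he b, ha]
    simp only [Category.assoc, Iso.inv_hom_id_assoc]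
    rw [← T'.map_comp_assoc, ← T'.map_comp_assoc, ← Preadditive.comp_add, ← Preadditive.add_comp, ← T'.map_add, h₂,
      T'.map_id, Category.id_comp, Iso.hom_inv_id]

end Split

section Glue

variable {X Y Z S : Scheme.{u}}

theorem preservesMono_pullback_open {T : Scheme.{u}} (j : T ⟶ Z) [IsOpenImmersion j] :
    (Scheme.Modules.pullback j).PreservesMonomorphisms := by
  haveI : (Scheme.Modules.restrictFunctor j).IsRightAdjoint := (CxOX.extZeroAdj j).isRightAdjoint
  haveI : (Scheme.Modules.restrictFunctor j).PreservesMonomorphisms :=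
    Functor.preservesMonomorphisms_of_isRightAdjoint _
  exact Functor.preservesMonomorphisms.of_iso (Scheme.Modules.restrictFunctorIsoPullback j)

theorem additive_tensor_obj (A : Z.Modules) : ((DCoh.tensorBi (X := Z)).obj A).Additive := by
  haveI : PreservesFiniteColimits (DCoh.tensorRightMod A) :=
    haveI : PreservesColimitsOfSize.{u, u} (DCoh.tensorRightMod A) :=
      inferInstanceAs (PreservesColimitsOfSize.{u, u} ((DCoh.tensorBi).flip.obj A))
    preservesFiniteColimits_of_preservesFiniteColimitsOfSize.{u} _ fun _ _ _ => inferInstance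
  haveI : PreservesBinaryBiproducts (DCoh.tensorRightMod A) := preservesBinaryBiproducts_of_preservesBinaryCoproducts _
  haveI : (DCoh.tensorRightMod A).Additive := Functor.additive_of_preservesBinaryBiproducts _
  exact Functor.additive_of_iso (flipIso A)

theorem isQuasicoherent_biproduct {ι : Type} [Finite ι] (E : ι → Z.Modules) (hE : ∀ i, (E i).IsQuasicoherent) :
    (⨁ E).IsQuasicoherent :=
  @QCoh.isQuasicoherent_of_iso _ _ _ ((biproduct.isoCoproduct E) ≪≫
      (Sigma.whiskerEquiv (f := fun i : ULift.{u} ι => E i.down) (g := E) Equiv.ulift fun _ => Iso.refl _).symm).symm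
    (QCoh.isQuasicoherent_colimit (Discrete.functor fun i : ULift.{u} ι => E i.down) fun i => hE i.as.down)

theorem ΦMap_add (p : Z ⟶ X) (q : Z ⟶ Y) {E E' : Z.Modules} (φ ψ : E ⟶ E') :
    ΦMap p q (φ + ψ) = ΦMap p q φ + ΦMap p q ψ := by
  ext M : 2
  haveI := additive_tensor_obj ((Scheme.Modules.pullback p).obj M.obj)
  haveI : (Coh.push q).Additive := (Scheme.Modules.pullbackPushforwardAdjunction q).right_adjoint_additive
  exact (congrArg (Coh.push q).map ((DCoh.tensorBi.obj ((Scheme.Modules.pullback p).obj M.obj)).map_add)).trans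
    (Coh.push q).map_add

/-- Functoriality in the kernel as an additive map. -/
def ΦMapHom (p : Z ⟶ X) (q : Z ⟶ Y) (E E' : Z.Modules) : (E ⟶ E') →+ (Φ p q E ⟶ Φ p q E') :=
  AddMonoidHom.mk' (ΦMap p q) (ΦMap_add p q)

variable [IsAffine S] {x : X ⟶ S} {y : Y ⟶ S} {p : Z ⟶ X} {q : Z ⟶ Y}

theorem isAffineOpen_inter {U V : X.Opens} (hU : IsAffineOpen U) [IsAffineHom V.ι] : IsAffineOpen (U ⊓ V) := by
  have h1 : IsAffineOpen (V.ι ''ᵁ (V.ι ⁻¹ᵁ U)) := (hU.preimage V.ι).image_of_isOpenImmersion V.ι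
  rwa [Scheme.Hom.image_preimage_eq_opensRange_inf, Scheme.Opens.opensRange_ι, inf_comm] at h1

variable (𝔽 : QCohCat.QCoh X ⥤ Y.Modules) [IsAffineHom (pullback.diagonal x)]
  [PreservesFiniteColimits 𝔽] [∀ J : Type u, PreservesColimitsOfShape (Discrete J) 𝔽] [𝔽.Additive]

/-- A kernel glued from local ones. -/
theorem exists_glued_kernel [CompactSpace X] (h : IsPullback p q x y) (hqc : ∀ M, (𝔽.obj M).IsQuasicoherent)
    (hR : ∀ (M : QCohCat.QCoh X) (r : Γ(S, ⊤)), 𝔽.map (smulQ M (x.appTop r)) = Formal.smulModΓ (𝔽.obj M) (y.appTop r)) :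
    ∃ (K : Z.Modules) (_ : K.IsQuasicoherent) (t : 𝔽 ⟶ Φ p q K) (ι : Type) (U : ι → X.affineOpens),
      (∀ z, ∃ i, z ∈ (U i).1) ∧ ∀ (i : ι) (M : QCohCat.QCoh X), Supp (U i).1 M.obj → IsIso (t.app M) := by
  haveI hA : ∀ U : X.affineOpens, IsAffine (U.1 : Scheme.{u}) := fun U => U.2
  haveI hH : ∀ U : X.affineOpens, IsAffineHom U.1.ι := fun U => isAffineHom_of_affine_source x U.1.ι
  let inf2 : X.affineOpens → X.affineOpens → X.affineOpens := fun U V =>
    ⟨U.1 ⊓ V.1, isAffineOpen_inter U.2⟩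
  let D := fun U : X.affineOpens => Classical.choice (nonempty_datum (𝔽 := 𝔽) h hqc hR U.1)
  have hex : ∀ U U' : X.affineOpens, U'.1 ≤ U.1 → ∃ r : (D U).E ⟶ (D U').E, (D U).τ ≫ ΦMap p q r = (D U').τ :=
    fun U U' hle => ((D U).existsUnique h (D U').E ((D U').supp.mono ((Opens.map p.base).map (homOfLE hle)).le) (D U').τ).exists
  choose tr htr using hex
  have huniq : ∀ (U U' : X.affineOpens), U'.1 ≤ U.1 → ∀ r r' : (D U).E ⟶ (D U').E,
      (D U).τ ≫ ΦMap p q r = (D U').τ → (D U).τ ≫ ΦMap p q r' = (D U').τ → r = r' := fun U U' hle r r' h1 h2 =>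
    ((D U).existsUnique h (D U').E ((D U').supp.mono ((Opens.map p.base).map (homOfLE hle)).le) (D U').τ).unique h1 h2
  have htr_comp : ∀ (U U' U'' : X.affineOpens) (a : U'.1 ≤ U.1) (b : U''.1 ≤ U'.1),
      tr U U' a ≫ tr U' U'' b = tr U U'' (b.trans a) := fun U U' U'' a b => by
    refine huniq U U'' (b.trans a) _ _ ?_ (htr U U'' _)
    rw [ΦMap_comp, ← Category.assoc, htr, htr]
  obtain ⟨t₀, ht₀⟩ := isCompact_univ.elim_finite_subcover (fun U : X.affineOpens => (U.1 : Set X))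
    (fun U => U.1.2) (fun z _ => by
      obtain ⟨U, hU, hz, -⟩ := exists_isAffineOpen_mem_and_subset (x := z) (U := ⊤) trivial
      exact Set.mem_iUnion.2 ⟨⟨U, hU⟩, hz⟩)
  let ι : Type := Fin t₀.card
  let U : ι → X.affineOpens := fun i => (t₀.equivFin.symm i).1
  have hcov : ∀ z, ∃ i, z ∈ (U i).1 := fun z => by
    obtain ⟨V, hV, hz⟩ := Set.mem_iUnion₂.1 (ht₀ (Set.mem_univ z))
    exact ⟨t₀.equivFin ⟨V, hV⟩, by simpa [U] using hz⟩
  let E : ι → Z.Modules := fun i => (D (U i)).E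
  let E₂ : ι × ι → Z.Modules := fun ij => (D (inf2 (U ij.1) (U ij.2))).E
  let r₁ : ∀ ij : ι × ι, E ij.1 ⟶ E₂ ij := fun ij => tr (U ij.1) (inf2 (U ij.1) (U ij.2)) inf_le_left
  let r₂ : ∀ ij : ι × ι, E ij.2 ⟶ E₂ ij := fun ij => tr (U ij.2) (inf2 (U ij.1) (U ij.2)) inf_le_right
  let δ : (⨁ E) ⟶ ⨁ E₂ := biproduct.lift fun ij => biproduct.π E ij.1 ≫ r₁ ij - biproduct.π E ij.2 ≫ r₂ ij
  haveI : (⨁ E).IsQuasicoherent := isQuasicoherent_biproduct E fun i => (D (U i)).qcoh
  haveI : (⨁ E₂).IsQuasicoherent := isQuasicoherent_biproduct E₂ fun ij => (D (inf2 (U ij.1) (U ij.2))).qcoh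
  let K := kernel δ
  haveI hK : K.IsQuasicoherent := QCoh.isQuasicoherent_kernel δ
  -- the splitting over each open
  have hsplit : ∀ k, ∃ (Qk : (Scheme.Modules.pullback (p ⁻¹ᵁ (U k).1).ι).obj (E k) ⟶ (Scheme.Modules.pullback (p ⁻¹ᵁ (U k).1).ι).obj K)
      (H : (Scheme.Modules.pullback (p ⁻¹ᵁ (U k).1).ι).obj (⨁ E₂) ⟶ (Scheme.Modules.pullback (p ⁻¹ᵁ (U k).1).ι).obj (⨁ E)),
      (Scheme.Modules.pullback (p ⁻¹ᵁ (U k).1).ι).map (kernel.ι δ ≫ biproduct.π E k) ≫ Qk = 𝟙 _ ∧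
      Qk ≫ (Scheme.Modules.pullback (p ⁻¹ᵁ (U k).1).ι).map (kernel.ι δ ≫ biproduct.π E k) = 𝟙 _ ∧
      ((Scheme.Modules.pullback (p ⁻¹ᵁ (U k).1).ι).map (biproduct.π E k) ≫ Qk) ≫ (Scheme.Modules.pullback (p ⁻¹ᵁ (U k).1).ι).map (kernel.ι δ) +
        (Scheme.Modules.pullback (p ⁻¹ᵁ (U k).1).ι).map δ ≫ H = 𝟙 _ := by
    intro k
    let L := Scheme.Modules.pullback (p ⁻¹ᵁ (U k).1).ι
    haveI : L.Additive := (Scheme.Modules.pullbackPushforwardAdjunction (p ⁻¹ᵁ (U k).1).ι).left_adjoint_additive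
    haveI := preservesMono_pullback_open (p ⁻¹ᵁ (U k).1).ι
    have hiso : ∀ i, IsIso (L.map (r₂ (k, i))) := fun i =>
      (D (U i)).isIso_restrict_inter h (U' := (inf2 (U k) (U i)).1) (W := (U k).1) (inf_comm _ _) (D (inf2 (U k) (U i))) (r₂ (k, i)) (htr _ _ _)
    let t : ∀ i, L.obj (E k) ⟶ L.obj (E i) := fun i => L.map (r₁ (k, i)) ≫ inv (L.map (r₂ (k, i)))
    have htri : ∀ (i : ι) (W : X.affineOpens) (a : W.1 ≤ (U k).1) (b : W.1 ≤ (U i).1),
        t i ≫ L.map (tr (U i) W b) = L.map (tr (U k) W a) := fun i W a b => by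
      rw [← htr_comp (U i) (inf2 (U k) (U i)) W inf_le_right (le_inf a b),
        ← htr_comp (U k) (inf2 (U k) (U i)) W inf_le_left (le_inf a b), L.map_comp, L.map_comp]
      show (L.map (r₁ (k, i)) ≫ inv (L.map (r₂ (k, i)))) ≫ L.map (r₂ (k, i)) ≫ _ = L.map (r₁ (k, i)) ≫ _
      rw [Category.assoc, IsIso.inv_hom_id_assoc]
    have hagree : ∀ ij : ι × ι, t ij.1 ≫ L.map (r₁ ij) = t ij.2 ≫ L.map (r₂ ij) := fun ij => by
      let W₂ := inf2 (U ij.1) (U ij.2)
      let W₃ := inf2 W₂ (U k)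
      have h3 : IsIso (L.map (tr W₂ W₃ inf_le_left)) :=
        (D W₂).isIso_restrict_inter h (U' := W₃.1) (W := (U k).1) rfl (D W₃) _ (htr _ _ _)
      refine (cancel_mono (L.map (tr W₂ W₃ inf_le_left))).1 ?_
      have e1 : (t ij.1 ≫ L.map (r₁ ij)) ≫ L.map (tr W₂ W₃ inf_le_left) = L.map (tr (U k) W₃ inf_le_right) :=
        ((Category.assoc _ _ _).trans (congrArg (t ij.1 ≫ ·) ((L.map_comp _ _).symm.trans
          (congrArg L.map (htr_comp _ _ _ _ _))))).trans (htri ij.1 W₃ inf_le_right _)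
      have e2 : (t ij.2 ≫ L.map (r₂ ij)) ≫ L.map (tr W₂ W₃ inf_le_left) = L.map (tr (U k) W₃ inf_le_right) :=
        ((Category.assoc _ _ _).trans (congrArg (t ij.2 ≫ ·) ((L.map_comp _ _).symm.trans
          (congrArg L.map (htr_comp _ _ _ _ _))))).trans (htri ij.2 W₃ inf_le_right _)
      exact e1.trans e2.symm
    let Q : L.obj (E k) ⟶ L.obj (⨁ E) := ∑ i, t i ≫ L.map (biproduct.ι E i)
    have hQπ : ∀ i, Q ≫ L.map (biproduct.π E i) = t i := fun i => by
      simp only [Q, Preadditive.sum_comp, Category.assoc, ← L.map_comp]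
      rw [Finset.sum_eq_single i]
      · rw [biproduct.ι_π_self, L.map_id, Category.comp_id]
      · intro j _ hj
        rw [biproduct.ι_π_ne E hj, L.map_zero, comp_zero]
      · intro hi
        exact absurd (Finset.mem_univ i) hi
    have hid : ∀ (ι' : Type) [Fintype ι'] (F : ι' → Z.Modules),
        ∑ i, L.map (biproduct.π F i) ≫ L.map (biproduct.ι F i) = 𝟙 _ := fun ι' _ F => by
      refine Eq.trans ?_ ((congrArg L.map (biproduct.total (f := F))).trans (L.map_id _))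
      rw [L.map_sum]
      simp only [L.map_comp]
    have hext : ∀ {ι' : Type} [Fintype ι'] {F : ι' → Z.Modules} {A : ((p ⁻¹ᵁ (U k).1 : Z.Opens) : Scheme.{u}).Modules}
        (f g : A ⟶ L.obj (⨁ F)), (∀ i, f ≫ L.map (biproduct.π F i) = g ≫ L.map (biproduct.π F i)) → f = g := by
      intro ι' _ F A f g hfg
      rw [← Category.comp_id f, ← Category.comp_id g, ← hid ι' F, Preadditive.comp_sum, Preadditive.comp_sum]
      exact Finset.sum_congr rfl fun i _ => by rw [← Category.assoc, ← Category.assoc, hfg]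
    have hQδ : Q ≫ L.map δ = 0 := by
      refine hext _ _ fun ij => ?_
      rw [Category.assoc, ← L.map_comp, biproduct.lift_π, L.map_sub, Preadditive.comp_sub, L.map_comp, L.map_comp,
        ← Category.assoc, ← Category.assoc, hQπ, hQπ, hagree ij, sub_self, zero_comp]
    let H : L.obj (⨁ E₂) ⟶ L.obj (⨁ E) :=
      ∑ i, (-(L.map (biproduct.π E₂ (k, i)) ≫ inv (L.map (r₂ (k, i))))) ≫ L.map (biproduct.ι E i)
    have hH : L.map δ ≫ H = 𝟙 _ - L.map (biproduct.π E k) ≫ Q := by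
      rw [← hid ι E]
      simp only [H, Q, Preadditive.comp_sum, ← Finset.sum_sub_distrib]
      refine Finset.sum_congr rfl fun i _ => ?_
      rw [Preadditive.neg_comp, Preadditive.comp_neg, Category.assoc, ← Category.assoc (L.map δ), ← L.map_comp,
        biproduct.lift_π, L.map_sub, L.map_comp, L.map_comp]
      simp only [Preadditive.sub_comp, Category.assoc, IsIso.hom_inv_id_assoc, t]
      abel
    have hιQ : L.map (kernel.ι δ) ≫ L.map (biproduct.π E k) ≫ Q = L.map (kernel.ι δ) := by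
      have h1 : L.map (biproduct.π E k) ≫ Q = 𝟙 _ - L.map δ ≫ H := by rw [hH]; abel
      rw [h1, Preadditive.comp_sub, Category.comp_id, ← Category.assoc, ← L.map_comp, kernel.condition, L.map_zero,
        zero_comp, sub_zero]
    -- factor `Q` through the kernel
    haveI : Mono (L.map (kernel.ι δ)) := L.map_mono _
    haveI : PreservesLimitsOfSize.{0, 0} L :=
      haveI : (Scheme.Modules.restrictFunctor (p ⁻¹ᵁ (U k).1).ι).IsRightAdjoint :=
        (CxOX.extZeroAdj (p ⁻¹ᵁ (U k).1).ι).isRightAdjoint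
      haveI : PreservesLimitsOfSize.{0, 0} (Scheme.Modules.restrictFunctor (p ⁻¹ᵁ (U k).1).ι) :=
        Adjunction.rightAdjoint_preservesLimits (CxOX.extZeroAdj (p ⁻¹ᵁ (U k).1).ι)
      preservesLimits_of_natIso (Scheme.Modules.restrictFunctorIsoPullback (p ⁻¹ᵁ (U k).1).ι)
    obtain ⟨Qk, hQk⟩ := KernelFork.IsLimit.lift' (isLimitForkMapOfIsLimit' L (kernel.condition δ) (kernelIsKernel δ)) Q hQδ
    have hQk' : Qk ≫ L.map (kernel.ι δ) = Q := hQk
    have ht : t k = 𝟙 _ := by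
      have := hiso k
      show L.map (r₁ (k, k)) ≫ inv (L.map (r₂ (k, k))) = 𝟙 _
      exact IsIso.hom_inv_id _
    refine ⟨Qk, H, ?_, ?_, ?_⟩
    · rw [← cancel_mono (L.map (kernel.ι δ)), Category.assoc, hQk', L.map_comp, Category.assoc, hιQ, Category.id_comp]
    · rw [L.map_comp, reassoc_of% hQk', hQπ, ht]
    · rw [Category.assoc, hQk', hH]
      abel
  -- kernels stay kernels
  let T : ∀ M : QCohCat.QCoh X, Z.Modules ⥤ Z.Modules := fun M =>
    (DCoh.tensorBi (X := Z)).obj ((Scheme.Modules.pullback p).obj M.obj)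
  haveI : ∀ M, (T M).Additive := fun M => additive_tensor_obj _
  have hw : ∀ M, (T M).map (kernel.ι δ) ≫ (T M).map δ = 0 := fun M => by
    rw [← Functor.map_comp, kernel.condition, Functor.map_zero]
  have hκ : ∀ M, IsIso (kernel.lift ((T M).map δ) ((T M).map (kernel.ι δ)) (hw M)) := fun M => by
    refine OX.isIso_of_restrict_cover _ (fun k => p ⁻¹ᵁ (U k).1) (fun z => hcov (p z)) fun k => ?_
    let L := Scheme.Modules.pullback (p ⁻¹ᵁ (U k).1).ι
    haveI : L.Additive := (Scheme.Modules.pullbackPushforwardAdjunction (p ⁻¹ᵁ (U k).1).ι).left_adjoint_additive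
    haveI := preservesMono_pullback_open (p ⁻¹ᵁ (U k).1).ι
    obtain ⟨Qk, H, h1, h2, h3⟩ := hsplit k
    let T' := (DCoh.tensorBi (X := ((p ⁻¹ᵁ (U k).1 : Z.Opens) : Scheme.{u}))).obj (L.obj ((Scheme.Modules.pullback p).obj M.obj))
    haveI : T'.Additive := additive_tensor_obj _
    have h1' : L.map (kernel.ι δ) ≫ L.map (biproduct.π E k) ≫ Qk = 𝟙 _ := by rw [← Category.assoc, ← L.map_comp, h1]
    obtain ⟨S, G, hS₁, hS₂⟩ := exists_split_map (T M) L T' L
      (fun N => OX.pullTensorIso (p ⁻¹ᵁ (U k).1).ι _ N)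
      (fun f => OX.pullTensorIso_natural₂ (p ⁻¹ᵁ (U k).1).ι _ f) (kernel.ι δ) δ
      (L.map (biproduct.π E k) ≫ Qk) H h1' h3
    exact (NatIso.isIso_map_iff (Scheme.Modules.restrictFunctorIsoPullback (p ⁻¹ᵁ (U k).1).ι) _).2
      (isIso_map_kernel_lift L _ _ (hw M) S G hS₁ hS₂)
  -- the transformation into the biproduct
  let τ₀ : 𝔽 ⟶ Φ p q (⨁ E) := ∑ i, (D (U i)).τ ≫ ΦMap p q (biproduct.ι E i)
  have hτπ : ∀ i, τ₀ ≫ ΦMap p q (biproduct.π E i) = (D (U i)).τ := fun i => by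
    simp only [τ₀, Preadditive.sum_comp, Category.assoc, ← ΦMap_comp]
    rw [Finset.sum_eq_single i]
    · rw [biproduct.ι_π_self, ΦMap_id, Category.comp_id]
    · intro j _ hj
      rw [biproduct.ι_π_ne E hj]
      exact (congrArg ((D (U j)).τ ≫ ·) (map_zero (ΦMapHom p q (E j) (E i)))).trans comp_zero
    · intro hi
      exact absurd (Finset.mem_univ i) hi
  have hτδ : τ₀ ≫ ΦMap p q δ = 0 := by
    have hsum : ΦMap p q δ = ∑ ij, ΦMap p q (biproduct.π E ij.1 ≫ r₁ ij - biproduct.π E ij.2 ≫ r₂ ij) ≫ ΦMap p q (biproduct.ι E₂ ij) := by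
      have hδ : δ = ∑ ij, (biproduct.π E ij.1 ≫ r₁ ij - biproduct.π E ij.2 ≫ r₂ ij) ≫ biproduct.ι E₂ ij := by
        show biproduct.lift _ = _
        exact biproduct.lift_eq
      conv_lhs => rw [hδ]
      simp only [← ΦMap_comp]
      exact map_sum (ΦMapHom p q (⨁ E) (⨁ E₂)) _ _
    rw [hsum, Preadditive.comp_sum]
    refine Finset.sum_eq_zero fun ij _ => ?_
    have hsub : ΦMap p q (biproduct.π E ij.1 ≫ r₁ ij - biproduct.π E ij.2 ≫ r₂ ij) =
        ΦMap p q (biproduct.π E ij.1 ≫ r₁ ij) - ΦMap p q (biproduct.π E ij.2 ≫ r₂ ij) :=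
      map_sub (ΦMapHom p q (⨁ E) (E₂ ij)) _ _
    rw [← Category.assoc, hsub, Preadditive.comp_sub, ΦMap_comp, ΦMap_comp, ← Category.assoc, ← Category.assoc, hτπ, hτπ]
    have e := (htr (U ij.1) (inf2 (U ij.1) (U ij.2)) inf_le_left).trans (htr (U ij.2) (inf2 (U ij.1) (U ij.2)) inf_le_right).symm
    rw [sub_eq_zero.2 e, zero_comp]
  haveI hadd : (Coh.push q).Additive := (Scheme.Modules.pullbackPushforwardAdjunction q).right_adjoint_additive
  haveI : PreservesLimitsOfSize.{0, 0} (Coh.push q) :=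
    (Scheme.Modules.pullbackPushforwardAdjunction q).rightAdjoint_preservesLimits
  have hlift : ∀ M, ∃ a : 𝔽.obj M ⟶ (Φ p q K).obj M, a ≫ (ΦMap p q (kernel.ι δ)).app M = τ₀.app M := fun M => by
    haveI := hκ M
    obtain ⟨l, hl⟩ := KernelFork.IsLimit.lift'
      (isLimitForkMapOfIsLimit' (Coh.push q) (kernel.condition ((T M).map δ)) (kernelIsKernel ((T M).map δ)))
      (τ₀.app M) (NatTrans.congr_app hτδ M)
    refine ⟨l ≫ (Coh.push q).map (@inv _ _ _ _ (kernel.lift ((T M).map δ) ((T M).map (kernel.ι δ)) (hw M)) (hκ M)), ?_⟩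
    refine (Category.assoc _ _ _).trans ?_
    refine Eq.trans ?_ hl
    refine congrArg (l ≫ ·) ?_
    refine ((Coh.push q).map_comp _ _).symm.trans (congrArg (Coh.push q).map ?_)
    rw [IsIso.inv_comp_eq]
    exact (kernel.lift_ι ((T M).map δ) ((T M).map (kernel.ι δ)) (hw M)).symm
  choose a ha using hlift
  have hmono : ∀ M, Mono ((ΦMap p q (kernel.ι δ)).app M) := fun M => by
    haveI := hκ M
    have e : (T M).map (kernel.ι δ) = kernel.lift ((T M).map δ) ((T M).map (kernel.ι δ)) (hw M) ≫ kernel.ι _ :=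
      (kernel.lift_ι _ _ _).symm
    haveI : Mono ((T M).map (kernel.ι δ)) := by rw [e]; infer_instance
    exact (Coh.push q).map_mono ((T M).map (kernel.ι δ))
  let tt : 𝔽 ⟶ Φ p q K :=
    { app := a
      naturality := fun M N f => by
        haveI := hmono N
        rw [← cancel_mono ((ΦMap p q (kernel.ι δ)).app N), Category.assoc, Category.assoc, ha,
          (ΦMap p q (kernel.ι δ)).naturality f, reassoc_of% ha]
        exact τ₀.naturality f }
  refine ⟨K, hK, tt, ι, U, hcov, fun k M hM => ?_⟩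
  have hfac : tt ≫ ΦMap p q (kernel.ι δ ≫ biproduct.π E k) = (D (U k)).τ := by
    rw [ΦMap_comp, ← Category.assoc, show tt ≫ ΦMap p q (kernel.ι δ) = τ₀ from NatTrans.ext (funext ha), hτπ]
  have hτ := (D (U k)).isIso_app M hM
  have hmap : IsIso ((ΦMap p q (kernel.ι δ ≫ biproduct.π E k)).app M) := by
    haveI := isAffineHom_preimage_ι p (U k).1
    let A := (Scheme.Modules.pullback p).obj M.obj
    haveI : A.IsQuasicoherent := VA.isQCoh_pullback p M.property
    haveI : M.obj.IsQuasicoherent := M.property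
    haveI : (E k).IsQuasicoherent := (D (U k)).qcoh
    have hA : Supp (p ⁻¹ᵁ (U k).1) A := supp_pullback p (U k).1 hM
    obtain ⟨Qk, H, h1, h2, -⟩ := hsplit k
    haveI : IsIso ((Scheme.Modules.pullback (p ⁻¹ᵁ (U k).1).ι).map (kernel.ι δ ≫ biproduct.π E k)) := ⟨Qk, h1, h2⟩
    have hgi : IsIso (((DCoh.tensorBi (X := Z)).obj A).map (kernel.ι δ ≫ biproduct.π E k)) :=
      (supp_tensor_left (p ⁻¹ᵁ (U k).1) hA).isIso (supp_tensor_left (E := E k) (p ⁻¹ᵁ (U k).1) hA) _
        (IsIso.of_isIso_fac_right (OX.pullTensorIso_natural₂ (p ⁻¹ᵁ (U k).1).ι A (kernel.ι δ ≫ biproduct.π E k)))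
    exact @Functor.map_isIso _ _ _ _ _ _ (Coh.push q) _ hgi
  have e := NatTrans.congr_app hfac M
  exact @IsIso.of_isIso_fac_right _ _ _ _ _ _ _ _ hmap hτ e

end Glue

end GrothLib.FunMor20
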