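import Groth.Agent.Lib.FunMor20.Functors
import Groth.Agent.Lib.DirImg8.Colim
import Mathlib.AlgebraicGeometry.Limits
import Mathlib.AlgebraicGeometry.Morphisms.Flat

/-!
# Affine covers as affine morphisms
-/

set_option autoImplicit false
set_option linter.style.haveILetI false
set_option linter.style.longLine false
set_option maxHeartbeats 1000000
set_option backward.isDefEq.respectTransparency.types false

universe u v' u'

open CategoryTheory CategoryTheory.Limits AlgebraicGeometry Opposite TopologicalSpace

noncomputable section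

namespace GrothLib.FunMor20

variable {X S : Scheme.{u}}

theorem isAffineHom_of_affine_source [IsAffine S] (x : X ⟶ S) [IsAffineHom (pullback.diagonal x)]
    {X' : Scheme.{u}} [IsAffine X'] (f : X' ⟶ X) : IsAffineHom f :=
  haveI : MorphismProperty.HasOfPostcompProperty @IsAffineHom (MorphismProperty.diagonal @IsAffineHom) :=
    MorphismProperty.hasOfPostcompProperty_iff_le_diagonal.mpr le_rfl
  MorphismProperty.of_postcomp (W := @IsAffineHom) (W' := MorphismProperty.diagonal @IsAffineHom)
    f x ‹_› (isAffineHom_of_isAffine (f ≫ x))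

theorem mono_restrict_of_isSplitMono {Z U : Scheme.{u}} (j : U ⟶ Z) [IsOpenImmersion j] {M M' : Z.Modules}
    (a : M ⟶ M') (h : Mono ((Scheme.Modules.pullback j).map a)) :
    Mono ((Scheme.Modules.restrictFunctor j).map a) :=
  ((MorphismProperty.monomorphisms _).arrow_mk_iso_iff
    (Arrow.isoMk ((Scheme.Modules.restrictFunctorIsoPullback j).app M)
      ((Scheme.Modules.restrictFunctorIsoPullback j).app M')
      ((Scheme.Modules.restrictFunctorIsoPullback j).hom.naturality a).symm)).2 h

/-- An affine cover: an affine scheme mapping to `X` along which units of pullback are monomorphisms. -/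
theorem exists_affine_cover [IsAffine S] [CompactSpace X] (x : X ⟶ S) [IsAffineHom (pullback.diagonal x)] :
    ∃ (X' : Scheme.{u}) (_ : IsAffine X') (f : X' ⟶ X), IsAffineHom f ∧
      ∀ M : X.Modules, Mono ((Scheme.Modules.pullbackPushforwardAdjunction f).unit.app M) := by
  let 𝒰 := X.affineCover.finiteSubcover
  haveI : ∀ i, IsAffine (𝒰.X i) := fun i => inferInstanceAs (IsAffine (X.affineCover.X _))
  let f : (∐ 𝒰.X) ⟶ X := Sigma.desc 𝒰.f
  refine ⟨∐ 𝒰.X, inferInstance, f, isAffineHom_of_affine_source x f, fun M => ?_⟩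
  let adj := Scheme.Modules.pullbackPushforwardAdjunction f
  let η := adj.unit.app M
  haveI : Mono ((Scheme.Modules.pullback f).map η) :=
    (IsSplitMono.mk' ⟨adj.counit.app ((Scheme.Modules.pullback f).obj M), adj.left_triangle_components M⟩).mono
  refine Preadditive.mono_of_kernel_zero (IsZero.eq_of_src ?_ _ _)
  let J := fun i => (𝒰.f i).opensRange
  haveI : IsIso (0 : kernel η ⟶ kernel η) := by
    refine OX.isIso_of_restrict_cover _ J (fun y => ⟨𝒰.idx y, 𝒰.covers y⟩) fun i => ?_
    let j := (J i).ι
    let s : (J i : Scheme.{u}) ⟶ ∐ 𝒰.X := (𝒰.f i).isoOpensRange.inv ≫ Sigma.ι 𝒰.X i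
    have hs : s ≫ f = j := by
      show (_ ≫ _) ≫ Sigma.desc 𝒰.f = _
      rw [Category.assoc, Sigma.ι_desc, Scheme.Hom.isoOpensRange_inv_comp]
    haveI : IsOpenImmersion s := inferInstance
    have h1 : Mono ((Scheme.Modules.pullback s).map ((Scheme.Modules.pullback f).map η)) := by
      haveI := (IsSplitMono.mk' ⟨adj.counit.app ((Scheme.Modules.pullback f).obj M), adj.left_triangle_components M⟩ :
        IsSplitMono ((Scheme.Modules.pullback f).map η))
      infer_instance
    have h2 : Mono ((Scheme.Modules.pullback j).map η) :=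
      ((MorphismProperty.monomorphisms _).arrow_mk_iso_iff
        (Arrow.isoMk ((Scheme.Modules.pullbackComp s f ≪≫ Scheme.Modules.pullbackCongr hs).app M)
          ((Scheme.Modules.pullbackComp s f ≪≫ Scheme.Modules.pullbackCongr hs).app _)
          ((Scheme.Modules.pullbackComp s f ≪≫ Scheme.Modules.pullbackCongr hs).hom.naturality η).symm)).1 h1
    haveI h3 := mono_restrict_of_isSplitMono j η h2
    let R := Scheme.Modules.restrictFunctor j
    haveI : R.PreservesMonomorphisms := by
      haveI : R.IsRightAdjoint := (CxOX.extZeroAdj j).isRightAdjoint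
      exact Functor.preservesMonomorphisms_of_isRightAdjoint R
    haveI : R.Additive := (Scheme.Modules.restrictAdjunction j).left_adjoint_additive
    have h0 : R.map (kernel.ι η) = 0 := by
      rw [← cancel_mono (R.map η), ← R.map_comp, kernel.condition, R.map_zero, zero_comp]
    have hz : IsZero (R.obj (kernel η)) := by
      haveI : Mono (R.map (kernel.ι η)) := R.map_mono _
      rw [IsZero.iff_id_eq_zero, ← cancel_mono (R.map (kernel.ι η)), h0, comp_zero, comp_zero]
    exact ⟨0, hz.eq_of_src _ _, hz.eq_of_src _ _⟩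
  exact IsZero.of_iso_zero_endomorphism (kernel η) 
where
  IsZero.of_iso_zero_endomorphism {X : Scheme.{u}} (K : X.Modules) [IsIso (0 : K ⟶ K)] : IsZero K := by
    rw [IsZero.iff_id_eq_zero, ← IsIso.hom_inv_id (0 : K ⟶ K), zero_comp]

/-- Direct image along an affine morphism, on quasi-coherent modules. -/
def qcohPush {U : Scheme.{u}} (j : U ⟶ X) [IsAffineHom j] : QCohCat.QCoh U ⥤ QCohCat.QCoh X :=
  ObjectProperty.lift _ (ObjectProperty.ι (QCohCat.isQCoh U) ⋙ Scheme.Modules.pushforward j) fun M => by
    haveI : M.obj.IsQuasicoherent := M.property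
    exact QCoh.isQuasicoherent_pushforward j M.obj

theorem preservesColimitsOfShape_qcohPush {U : Scheme.{u}} (j : U ⟶ X) [IsAffineHom j] (J : Type u) [SmallCategory J] :
    PreservesColimitsOfShape J (qcohPush j) := by
  refine ⟨fun {D} => ?_⟩
  haveI := QCohCat20.preservesColimit_ι D
  haveI : PreservesColimit (D ⋙ ObjectProperty.ι (QCohCat.isQCoh U)) (Scheme.Modules.pushforward j) :=
    DirImg8.preservesColimit_pushforward j _ fun k => (D.obj k).property
  haveI : PreservesColimit D (qcohPush j ⋙ ObjectProperty.ι (QCohCat.isQCoh X)) :=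
    inferInstanceAs (PreservesColimit D (ObjectProperty.ι (QCohCat.isQCoh U) ⋙ Scheme.Modules.pushforward j))
  exact preservesColimit_of_reflects_of_preserves (qcohPush j) (ObjectProperty.ι (QCohCat.isQCoh X))

theorem preservesFiniteColimits_qcohPush {U : Scheme.{u}} (j : U ⟶ X) [IsAffineHom j] :
    PreservesFiniteColimits (qcohPush j) :=
  preservesFiniteColimits_of_preservesFiniteColimitsOfSize.{u} _ fun J _ _ => preservesColimitsOfShape_qcohPush j J

end GrothLib.FunMor20
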