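import Groth.Agent.Lib.FunMor20.ProjAffine
import Groth.Agent.Lib.AffBC.Basic
import Groth.Agent.Lib.OX.PullbackTensor
import Groth.Prelude.Def_QCohCat

/-!
# Natural base change for integral transforms
-/

set_option autoImplicit false
set_option linter.style.haveILetI false
set_option backward.isDefEq.respectTransparency.types false

universe u

open CategoryTheory CategoryTheory.Limits AlgebraicGeometry MonoidalCategory Scheme.Modules

noncomputable section

namespace GrothLib.FunMor20

theorem bcMap_natural {X S X' S' : Scheme.{u}} {f : X ⟶ S} {g : S' ⟶ S} {g' : X' ⟶ X} {f' : X' ⟶ S'}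
    (h : IsPullback g' f' f g) {F F' : X.Modules} (a : F ⟶ F') :
    (Scheme.Modules.pullback g).map ((pushforward f).map a) ≫ AffBC.bcMap h F' =
      AffBC.bcMap h F ≫ (pushforward f').map ((Scheme.Modules.pullback g').map a) := by
  have hV : (pushforward f).map a ≫ AffBC.bcV h F' =
      AffBC.bcV h F ≫ (pushforward g).map ((pushforward f').map ((Scheme.Modules.pullback g').map a)) := by
    have e : ∀ {A B : X'.Modules} (φ : A ⟶ B),
        (pushforward f).map ((pushforward g').map φ) ≫ (pushforwardComp g' f).hom.app B ≫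
          (pushforwardCongr h.w).hom.app B ≫ (pushforwardComp f' g).inv.app B =
        ((pushforwardComp g' f).hom.app A ≫ (pushforwardCongr h.w).hom.app A ≫
          (pushforwardComp f' g).inv.app A) ≫ (pushforward g).map ((pushforward f').map φ) := fun {A B} φ =>
      ((pushforwardComp g' f).hom ≫ (pushforwardCongr h.w).hom ≫ (pushforwardComp f' g).inv).naturality φ
    simp only [AffBC.bcV, Category.assoc]
    rw [← Functor.map_comp_assoc]
    have hu := (pullbackPushforwardAdjunction g').unit.naturality a
    simp only [Functor.id_map, Functor.comp_map] at hu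
    rw [hu, Functor.map_comp_assoc, e]
    simp only [Category.assoc]
  unfold AffBC.bcMap
  rw [← Adjunction.homEquiv_naturality_left_symm, ← Adjunction.homEquiv_naturality_right_symm, hV]

/-- Tensoring on either side. -/
def flipIso {Z : Scheme.{u}} (K : Z.Modules) : DCoh.tensorRightMod K ≅ (DCoh.tensorBi (X := Z)).obj K :=
  NatIso.ofComponents (fun M => DCoh.shP.mapIso (β_ (DCoh.toP.obj M) (DCoh.toP.obj K))) fun {M N} a => by
    refine (DCoh.shP.map_comp _ _).symm.trans (Eq.trans ?_ (DCoh.shP.map_comp _ _))
    exact congrArg DCoh.shP.map (BraidedCategory.braiding_naturality_left _ _)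

/-- The integral transform of a direct image along an affine morphism, before pushing to the target. -/
def pushSquareIso {X X' Z Z' : Scheme.{u}} {f : X' ⟶ X} {p : Z ⟶ X} {p' : Z' ⟶ X'} {g : Z' ⟶ Z}
    (h : IsPullback p' g f p) [IsAffineHom f] (K : Z.Modules) [K.IsQuasicoherent] :
    ObjectProperty.ι (QCohCat.isQCoh X') ⋙ pushforward f ⋙ Scheme.Modules.pullback p ⋙ DCoh.tensorRightMod K ≅
      ObjectProperty.ι (QCohCat.isQCoh X') ⋙ Scheme.Modules.pullback p' ⋙ DCoh.tensorRightMod ((Scheme.Modules.pullback g).obj K) ⋙ pushforward g := by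
  haveI : IsAffineHom g := MorphismProperty.of_isPullback h ‹IsAffineHom f›
  haveI hbc : ∀ M : QCohCat.QCoh X', IsIso (AffBC.bcMap h M.obj) := fun M =>
    haveI : M.obj.IsQuasicoherent := M.property
    AffBC.isIso_bcMap h M.obj
  haveI hpr : ∀ M : QCohCat.QCoh X', IsIso (ProjFormula.projHom g K ((Scheme.Modules.pullback p').obj M.obj)) := fun M =>
    haveI : ((Scheme.Modules.pullback p').obj M.obj).IsQuasicoherent := VA.isQCoh_pullback p' M.property
    isIso_projHom_affine g ((Scheme.Modules.pullback p').obj M.obj) K
  refine NatIso.ofComponents (fun M => (flipIso K).app _ ≪≫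
      ((DCoh.tensorBi (X := Z)).obj K).mapIso (@asIso _ _ _ _ _ (hbc M)) ≪≫
      @asIso _ _ _ _ _ (hpr M) ≪≫ (pushforward g).mapIso ((flipIso ((Scheme.Modules.pullback g).obj K)).app _).symm) fun {M N} a => ?_
  have h1 := (flipIso K).hom.naturality ((Scheme.Modules.pullback p).map ((pushforward f).map a.hom))
  have h2 := congrArg ((DCoh.tensorBi (X := Z)).obj K).map (bcMap_natural h a.hom)
  have h3 := (ProjFormula.projNat g K).naturality ((Scheme.Modules.pullback p').map a.hom)
  have h4 := congrArg (pushforward g).map ((flipIso ((Scheme.Modules.pullback g).obj K)).inv.naturality ((Scheme.Modules.pullback p').map a.hom))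
  simp only [Functor.map_comp, Functor.comp_map, Iso.app_hom, Functor.mapIso_hom, asIso_hom, Iso.trans_hom,
    Iso.symm_hom, Iso.app_inv, ObjectProperty.ι_map, ProjFormula.projNat] at h1 h2 h3 h4 ⊢
  erw [reassoc_of% h1, reassoc_of% h2, reassoc_of% h3]
  simp only [Category.assoc]
  erw [h4]
  rfl

end GrothLib.FunMor20
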