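import Groth.Agent.Lib.FunMor20.ExactKernel
import Groth.Agent.Lib.FunMor20.Scalar
import Groth.Agent.Lib.QCoh.Extension
import Mathlib.AlgebraicGeometry.QuasiAffine
import Mathlib.RingTheory.Ideal.AssociatedPrime.Finiteness

/-!
# Acyclic modules with finite global sections on quasi-affine schemes
-/

set_option autoImplicit false
set_option linter.style.haveILetI false
set_option linter.style.longLine false
set_option maxHeartbeats 1000000
set_option backward.isDefEq.respectTransparency.types false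

universe u

open CategoryTheory CategoryTheory.Limits AlgebraicGeometry Opposite TopologicalSpace Abelian

noncomputable section

namespace GrothLib.FunMor20

open Formal (smulModΓ)

variable {S : Scheme.{u}} [S.IsQuasiAffine]

/-- A quasi-coherent module on a quasi-affine scheme with no global sections is zero. -/
theorem isZero_of_subsingleton_sections (M : S.Modules) [M.IsQuasicoherent] [Subsingleton Γ(M, ⊤)] : IsZero M := by
  refine OX.isZero_of_affine_cover ‹M.IsQuasicoherent›
    (fun r : {r : Γ(S, ⊤) // IsAffineOpen (S.basicOpen r)} => S.basicOpen r.1) (fun r => r.2) (fun x => ?_) fun r s => ?_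
  · obtain ⟨_, ⟨_, ⟨r, hr, rfl⟩, rfl⟩, hx, -⟩ :=
      (Scheme.IsQuasiAffine.isBasis_basicOpen S).exists_subset_of_mem_open (Set.mem_univ x) isOpen_univ
    exact ⟨⟨r, hr⟩, hx⟩
  · obtain ⟨n, t, ht⟩ := QCoh.smulLift_of_isCompact M (U := ⊤) isCompact_univ
      (isQuasiSeparated_univ) r.1 s
    rw [Subsingleton.elim t 0, map_zero] at ht
    have hu : IsUnit (S.presheaf.map (homOfLE (S.basicOpen_le r.1)).op r.1) :=
      RingedSpace.isUnit_res_basicOpen S.toRingedSpace r.1
    exact (hu.pow n).smul_eq_zero.1 ht.symm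

omit [S.IsQuasiAffine] in
theorem mem_toSpecΓ_asIdeal_iff (z : S) (a : Γ(S, ⊤)) :
    a ∈ (S.toSpecΓ z).asIdeal ↔ z ∉ S.basicOpen a := by
  rw [← Scheme.toSpecΓ_preimage_basicOpen]
  exact Iff.symm not_not

/-- An associated prime of the module of global sections lies on the scheme. -/
theorem mem_range_of_torsion (K : S.Modules) [K.IsQuasicoherent] {x : Γ(K, ⊤)} (hx : x ≠ 0) (p : PrimeSpectrum Γ(S, ⊤))
    (hp' : ∀ a ∈ p.asIdeal, a • x = 0) : p ∈ Set.range S.toSpecΓ := by
  obtain ⟨z, hz⟩ : ∃ z : S, K.presheaf.germ ⊤ z trivial x ≠ 0 := by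
    by_contra hne
    push Not at hne
    exact hx (WeakAss.eq_zero_of_germ x fun z _ _ => hne z)
  have hle : p.asIdeal ≤ (S.toSpecΓ z).asIdeal := fun a ha => by
    rw [mem_toSpecΓ_asIdeal_iff]
    intro haz
    refine hz (((Scheme.mem_basicOpen_top _ a z).1 haz).smul_eq_zero.1 ?_)
    refine (WeakAss.germ_smul (show z ∈ (⊤ : S.Opens) from trivial) a x).symm.trans ?_
    rw [hp' a ha, map_zero]
  exact (IsOpenImmersion.isOpen_range S.toSpecΓ).stableUnderGeneralization
    ((PrimeSpectrum.le_iff_specializes p (S.toSpecΓ z)).1 hle) ⟨z, rfl⟩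

variable [IsNoetherianRing Γ(S, ⊤)]

theorem mem_range_of_mem_support_aux (I : Ideal Γ(S, ⊤)) : ∀ (K : S.Modules) [K.IsQuasicoherent],
    Module.annihilator Γ(S, ⊤) Γ(K, ⊤) = I → Module.Finite Γ(S, ⊤) Γ(K, ⊤) →
    (∀ n : ℕ, Subsingleton (Ext.{u} (Cohom.freeFun.obj (⊤ : S.Opens)) (Coh.toAb K) (n + 1))) →
    ∀ q : PrimeSpectrum Γ(S, ⊤), q ∈ Module.support Γ(S, ⊤) Γ(K, ⊤) → q ∈ Set.range S.toSpecΓ := by
  induction I using WellFoundedGT.induction with
  | ind I ih =>
    intro K _ hI hfin hH q hq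
    haveI := hfin
    let A := Γ(S, ⊤)
    let P := Γ(K, ⊤)
    have hq' : Module.annihilator A P ≤ q.asIdeal := Module.mem_support_iff_of_finite.1 hq
    haveI : Nontrivial P := by
      by_contra hne
      rw [not_nontrivial_iff_subsingleton] at hne
      have h1 : (1 : A) ∈ q.asIdeal := hq' (Module.mem_annihilator.2 fun _ => Subsingleton.elim _ _)
      exact q.isPrime.ne_top ((Ideal.eq_top_iff_one _).2 h1)
    by_contra hqr
    obtain ⟨f, hfq, hf⟩ : ∃ f ∈ q.asIdeal, ∀ x : P, f • x = 0 → x = 0 := by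
      by_contra hne
      push Not at hne
      have hsub : (q.asIdeal : Set A) ⊆ ⋃ p ∈ ((associatedPrimes.finite A P).toFinset : Set (Ideal A)), (p : Set A) := by
        intro a ha
        obtain ⟨x, hx0, hx1⟩ := hne a ha
        rw [Set.Finite.coe_toFinset, biUnion_associatedPrimes_eq_zero_divisors A P]
        exact ⟨x, hx1, hx0⟩
      obtain ⟨p, hp, hle⟩ := (Ideal.subset_union_prime (s := (associatedPrimes.finite A P).toFinset)
        (f := id) q.asIdeal q.asIdeal (fun p hp _ _ => ((associatedPrimes.finite A P).mem_toFinset.1 hp).isPrime)).1 hsub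
      rw [Set.Finite.mem_toFinset, AssociatedPrimes.mem_iff, isAssociatedPrime_iff] at hp
      obtain ⟨hpp, x, hpx⟩ := hp
      have hx0 : x ≠ 0 := by
        rintro rfl
        apply hpp.ne_top
        rw [hpx, Ideal.eq_top_iff_one]
        simp
      have hpa : ∀ a, a ∈ p ↔ a • x = 0 := fun a => by
        rw [hpx, Submodule.mem_colon_singleton]
        simp
      have hmem := mem_range_of_torsion K hx0 ⟨p, hpp⟩ fun a ha => (hpa a).1 ha
      exact hqr ((IsOpenImmersion.isOpen_range S.toSpecΓ).stableUnderGeneralization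
        ((PrimeSpectrum.le_iff_specializes q ⟨p, hpp⟩).1 hle) hmem)
    let φ := smulModΓ K f
    haveI := QCoh.isQuasicoherent_kernel φ
    have happ : ∀ m : P, φ.app ⊤ m = f • m := fun m => by
      rw [smulModΓ_app]
      exact congrArg (fun g : Γ(S, ⊤) ⟶ Γ(S, ⊤) => g f • m) (S.presheaf.map_id (op ⊤))
    haveI : Subsingleton Γ(kernel φ, ⊤) := by
      refine subsingleton_of_forall_eq 0 fun t => ?_
      have h0 : (kernel.ι φ).app ⊤ t = 0 := hf _ (by
        rw [← happ, ← ConcreteCategory.comp_apply, ← Scheme.Modules.Hom.comp_app, kernel.condition,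
          Scheme.Modules.Hom.zero_app]
        rfl)
      exact ModDesc.app_injective_of_mono (kernel.ι φ) ⊤ (h0.trans (map_zero _).symm)
    haveI : Mono φ := Preadditive.mono_of_kernel_zero ((isZero_of_subsingleton_sections (kernel φ)).eq_of_src _ _)
    haveI := QCoh.isQuasicoherent_cokernel φ
    let K' := cokernel φ
    have hS : (ShortComplex.mk φ (cokernel.π φ) (cokernel.condition φ)).ShortExact :=
      { exact := ShortComplex.exact_cokernel φ }
    have hST := QCoh.toAbFun_map_shortExact _ hS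
    let π : P →ₗ[A] Γ(K', ⊤) := QCoh.appLinear (cokernel.π φ) ⊤
    have hπ : Function.Surjective π := Cohom.sections_surjective hST (⊤ : S.Opens) (hH 0)
    have hfin' : Module.Finite A Γ(K', ⊤) := Module.Finite.of_surjective π hπ
    have hH' : ∀ n : ℕ, Subsingleton (Ext.{u} (Cohom.freeFun.obj (⊤ : S.Opens)) (Coh.toAb K') (n + 1)) := fun n => by
      refine subsingleton_of_forall_eq 0 fun x => ?_
      obtain ⟨x₂, rfl⟩ := Ext.covariant_sequence_exact₃ _ hST x rfl
        (@Subsingleton.elim _ (hH (n + 1)) _ _)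
      obtain rfl : x₂ = 0 := @Subsingleton.elim _ (hH n) _ _
      exact Ext.zero_comp (Cohom.freeFun.obj (⊤ : S.Opens)) (n + 1) (Ext.mk₀ _) (n + 1) (add_zero _)
    have hker : ∀ b : P, π b = 0 → ∃ a : P, f • a = b := fun b hb => by
      obtain ⟨a, ha⟩ := QCoh.app_exact hS ⊤ b hb
      exact ⟨a, (happ a).symm.trans ha⟩
    have hannf : ∀ a : P, π (f • a) = 0 := fun a => by
      rw [← happ]
      exact QCoh.app_comp_zero (S := ShortComplex.mk φ (cokernel.π φ) (cokernel.condition φ)) ⊤ a
    have hlt : I < Module.annihilator A Γ(K', ⊤) := by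
      have hf' : f ∈ Module.annihilator A Γ(K', ⊤) := Module.mem_annihilator.2 fun m => by
        obtain ⟨b, rfl⟩ := hπ m
        rw [← map_smul]
        exact hannf b
      refine lt_of_le_of_ne (hI ▸ π.annihilator_le_of_surjective hπ) fun heq => ?_
      obtain ⟨x, hx⟩ := exists_ne (0 : P)
      exact hx (hf x (Module.mem_annihilator.1 (hI.symm ▸ heq ▸ hf') x))
    let N : Submodule A P := Ideal.span {f} • ⊤
    have hN : N ≤ LinearMap.ker π := Submodule.smul_le.2 fun r hr b _ => by
      obtain ⟨c, rfl⟩ := Ideal.mem_span_singleton'.1 hr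
      rw [LinearMap.mem_ker, mul_smul, map_smul, hannf, smul_zero]
    have hinj : Function.Injective (N.liftQ π hN) := by
      rw [← LinearMap.ker_eq_bot, Submodule.ker_liftQ_eq_bot]
      intro b hb
      obtain ⟨a, rfl⟩ := hker b hb
      exact Submodule.smul_mem_smul (Ideal.mem_span_singleton_self f) trivial
    refine hqr (ih _ hlt K' rfl hfin' hH' q (Module.support_subset_of_injective _ hinj ?_))
    rw [Module.support_quotient]
    exact ⟨hq, (PrimeSpectrum.mem_zeroLocus _ _).2 ((Ideal.span_singleton_le_iff_mem _).2 hfq)⟩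

/-- The support of the global sections of an acyclic module is contained in the scheme. -/
theorem mem_range_of_mem_support (K : S.Modules) [K.IsQuasicoherent] [Module.Finite Γ(S, ⊤) Γ(K, ⊤)]
    (hH : ∀ n : ℕ, Subsingleton (Ext.{u} (Cohom.freeFun.obj (⊤ : S.Opens)) (Coh.toAb K) (n + 1)))
    {q : PrimeSpectrum Γ(S, ⊤)} (hq : q ∈ Module.support Γ(S, ⊤) Γ(K, ⊤)) : q ∈ Set.range S.toSpecΓ :=
  mem_range_of_mem_support_aux _ K rfl inferInstance hH q hq

end GrothLib.FunMor20
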