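import Mathlib.CategoryTheory.Functor.KanExtension.Dense
import Mathlib.CategoryTheory.Functor.KanExtension.Pointwise
import Mathlib.CategoryTheory.Presentable.Finite
import Mathlib.CategoryTheory.Limits.Constructions.Filtered
import Mathlib.CategoryTheory.Filtered.Final
import Mathlib.CategoryTheory.Preadditive.AdditiveFunctor
import Mathlib.CategoryTheory.Limits.Filtered
import Mathlib.CategoryTheory.Limits.Preserves.FunctorCategory
import Mathlib.CategoryTheory.Limits.Preserves.Shapes.Kernels

/-!
# Functors on a category generated by a dense subcategory of compact objects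
-/

set_option autoImplicit false
set_option linter.style.haveILetI false
set_option linter.unusedSectionVars false

universe u w u₁ u₂ v' u'

open CategoryTheory CategoryTheory.Limits

noncomputable section

namespace GrothLib.FunMor20.Ind

variable {A : Type u₁} [Category.{w} A] {C : Type u₂} [Category.{w} C] (K : A ⥤ C)
  [K.Full] [K.Faithful] [K.IsDense] [∀ X : C, IsFiltered (CostructuredArrow K X)]
  [∀ X : C, EssentiallySmall.{u} (CostructuredArrow K X)] [∀ a : A, IsFinitelyPresentable.{u} (K.obj a)]
  {B : Type u'} [Category.{v'} B]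

/-- The canonical cocone. -/
abbrev canonical (M : C) : Cocone (CostructuredArrow.proj K M ⋙ K) :=
  (Functor.LeftExtension.mk (𝟭 C) K.rightUnitor.inv).coconeAt M

theorem canonical_ι_app (M : C) (X : CostructuredArrow K M) : (canonical K M).ι.app X = X.hom := by
  simp [canonical]
  exact Category.id_comp _

theorem preservesColimitsOfShape_over (E : C ⥤ B) [PreservesFilteredColimitsOfSize.{u, u} E] (M : C) :
    PreservesColimitsOfShape (CostructuredArrow K M) E := by
  let e := equivSmallModel.{u} (CostructuredArrow K M)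
  haveI : IsFiltered (SmallModel.{u} (CostructuredArrow K M)) := IsFiltered.of_equivalence e
  exact preservesColimitsOfShape_of_equiv e.symm E

theorem hasColimitsOfShape_over [HasFilteredColimitsOfSize.{u, u} B] (M : C) :
    HasColimitsOfShape (CostructuredArrow K M) B := by
  let e := equivSmallModel.{u} (CostructuredArrow K M)
  haveI : IsFiltered (SmallModel.{u} (CostructuredArrow K M)) := IsFiltered.of_equivalence e
  haveI : HasColimitsOfShape (SmallModel.{u} (CostructuredArrow K M)) B :=
    HasFilteredColimitsOfSize.HasColimitsOfShape _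
  exact hasColimitsOfShape_of_equivalence e.symm

section Preserves

variable {F : A ⥤ B} {E : C ⥤ B} (α : F ⟶ K ⋙ E)
  (hE : (Functor.LeftExtension.mk E α).IsPointwiseLeftKanExtension)

include hE in
theorem hom_ext_over {M : C} {T : B} {g h : E.obj M ⟶ T}
    (H : ∀ (X : A) (p : K.obj X ⟶ M), α.app X ≫ E.map p ≫ g = α.app X ≫ E.map p ≫ h) : g = h :=
  (hE M).hom_ext fun X => ((Category.assoc _ _ _).trans (H X.left X.hom)).trans (Category.assoc _ _ _).symm

include hE in
theorem exists_desc_over {M : C} {T : B}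
    (φ : ∀ (X : A), (K.obj X ⟶ M) → (F.obj X ⟶ T))
    (H : ∀ (X X' : A) (h : X ⟶ X') (p : K.obj X' ⟶ M),
      F.map h ≫ φ X' p = φ X (K.map h ≫ p)) :
    ∃ g : E.obj M ⟶ T, ∀ (X : A) (p : K.obj X ⟶ M), α.app X ≫ E.map p ≫ g = φ X p := by
  let k : Cocone (CostructuredArrow.proj K M ⋙ F) :=
    { pt := T
      ι :=
        { app := fun X => φ X.left X.hom
          naturality := fun X X' h => by
            have hw : K.map h.left ≫ X'.hom = X.hom := CostructuredArrow.w h
            exact ((H X.left X'.left h.left X'.hom).trans (congrArg _ hw)).trans (Category.comp_id _).symm } }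
  refine ⟨(hE M).desc k, fun X p => ?_⟩
  have := (hE M).fac k (CostructuredArrow.mk (Y := X) p)
  exact (Category.assoc _ _ _).symm.trans this

include hE in
theorem preservesFilteredColimits : PreservesFilteredColimitsOfSize.{u, u} E := by
  refine ⟨fun J _ _ => ⟨fun {D} => ⟨fun {c} hc => ?_⟩⟩⟩
  have wd : ∀ (s : Cocone (D ⋙ E)) (X : A) {j j' : J} (g : K.obj X ⟶ D.obj j)
      (g' : K.obj X ⟶ D.obj j'), g ≫ c.ι.app j = g' ≫ c.ι.app j' →
      α.app X ≫ E.map g ≫ s.ι.app j = α.app X ≫ E.map g' ≫ s.ι.app j' := by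
    intro s X j j' g g' h
    obtain ⟨k, e, e', hk⟩ := IsFinitelyPresentable.exists_eq_of_isColimit.{u} hc g g' h
    have w1 : E.map (D.map e) ≫ s.ι.app k = s.ι.app j := s.w e
    have w2 : E.map (D.map e') ≫ s.ι.app k = s.ι.app j' := s.w e'
    rw [← w1, ← w2, ← E.map_comp_assoc g, ← E.map_comp_assoc g', hk]
  choose j g hg using fun (X : A) (p : K.obj X ⟶ c.pt) => IsFinitelyPresentable.exists_hom_of_isColimit.{u} hc p
  have hd : ∀ s : Cocone (D ⋙ E), ∃ d : E.obj c.pt ⟶ s.pt, ∀ (X : A) (p : K.obj X ⟶ c.pt),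
      α.app X ≫ E.map p ≫ d = α.app X ≫ E.map (g X p) ≫ s.ι.app (j X p) := by
    intro s
    refine exists_desc_over K α hE (fun X p => α.app X ≫ E.map (g X p) ≫ s.ι.app (j X p))
      fun X X' h p => ?_
    have hn : F.map h ≫ α.app X' = α.app X ≫ E.map (K.map h) := α.naturality h
    rw [← Category.assoc, hn, Category.assoc, ← E.map_comp_assoc]
    exact wd s X _ _ (by rw [Category.assoc, hg, hg])
  choose d hd using hd
  refine ⟨{ desc := d, fac := fun s i => ?_, uniq := fun s m hm => ?_ }⟩
  · refine hom_ext_over K α hE fun X p => ?_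
    change α.app X ≫ E.map p ≫ E.map (c.ι.app i) ≫ d s = _
    rw [← E.map_comp_assoc, hd]
    exact wd s X _ p (hg X _)
  · refine hom_ext_over K α hE fun X p => ?_
    rw [hd]
    conv_lhs => rw [← hg X p]
    rw [E.map_comp_assoc]
    congr 2
    exact hm _

end Preserves

/-- A filtered-colimit preserving functor is the extension of its restriction. -/
theorem isPointwiseLeftKanExtension (E : C ⥤ B) [PreservesFilteredColimitsOfSize.{u, u} E] {F : A ⥤ B}
    (e : F ≅ K ⋙ E) : Nonempty (Functor.LeftExtension.mk E e.hom).IsPointwiseLeftKanExtension := by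
  refine ⟨fun M => ?_⟩
  haveI := preservesColimitsOfShape_over.{u} K E M
  refine IsColimit.ofIsoColimit ((IsColimit.precomposeHomEquiv
    (Functor.isoWhiskerLeft (CostructuredArrow.proj K M) e ≪≫ (Functor.associator _ _ _).symm)
    (E.mapCocone (canonical K M))).symm (isColimitOfPreserves E (K.denseAt M))) ?_
  refine Cocone.ext (Iso.refl _) fun X => ?_
  change (_ ≫ E.map ((canonical K M).ι.app X)) ≫ 𝟙 _ = _
  rw [canonical_ι_app, Category.comp_id]
  simp
  rfl

/-- A functor on the compact generators extends. -/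
theorem exists_extension [HasFilteredColimitsOfSize.{u, u} B] (F : A ⥤ B) :
    ∃ E : C ⥤ B, PreservesFilteredColimitsOfSize.{u, u} E ∧ Nonempty (K ⋙ E ≅ F) := by
  haveI : K.HasPointwiseLeftKanExtension F := fun M =>
    haveI := hasColimitsOfShape_over.{u} K (B := B) M
    inferInstance
  let E := K.pointwiseLeftKanExtension F
  let α := K.pointwiseLeftKanExtensionUnit F
  let hE := K.pointwiseLeftKanExtensionIsPointwiseLeftKanExtension F
  haveI : IsIso (Functor.LeftExtension.mk E α).hom := hE.isIso_hom
  exact ⟨E, preservesFilteredColimits K α hE, ⟨(asIso (Functor.LeftExtension.mk E α).hom).symm⟩⟩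

/-- Extensions are unique. -/
theorem extension_unique (F₁ F₂ : C ⥤ B) [PreservesFilteredColimitsOfSize.{u, u} F₁]
    [PreservesFilteredColimitsOfSize.{u, u} F₂] (e : K ⋙ F₁ ≅ K ⋙ F₂) : Nonempty (F₁ ≅ F₂) := by
  haveI : F₁.IsLeftKanExtension (Iso.refl (K ⋙ F₁)).hom :=
    (isPointwiseLeftKanExtension.{u} K F₁ (Iso.refl (K ⋙ F₁))).some.isLeftKanExtension
  haveI : F₂.IsLeftKanExtension e.hom := (isPointwiseLeftKanExtension.{u} K F₂ e).some.isLeftKanExtension
  exact ⟨Functor.leftKanExtensionUnique F₁ (Iso.refl (K ⋙ F₁)).hom F₂ e.hom⟩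

theorem hom_ext_of_preserves (E : C ⥤ B) [PreservesFilteredColimitsOfSize.{u, u} E] {M : C} {T : B}
    {g h : E.obj M ⟶ T} (H : ∀ (X : A) (p : K.obj X ⟶ M), E.map p ≫ g = E.map p ≫ h) : g = h :=
  hom_ext_over K (𝟙 _) (isPointwiseLeftKanExtension.{u} K E (Iso.refl _)).some (fun X p => by simpa using H X p)

theorem exists_desc_of_preserves (E : C ⥤ B) [PreservesFilteredColimitsOfSize.{u, u} E] {M : C} {T : B}
    (φ : ∀ (X : A), (K.obj X ⟶ M) → (E.obj (K.obj X) ⟶ T))
    (H : ∀ (X X' : A) (h : X ⟶ X') (p : K.obj X' ⟶ M), E.map (K.map h) ≫ φ X' p = φ X (K.map h ≫ p)) :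
    ∃ g : E.obj M ⟶ T, ∀ (X : A) (p : K.obj X ⟶ M), E.map p ≫ g = φ X p := by
  obtain ⟨g, hg⟩ := exists_desc_over (F := K ⋙ E) K (𝟙 _)
    (isPointwiseLeftKanExtension.{u} K E (Iso.refl _)).some φ H
  exact ⟨g, fun X p => by simpa using hg X p⟩

section Additive

variable [Preadditive A] [Preadditive C] [K.Additive] [Preadditive B]
  (E : C ⥤ B) [PreservesFilteredColimitsOfSize.{u, u} E]

theorem additive_of_restriction [(K ⋙ E).Additive] : E.Additive := by
  refine ⟨fun {M N f g} => hom_ext_of_preserves.{u} K E fun X p => ?_⟩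
  obtain ⟨Y, a, b, -⟩ := IsFilteredOrEmpty.cocone_objs (C := CostructuredArrow K N)
    (CostructuredArrow.mk (Y := X) (p ≫ f)) (CostructuredArrow.mk (Y := X) (p ≫ g))
  let a' : X ⟶ Y.left := a.left
  let b' : X ⟶ Y.left := b.left
  have ha : K.map a' ≫ Y.hom = p ≫ f := CostructuredArrow.w a
  have hb : K.map b' ≫ Y.hom = p ≫ g := CostructuredArrow.w b
  have h : E.map (K.map a' + K.map b') = E.map (K.map a') + E.map (K.map b') := by
    rw [← K.map_add]
    exact (K ⋙ E).map_add
  rw [Preadditive.comp_add, ← E.map_comp, ← E.map_comp, ← E.map_comp, Preadditive.comp_add, ← ha, ← hb,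
    ← Preadditive.add_comp]
  rw [E.map_comp, E.map_comp, E.map_comp, h, Preadditive.add_comp]

include K in
theorem preservesCoproducts [E.Additive] (J : Type u) [HasFiniteCoproducts C]
    [HasColimitsOfShape (Discrete J) C] [HasFilteredColimitsOfSize.{u, u} C] :
    PreservesColimitsOfShape (Discrete J) E := by
  classical
  haveI : ∀ f : J → C, PreservesColimit (Discrete.functor f) E := ?_
  · exact preservesColimitsOfShape_of_discrete E
  refine fun f => ⟨fun {c} hc => ⟨?_⟩⟩
  let c' : Cofan f := c
  let π : ∀ i, c'.pt ⟶ f i := fun i => Cofan.IsColimit.desc hc fun j =>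
    if h : j = i then eqToHom (by rw [h]) else 0
  have h₁ : ∀ i, c'.inj i ≫ π i = 𝟙 _ := fun i => by simp [π]
  have h₂ : ∀ i j, i ≠ j → c'.inj i ≫ π j = 0 := fun i j h => by simp [π, h]
  have hfin : ∀ (X : A) (p : K.obj X ⟶ c'.pt), ∃ S : Finset J, p = ∑ i ∈ S, p ≫ π i ≫ c'.inj i := by
    intro X p
    let D := CoproductsFromFiniteFiltered.liftToFinsetObj (Discrete.functor f)
    haveI : HasColimitsOfShape (Finset (Discrete J)) C := HasFilteredColimitsOfSize.HasColimitsOfShape _
    let L := CoproductsFromFiniteFiltered.liftToFinsetColimitCocone (Discrete.functor f)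
    let e : colimit D ≅ c'.pt := L.isColimit.coconePointUniqueUpToIso hc
    obtain ⟨T, p', hp'⟩ := IsFinitelyPresentable.exists_hom_of_isColimit.{u} (colimit.isColimit D)
      (p ≫ e.inv)
    refine ⟨T.image Discrete.as, ?_⟩
    have hp : p = p' ≫ colimit.ι D T ≫ e.hom := by
      rw [← cancel_mono e.inv, ← hp']
      simp only [Category.assoc, Iso.hom_inv_id, Category.comp_id]
      rfl
    have hι : ∀ (j : {x // x ∈ T}), Sigma.ι (fun x : {x // x ∈ T} => (Discrete.functor f).obj x.1) j ≫
        colimit.ι D T ≫ e.hom = c'.inj j.1.as := fun j => by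
      have h1 : L.cocone.ι.app j.1 ≫ e.hom = c'.inj j.1.as := L.isColimit.comp_coconePointUniqueUpToIso_hom hc j.1
      rw [← h1]
      have hm : Sigma.ι (fun x : {x // x ∈ ({j.1} : Finset (Discrete J))} => (Discrete.functor f).obj x.1) ⟨j.1, by simp⟩ ≫
          D.map (homOfLE (x := ({j.1} : Finset (Discrete J))) (y := T) (by simp [j.2])) =
          Sigma.ι (fun x : {x // x ∈ T} => (Discrete.functor f).obj x.1) j := by
        simp [D, CoproductsFromFiniteFiltered.liftToFinsetObj]
      change _ = (Sigma.ι (fun x : {x // x ∈ ({j.1} : Finset (Discrete J))} => (Discrete.functor f).obj x.1) ⟨j.1, by simp⟩ ≫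
        colimit.ι D {j.1}) ≫ e.hom
      rw [← colimit.w D (homOfLE (x := ({j.1} : Finset (Discrete J))) (y := T) (by simp [j.2]))]
      refine (congrArg (· ≫ colimit.ι D T ≫ e.hom) hm.symm).trans ?_
      refine (Category.assoc _ _ _).trans ?_
      refine Eq.trans ?_ (Category.assoc _ _ _).symm
      exact congrArg (_ ≫ ·) (Category.assoc _ _ _).symm
    have hid : colimit.ι D T ≫ e.hom =
        ∑ i ∈ T.image Discrete.as, (colimit.ι D T ≫ e.hom) ≫ π i ≫ c'.inj i := by
      refine Sigma.hom_ext _ _ fun j => ?_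
      refine Eq.trans ?_ (Preadditive.comp_sum _ _ _).symm
      refine Eq.trans ?_ (Finset.sum_eq_single j.1.as (fun i _ hi => ?_) ?_).symm
      · refine Eq.trans ?_ (Category.assoc _ _ _)
        refine (hι j).trans (Eq.trans ?_ (congrArg (· ≫ π j.1.as ≫ c'.inj j.1.as) (hι j)).symm)
        rw [reassoc_of% h₁ j.1.as]
      · refine (Category.assoc _ _ _).symm.trans ((congrArg (· ≫ π i ≫ c'.inj i) (hι j)).trans ?_)
        rw [reassoc_of% h₂ j.1.as i (Ne.symm hi), zero_comp]
      · intro h
        exact absurd (Finset.mem_image_of_mem _ j.2) h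
    conv_lhs => rw [hp, hid]
    rw [Preadditive.comp_sum]
    refine Finset.sum_congr rfl fun i _ => ?_
    conv_rhs => rw [hp]
    simp only [Category.assoc]
  choose S hS using hfin
  have hz : ∀ (X : A) (p : K.obj X ⟶ c'.pt) (i : J), i ∉ S X p → p ≫ π i = 0 := by
    intro X p i hi
    rw [hS X p, Preadditive.sum_comp]
    refine Finset.sum_eq_zero fun j hj => ?_
    rw [Category.assoc, Category.assoc, h₂ j i (ne_of_mem_of_not_mem hj hi), comp_zero, comp_zero]
  let s' : ∀ s : Cocone (Discrete.functor f ⋙ E), ∀ i, E.obj (f i) ⟶ s.pt := fun s i => s.ι.app ⟨i⟩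
  have hind : ∀ (s : Cocone (Discrete.functor f ⋙ E)) (X : A) (p : K.obj X ⟶ c'.pt) (T : Finset J),
      S X p ⊆ T → ∑ i ∈ S X p, E.map (p ≫ π i) ≫ s' s i = ∑ i ∈ T, E.map (p ≫ π i) ≫ s' s i :=
    fun s X p T hT => Finset.sum_subset hT fun i _ hi => by rw [hz X p i hi, E.map_zero, zero_comp]
  choose d hd using fun s : Cocone (Discrete.functor f ⋙ E) => exists_desc_of_preserves.{u} K E
    (fun X p => ∑ i ∈ S X p, E.map (p ≫ π i) ≫ s' s i) fun X X' h p => by
      rw [hind s X (K.map h ≫ p) (S X (K.map h ≫ p) ∪ S X' p) Finset.subset_union_left,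
        hind s X' p _ (Finset.subset_union_right (s₁ := S X (K.map h ≫ p))), Preadditive.comp_sum]
      simp only [← E.map_comp_assoc, Category.assoc]
  refine { desc := d, fac := fun s ⟨i⟩ => ?_, uniq := fun s m hm => ?_ }
  · refine hom_ext_of_preserves.{u} K E fun X q => ?_
    change E.map q ≫ E.map (c'.inj i) ≫ d s = E.map q ≫ s' s i
    rw [← E.map_comp_assoc, hd, hind s X _ _ (Finset.subset_union_left (s₂ := {i})),
      Finset.sum_eq_single i]
    · rw [Category.assoc, h₁]
      erw [Category.comp_id]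
    · intro j _ hji
      rw [Category.assoc, h₂ i j (Ne.symm hji), comp_zero, E.map_zero, zero_comp]
    · simp
  · refine hom_ext_of_preserves.{u} K E fun X p => ?_
    rw [hd]
    conv_lhs => rw [hS X p]
    rw [E.map_sum, Preadditive.sum_comp]
    refine Finset.sum_congr rfl fun i _ => ?_
    rw [← Category.assoc p, E.map_comp, Category.assoc]
    exact congrArg (E.map (p ≫ π i) ≫ ·) (hm ⟨i⟩)

end Additive

section Exact

variable [Preadditive C] [Preadditive B] (E : C ⥤ B) [PreservesFilteredColimitsOfSize.{u, u} E]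
  [HasFilteredColimitsOfSize.{u, u} C] [HasFilteredColimitsOfSize.{u, u} B]

/-- A (co)kernel-preservation statement passes to filtered colimits. -/
theorem preserves_of_colimit {J : Type*} [Category J] [EssentiallySmall.{u} J] [IsFiltered J]
    {D₁ D₂ : J ⥤ C} (φ : D₁ ⟶ D₂) {c₁ : Cocone D₁} {c₂ : Cocone D₂} (h₁ : IsColimit c₁) (h₂ : IsColimit c₂)
    (f : c₁.pt ⟶ c₂.pt) (hf : ∀ j, c₁.ι.app j ≫ f = φ.app j ≫ c₂.ι.app j) :
    ([HasEqualizers C] → (∀ (K : Type u) [SmallCategory K] [IsFiltered K] [HasColimitsOfShape K B],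
        PreservesLimitsOfShape WalkingParallelPair (colim : (K ⥤ B) ⥤ B)) →
      (∀ (K : Type u) [SmallCategory K] [IsFiltered K] [HasColimitsOfShape K C],
        PreservesLimitsOfShape WalkingParallelPair (colim : (K ⥤ C) ⥤ C)) →
      (∀ j, PreservesLimit (parallelPair (φ.app j) 0) E) → PreservesLimit (parallelPair f 0) E) ∧
    ([HasCoequalizers C] → (∀ j, PreservesColimit (parallelPair (φ.app j) 0) E) →
      PreservesColimit (parallelPair f 0) E) := by
  let e := (equivSmallModel.{u} J).symm
  let K := SmallModel.{u} J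
  haveI : IsFiltered K := IsFiltered.of_equivalence e.symm
  let g₁ : Cocone (e.functor ⋙ D₁) := c₁.whisker e.functor
  let g₂ : Cocone (e.functor ⋙ D₂) := c₂.whisker e.functor
  let hg₁ : IsColimit g₁ := h₁.whiskerEquivalence e
  let hg₂ : IsColimit g₂ := h₂.whiskerEquivalence e
  let ψ : e.functor ⋙ D₁ ⟶ e.functor ⋙ D₂ := Functor.whiskerLeft e.functor φ
  haveI : HasColimitsOfShape K B := HasFilteredColimitsOfSize.HasColimitsOfShape K
  haveI : HasColimitsOfShape K C := HasFilteredColimitsOfSize.HasColimitsOfShape K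
  haveI : PreservesColimitsOfShape K E := PreservesFilteredColimitsOfSize.preserves_filtered_colimits K
  let W : (K ⥤ C) ⥤ (K ⥤ B) := (Functor.whiskeringRight K _ _).obj E
  let i : ∀ k, parallelPair ψ 0 ⋙ (evaluation K _).obj k ≅ parallelPair (φ.app (e.functor.obj k)) 0 := fun k =>
    parallelPair.ext (Iso.refl _) (Iso.refl _) (by simp [ψ]) (by simp)
  let u₁ : colimit (e.functor ⋙ D₁) ≅ c₁.pt := (colimit.isColimit _).coconePointUniqueUpToIso hg₁
  let u₂ : colimit (e.functor ⋙ D₂) ≅ c₂.pt := (colimit.isColimit _).coconePointUniqueUpToIso hg₂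
  have hiso : Nonempty (parallelPair ψ 0 ⋙ colim ≅ parallelPair f 0) := by
    refine ⟨parallelPair.ext u₁ u₂ ?_ ?_⟩
    · refine colimit.hom_ext fun k => ?_
      simp [u₁, u₂, ψ, g₁, g₂, hf]
    · refine colimit.hom_ext fun k => ?_
      simp
  obtain ⟨hiso⟩ := hiso
  refine ⟨fun [HasEqualizers C] hB hC H => ?_, fun [HasCoequalizers C] H => ?_⟩
  · haveI hW : PreservesLimit (parallelPair ψ 0) W := by
      refine preservesLimit_of_evaluation W _ fun k => ?_
      haveI := H (e.functor.obj k)
      haveI : PreservesLimit (parallelPair ψ 0 ⋙ (evaluation K _).obj k) E :=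
        preservesLimit_of_iso_diagram E (i k).symm
      exact inferInstanceAs (PreservesLimit (parallelPair ψ 0) ((evaluation K _).obj k ⋙ E))
    haveI := hB K
    haveI := hC K
    haveI : PreservesLimit (parallelPair ψ 0) (W ⋙ colim) := inferInstance
    haveI : PreservesLimit (parallelPair ψ 0) (colim ⋙ E) :=
      preservesLimit_of_natIso (parallelPair ψ 0) (preservesColimitNatIso E).symm
    haveI : HasLimit (parallelPair ψ 0) := inferInstance
    haveI : PreservesLimit (parallelPair ψ 0 ⋙ colim) E :=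
      preservesLimit_of_preserves_limit_cone (isLimitOfPreserves colim (limit.isLimit (parallelPair ψ 0)))
        (isLimitOfPreserves (colim ⋙ E) (limit.isLimit (parallelPair ψ 0)))
    exact preservesLimit_of_iso_diagram E hiso
  · haveI hW : PreservesColimit (parallelPair ψ 0) W := by
      refine preservesColimit_of_evaluation W _ fun k => ?_
      haveI := H (e.functor.obj k)
      haveI : PreservesColimit (parallelPair ψ 0 ⋙ (evaluation K _).obj k) E :=
        preservesColimit_of_iso_diagram E (i k).symm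
      exact inferInstanceAs (PreservesColimit (parallelPair ψ 0) ((evaluation K _).obj k ⋙ E))
    haveI : PreservesColimitsOfShape WalkingParallelPair (colim : (K ⥤ B) ⥤ B) :=
      colimConstAdj.leftAdjoint_preservesColimits.preservesColimitsOfShape
    haveI : PreservesColimitsOfShape WalkingParallelPair (colim : (K ⥤ C) ⥤ C) :=
      colimConstAdj.leftAdjoint_preservesColimits.preservesColimitsOfShape
    haveI : PreservesColimit (parallelPair ψ 0) (W ⋙ colim) := inferInstance
    haveI : PreservesColimit (parallelPair ψ 0) (colim ⋙ E) :=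
      preservesColimit_of_natIso (parallelPair ψ 0) (preservesColimitNatIso E).symm
    haveI : HasColimit (parallelPair ψ 0) := inferInstance
    haveI : PreservesColimit (parallelPair ψ 0 ⋙ colim) E :=
      preservesColimit_of_preserves_colimit_cocone (isColimitOfPreserves colim (colimit.isColimit (parallelPair ψ 0)))
        (isColimitOfPreserves (colim ⋙ E) (colimit.isColimit (parallelPair ψ 0)))
    exact preservesColimit_of_iso_diagram E hiso

/-- A property of morphisms stable under filtered colimits propagates from the generators. -/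
theorem induction_on_morphisms (P : ∀ {M N : C}, (M ⟶ N) → Prop)
    (hK : ∀ {a b : A} (f : a ⟶ b), P (K.map f))
    (hcolim : ∀ {J : Type max u₁ w} [Category.{w} J] [EssentiallySmall.{u} J] [IsFiltered J] {D₁ D₂ : J ⥤ C}
      (φ : D₁ ⟶ D₂) {c₁ : Cocone D₁} {c₂ : Cocone D₂} (_ : IsColimit c₁) (_ : IsColimit c₂) (f : c₁.pt ⟶ c₂.pt),
      (∀ j, c₁.ι.app j ≫ f = φ.app j ≫ c₂.ι.app j) → (∀ j, P (φ.app j)) → P f)
    {M N : C} (f : M ⟶ N) : P f := by
  have step : ∀ {X : A} {N : C} (f : K.obj X ⟶ N), P f := fun {X N} f => by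
    let X₀ : CostructuredArrow K N := CostructuredArrow.mk (Y := X) f
    haveI := IsFiltered.isConnected (Under X₀)
    let D₂ : Under X₀ ⥤ C := Under.forget X₀ ⋙ CostructuredArrow.proj K N ⋙ K
    let φ : (Functor.const (Under X₀)).obj (K.obj X) ⟶ D₂ :=
      { app := fun j => K.map j.hom.left
        naturality := fun i j k => (Category.id_comp _).trans
          ((congrArg (fun t => K.map t.left) (Under.w k)).symm.trans (K.map_comp _ _)) }
    haveI : EssentiallySmall.{u} (Under X₀) :=
      inferInstanceAs (EssentiallySmall.{u} (StructuredArrow X₀ (𝟭 (CostructuredArrow K N))))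
    refine hcolim φ (isColimitConstCocone (Under X₀) (K.obj X))
      ((Functor.Final.isColimitWhiskerEquiv (Under.forget X₀) (canonical K N)).symm (K.denseAt N))
      f (fun j => ?_) (fun j => hK _)
    simp only [Cocone.whisker_ι, Functor.whiskerLeft_app, constCocone_ι]
    rw [canonical_ι_app]
    exact (Category.id_comp f).trans (CostructuredArrow.w j.hom).symm
  haveI := IsFiltered.isConnected (CostructuredArrow K M)
  let φ : CostructuredArrow.proj K M ⋙ K ⟶ (Functor.const (CostructuredArrow K M)).obj N :=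
    { app := fun j => j.hom ≫ f
      naturality := fun i j k => by
        have : K.map k.left ≫ j.hom = i.hom := CostructuredArrow.w k
        change K.map k.left ≫ j.hom ≫ f = (i.hom ≫ f) ≫ 𝟙 _
        rw [← this, Category.comp_id, Category.assoc] }
  refine hcolim φ (K.denseAt M) (isColimitConstCocone (CostructuredArrow K M) N) f (fun j => ?_) (fun j => step _)
  have := canonical_ι_app K M j
  simp only [canonical] at this
  erw [this]
  exact (Category.comp_id _).symm

end Exact

end GrothLib.FunMor20.Ind
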