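import Groth.Agent.Lib.FunMor20.Glue

/-!
# Invertibility of a transformation on direct images of affine schemes
-/

set_option autoImplicit false
set_option linter.style.haveILetI false
set_option linter.style.longLine false
set_option linter.unusedSectionVars false
set_option maxHeartbeats 400000
set_option backward.isDefEq.respectTransparency.types false

universe u

open CategoryTheory CategoryTheory.Limits AlgebraicGeometry Opposite TopologicalSpace

noncomputable section

namespace GrothLib.FunMor20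

open Formal (smulModΓ)

variable {W Y S Z : Scheme.{u}} [IsAffine W] [IsAffine S] {x : W ⟶ S} {y : Y ⟶ S} {p : Z ⟶ W} {q : Z ⟶ Y}

include x y in
/-- Direct image along an affine base change reflects isomorphisms of quasi-coherent modules. -/
theorem isIso_of_isIso_push (h : IsPullback p q x y) {K₁ K₂ : Z.Modules} [K₁.IsQuasicoherent] [K₂.IsQuasicoherent]
    (ψ : K₁ ⟶ K₂) (hψ : IsIso ((Scheme.Modules.pushforward q).map ψ)) : IsIso ψ := by
  let P := Scheme.Modules.pushforward q
  obtain ⟨χ, hχ, -⟩ := existsUnique_of_equivariant h K₂ K₁ (inv (P.map ψ)) fun a => by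
    rw [IsIso.eq_inv_comp, ← Category.assoc, IsIso.comp_inv_eq, ← P.map_comp, ← P.map_comp]
    exact congrArg P.map (KLin.comp_smulModΓ ψ (p.appTop a))
  obtain ⟨_, -, hu₁⟩ := existsUnique_of_equivariant h K₁ K₁ (𝟙 _) fun a => by simp
  obtain ⟨_, -, hu₂⟩ := existsUnique_of_equivariant h K₂ K₂ (𝟙 _) fun a => by simp
  refine ⟨χ, (hu₁ _ ?_).trans (hu₁ _ (P.map_id _)).symm, (hu₂ _ ?_).trans (hu₂ _ (P.map_id _)).symm⟩
  · show P.map (ψ ≫ χ) = _
    rw [P.map_comp, hχ, IsIso.hom_inv_id]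
  · show P.map (χ ≫ ψ) = _
    rw [P.map_comp, hχ, IsIso.inv_hom_id]

/-- The box product with the structure module. -/
def ω (p : Z ⟶ W) (K : Z.Modules) :
    ((DCoh.tensorBi (X := Z)).obj ((Scheme.Modules.pullback p).obj (Coh.structureModule W))).obj K ≅ K :=
  ((DCoh.tensorBi).mapIso (OX.pullUnitIso p)).app K ≪≫ OX.tensorUnitLeftIso K

theorem ω_natural (p : Z ⟶ W) {K K' : Z.Modules} (ψ : K ⟶ K') :
    ((DCoh.tensorBi (X := Z)).obj ((Scheme.Modules.pullback p).obj (Coh.structureModule W))).map ψ ≫ (ω p K').hom =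
      (ω p K).hom ≫ ψ := by
  simp only [ω, Iso.trans_hom, Iso.app_hom, Functor.mapIso_hom, Category.assoc]
  erw [reassoc_of% ((DCoh.tensorBi (X := Z)).map (OX.pullUnitIso p).hom).naturality ψ]
  exact congrArg (_ ≫ ·) (tensorUnitLeftIso_natural ψ)

theorem ω_smul (p : Z ⟶ W) (K : Z.Modules) (a : Γ(W, ⊤)) :
    ((DCoh.tensorBi (X := Z)).map ((Scheme.Modules.pullback p).map (smulModΓ (Coh.structureModule W) a))).app K ≫ (ω p K).hom =
      (ω p K).hom ≫ act p K a := by
  rw [pullback_map_smulModΓ, tensor_map_smulModΓ]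
  exact (KLin.comp_smulModΓ (ω p K).hom (p.appTop a)).symm

variable {X T : Scheme.{u}} {xX : X ⟶ S} {pT : T ⟶ X} {qT : T ⟶ Y}

/-- A transformation into a transform is invertible on direct images from affine schemes once it is so on modules
supported in the members of an affine cover. -/
theorem isIso_app_affinePush [IsAffineHom (pullback.diagonal xX)] (h : IsPullback pT qT xX y)
    (𝔽 : QCohCat.QCoh X ⥤ Y.Modules) [PreservesFiniteColimits 𝔽] [∀ J : Type u, PreservesColimitsOfShape (Discrete J) 𝔽]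
    [𝔽.Additive] (hqc : ∀ M, (𝔽.obj M).IsQuasicoherent)
    (hR : ∀ (M : QCohCat.QCoh X) (r : Γ(S, ⊤)), 𝔽.map (smulQ M (xX.appTop r)) = smulModΓ (𝔽.obj M) (y.appTop r))
    (K : T.Modules) [K.IsQuasicoherent] (t : 𝔽 ⟶ Φ pT qT K) {ι : Type} (U : ι → X.affineOpens)
    (hcov : ∀ z, ∃ i, z ∈ (U i).1) (ht : ∀ (i : ι) (M : QCohCat.QCoh X), Supp (U i).1 M.obj → IsIso (t.app M))
    (f : W ⟶ X) [IsAffineHom f] (N : QCohCat.QCoh W) : IsIso (t.app ((qcohPush f).obj N)) := by
  let T' := pullback f pT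
  let p' := pullback.fst f pT
  let g := pullback.snd f pT
  let q' := g ≫ qT
  have hsq : IsPullback p' g f pT := IsPullback.of_hasPullback f pT
  have h' : IsPullback p' q' (f ≫ xX) y := hsq.paste_vert h
  haveI := isAffineHom_snd h'
  let G₁ := qcohPush f ⋙ 𝔽
  let G₂ := qcohPush f ⋙ Φ pT qT K
  let τ : G₁ ⟶ G₂ := Functor.whiskerLeft (qcohPush f) t
  let K₂ := (Scheme.Modules.pullback g).obj K
  haveI : K₂.IsQuasicoherent := FittSheaf.isQuasicoherent_pullback g K
  let e₂ : G₂ ≅ Φ p' q' K₂ :=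
    Functor.isoWhiskerRight (pushSquareIso hsq K) (Scheme.Modules.pushforward qT) ≪≫
      Functor.isoWhiskerLeft (preFM p' K₂) (Scheme.Modules.pushforwardComp g qT)
  haveI := preservesFiniteColimits_qcohPush f
  haveI : ∀ J : Type u, PreservesColimitsOfShape (Discrete J) (qcohPush f) := fun J => preservesColimitsOfShape_qcohPush f _
  haveI hG₁a : PreservesFiniteColimits G₁ := comp_preservesFiniteColimits (qcohPush f) 𝔽
  haveI hG₁b : ∀ J : Type u, PreservesColimitsOfShape (Discrete J) G₁ := fun J => comp_preservesColimitsOfShape (qcohPush f) 𝔽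
  have hfin : ∀ K' : T'.Modules, K'.IsQuasicoherent → PreservesFiniteColimits (Φ p' q' K') ∧
      ∀ J : Type u, PreservesColimitsOfShape (Discrete J) (Φ p' q' K') := fun K' _ =>
    ⟨preservesFiniteColimits_of_preservesFiniteColimitsOfSize.{u} _ fun J _ _ => preservesColimits_Φ_of_affine p' q' K' J,
      fun J => preservesColimits_Φ_of_affine p' q' K' _⟩
  haveI hG₂a : PreservesFiniteColimits G₂ :=
    haveI := (hfin K₂ inferInstance).1
    preservesFiniteColimits_of_natIso e₂.symm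
  haveI hG₂b : ∀ J : Type u, PreservesColimitsOfShape (Discrete J) G₂ := fun J =>
    haveI := (hfin K₂ inferInstance).2 J
    preservesColimitsOfShape_of_natIso e₂.symm
  haveI : G₁.Additive := inferInstance
  haveI hG₂add : G₂.Additive :=
    haveI := additive_Φ p' q' K₂
    Functor.additive_of_iso e₂.symm
  suffices hO : IsIso (τ.app (qO W)) from isIso_app_of_generator τ hO N
  haveI : (G₁.obj (qO W)).IsQuasicoherent := hqc _
  obtain ⟨K₁, hK₁, e, he⟩ := exists_kernel h' (G₁.obj (qO W)) (fun a => G₁.map (smulQ (qO W) a))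
    (by
      rw [← G₁.map_id]
      exact congrArg G₁.map (ObjectProperty.hom_ext _ (KLin.smulModΓ_one _)))
    (fun a b => by
      rw [← G₁.map_add]
      exact congrArg G₁.map (ObjectProperty.hom_ext _ (KLin.smulModΓ_add (Coh.structureModule W) a b)))
    (fun a b => by
      rw [← G₁.map_comp, mul_comm]
      exact congrArg G₁.map (ObjectProperty.hom_ext _ (KLin.smulModΓ_mul (Coh.structureModule W) b a)))
    (fun r => by
      refine Eq.trans ?_ (hR ((qcohPush f).obj (qO W)) r)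
      refine congrArg 𝔽.map (ObjectProperty.hom_ext _ ?_)
      exact pushforward_map_smulModΓ f _ (xX.appTop r))
  haveI : K₁.IsQuasicoherent := hK₁
  let P := Scheme.Modules.pushforward q'
  let Ω : ∀ K' : T'.Modules, (Φ p' q' K').obj (qO W) ≅ P.obj K' := fun K' => P.mapIso (ω p' K')
  have hωsmul : ∀ (K' : T'.Modules) (a : Γ(W, ⊤)), (Φ p' q' K').map (smulQ (qO W) a) ≫ (Ω K').hom =
      (Ω K').hom ≫ P.map (act p' K' a) := fun K' a =>
    ((P.map_comp _ _).symm.trans (congrArg P.map (ω_smul p' K' a))).trans (P.map_comp _ _)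
  let η₁ : G₁.obj (qO W) ⟶ (Φ p' q' K₁).obj (qO W) := e.hom ≫ (Ω K₁).inv
  have hη₁ : ∀ φ : qO W ⟶ qO W, G₁.map φ ≫ η₁ = η₁ ≫ (Φ p' q' K₁).map φ := fun φ => by
    obtain ⟨a, rfl⟩ := end_qO_eq_smulQ φ
    refine (cancel_mono (Ω K₁).hom).1 ?_
    simp only [η₁, Category.assoc]
    rw [hωsmul K₁ a, Iso.inv_hom_id_assoc, Iso.inv_hom_id, Category.comp_id]
    exact he a
  haveI := additive_Φ p' q' K₁
  haveI := (hfin K₁ inferInstance).1
  haveI := (hfin K₁ inferInstance).2
  obtain ⟨e₁, he₁⟩ := exists_natTrans_affine (G₁ := G₁) η₁ hη₁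
  have he₁O : IsIso (e₁.app (qO W)) := by rw [he₁]; infer_instance
  let η : P.obj K₁ ⟶ P.obj K₂ := e.inv ≫ τ.app (qO W) ≫ e₂.hom.app (qO W) ≫ (Ω K₂).hom
  have hη : ∀ a, P.map (act p' K₁ a) ≫ η = η ≫ P.map (act p' K₂ a) := fun a => by
    have e3 : P.map (act p' K₁ a) ≫ e.inv = e.inv ≫ G₁.map (smulQ (qO W) a) := by
      rw [Iso.eq_inv_comp, ← Category.assoc, Iso.comp_inv_eq]
      exact (he a).symm
    simp only [η, Category.assoc]
    rw [reassoc_of% e3, τ.naturality_assoc, e₂.hom.naturality_assoc, hωsmul K₂ a]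
  obtain ⟨ψ, hψ, -⟩ := existsUnique_of_equivariant h' K₁ K₂ η hη
  have hωψ : (ΦMap p' q' ψ).app (qO W) ≫ (Ω K₂).hom = (Ω K₁).hom ≫ P.map ψ :=
    ((P.map_comp _ _).symm.trans (congrArg P.map (ω_natural p' ψ))).trans (P.map_comp _ _)
  have hcomp : τ ≫ e₂.hom = e₁ ≫ ΦMap p' q' ψ := by
    refine natTrans_ext_affine ?_
    rw [NatTrans.comp_app, NatTrans.comp_app, he₁]
    refine (cancel_mono (Ω K₂).hom).1 ?_
    simp only [η₁, Category.assoc]
    rw [hωψ, Iso.inv_hom_id_assoc, hψ]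
    simp only [η, Iso.hom_inv_id_assoc]
  -- `ψ` is invertible over the preimage of every member of the cover
  haveI hψi : IsIso ψ := by
    refine OX.isIso_of_restrict_cover _ (fun i => p' ⁻¹ᵁ (f ⁻¹ᵁ (U i).1)) (fun z => hcov (f (p' z))) fun i => ?_
    let V := f ⁻¹ᵁ (U i).1
    have hV : IsAffineOpen V := (U i).2.preimage f
    haveI : IsAffine (V : Scheme.{u}) := hV
    haveI : IsAffineHom V.ι := by
      haveI : IsAffineHom (U i).1.ι :=
        haveI : IsAffine ((U i).1 : Scheme.{u}) := (U i).2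
        isAffineHom_of_affine_source xX (U i).1.ι
      exact isAffineHom_preimage_ι f (U i).1
    haveI : IsAffineHom (p' ⁻¹ᵁ V).ι := isAffineHom_preimage_ι p' V
    let M := (qcohPush V.ι).obj (qO (V : Scheme.{u}))
    have hsupp : Supp (U i).1 ((qcohPush f).obj M).obj :=
      (supp_pushforward (U i).1 ((Scheme.Modules.pushforward (f ∣_ (U i).1)).obj (Coh.structureModule (V : Scheme.{u})))).of_iso
        ((Scheme.Modules.pushforwardComp (f ∣_ (U i).1) (U i).1.ι).app _ ≪≫
          (Scheme.Modules.pushforwardCongr (morphismRestrict_ι f (U i).1)).app _ ≪≫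
          ((Scheme.Modules.pushforwardComp V.ι f).app _).symm)
    have hτM : IsIso (τ.app M) := ht i _ hsupp
    have he₁M : IsIso (e₁.app M) := isIso_app_of_generator e₁ he₁O M
    have hΦ : IsIso ((ΦMap p' q' ψ).app M) :=
      @IsIso.of_isIso_fac_left _ _ _ _ _ _ _ _ he₁M (IsIso.comp_isIso' hτM (inferInstanceAs (IsIso (e₂.hom.app M))))
        (NatTrans.congr_app hcomp M).symm
    have hpush : IsIso ((Scheme.Modules.pushforward ((p' ⁻¹ᵁ V).ι ≫ q')).map ((Scheme.Modules.pullback (p' ⁻¹ᵁ V).ι).map ψ)) :=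
      @IsIso.of_isIso_fac_left _ _ _ _ _ _ _ _ (inferInstanceAs (IsIso (θ p' q' V K₁).hom))
        (IsIso.comp_isIso' hΦ (inferInstanceAs (IsIso (θ p' q' V K₂).hom))) (θ_natural p' q' V ψ).symm
    haveI : ((Scheme.Modules.pullback (p' ⁻¹ᵁ V).ι).obj K₁).IsQuasicoherent := FittSheaf.isQuasicoherent_pullback _ _
    haveI : ((Scheme.Modules.pullback (p' ⁻¹ᵁ V).ι).obj K₂).IsQuasicoherent := FittSheaf.isQuasicoherent_pullback _ _
    haveI := isIso_of_isIso_push ((isPullback_morphismRestrict p' V).paste_vert h') _ hpush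
    exact (NatIso.isIso_map_iff (Scheme.Modules.restrictFunctorIsoPullback (p' ⁻¹ᵁ V).ι) ψ).2 this
  have hη' : IsIso η := hψ ▸ Functor.map_isIso P ψ
  haveI : IsIso (e₂.hom.app (qO W) ≫ (Ω K₂).hom) := inferInstance
  have h4 : IsIso (τ.app (qO W) ≫ e₂.hom.app (qO W) ≫ (Ω K₂).hom) :=
    @IsIso.of_isIso_comp_left _ _ _ _ _ e.inv _ inferInstance hη'
  exact @IsIso.of_isIso_comp_right _ _ _ _ _ (τ.app (qO W)) _ inferInstance h4

end GrothLib.FunMor20
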