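import Groth.Agent.Lib.OX.Tensor
import Mathlib.AlgebraicGeometry.Morphisms.Affine
import Mathlib.AlgebraicGeometry.PullbackCarrier

/-!
# Boxes of affine opens; isomorphisms of tensor products
-/

set_option autoImplicit false
set_option linter.style.haveILetI false

universe u

open CategoryTheory CategoryTheory.Limits AlgebraicGeometry Opposite TopologicalSpace

noncomputable section

namespace GrothLib.FunMor20

theorem isAffineOpen_box {T Y S : Scheme.{u}} [IsAffine S] (f : T ⟶ S) (g : Y ⟶ S) {U : T.Opens} (hU : IsAffineOpen U)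
    {V : Y.Opens} (hV : IsAffineOpen V) : IsAffineOpen (pullback.fst f g ⁻¹ᵁ U ⊓ pullback.snd f g ⁻¹ᵁ V) := by
  haveI : IsAffine (U : Scheme.{u}) := hU
  haveI : IsAffine (V : Scheme.{u}) := hV
  let m := pullback.map (U.ι ≫ f) (V.ι ≫ g) f g U.ι V.ι (𝟙 S) (Category.comp_id _) (Category.comp_id _)
  have hr : m.opensRange = pullback.fst f g ⁻¹ᵁ U ⊓ pullback.snd f g ⁻¹ᵁ V := by
    ext1
    rw [Scheme.Hom.coe_opensRange, Scheme.Pullback.range_map]
    simp
  rw [← hr]
  exact isAffineOpen_opensRange m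

/-- An isomorphism of tensor products. -/
def tensorModIso {X : Scheme.{u}} {A A' B B' : X.Modules} (a : A ≅ A') (b : B ≅ B') :
    CohB1.tensorMod A B ≅ CohB1.tensorMod A' B' :=
  ((DCoh.tensorBi (X := X)).mapIso a).app B ≪≫ ((DCoh.tensorBi (X := X)).obj A').mapIso b

end GrothLib.FunMor20
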