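import Groth.Agent.Lib.FunMor20.CohInd
import Groth.Agent.Lib.HomSh.Coherent

/-!
# Exactness of extensions from coherent to quasi-coherent modules
-/

set_option autoImplicit false
set_option linter.style.haveILetI false
set_option linter.unusedSectionVars false
set_option backward.isDefEq.respectTransparency.types false

universe u v' u'

open CategoryTheory CategoryTheory.Limits AlgebraicGeometry Opposite TopologicalSpace

noncomputable section

namespace GrothLib.FunMor20

variable {X Y : Scheme.{u}} [IsNoetherian X] [IsNoetherian Y]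

instance : (cohP X).ContainsZero where
  exists_zero := by
    obtain ⟨Z, hZ, hq⟩ := ObjectProperty.ContainsZero.exists_zero (P := QCohCat.isQCoh X)
    haveI : Coh.IsQCoh Z := hq
    refine ⟨Z, hZ, hq, ?_⟩
    haveI : Mono (0 : Z ⟶ Coh.structureModule X) := ⟨fun _ _ _ => hZ.eq_of_tgt _ _⟩
    exact QCoh.isFiniteType_of_mono (0 : Z ⟶ Coh.structureModule X) (HomSh.isCoh_structureModule X).2

instance : (cohP X).IsClosedUnderBinaryProducts :=
  ⟨by
    rintro Z ⟨p⟩
    let A := p.diag.obj ⟨WalkingPair.left⟩
    let B := p.diag.obj ⟨WalkingPair.right⟩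
    have hAB : Coh.IsCoh (A ⊞ B) := QCoh.isCoh_biprod' (p.prop_diag_obj _) (p.prop_diag_obj _)
    exact QCoh.isCoh_of_iso ((biprod.isoProd A B) ≪≫
      HasLimit.isoOfNatIso (diagramIsoPair p.diag).symm ≪≫ (limit.isLimit _).conePointUniqueUpToIso p.isLimit) hAB⟩

instance : (cohP X).IsClosedUnderFiniteProducts := ObjectProperty.IsClosedUnderFiniteProducts.mk'

instance : (cohι X).Additive := ⟨rfl⟩

theorem preservesKernel_cohι {a b : (cohP X).FullSubcategory} (f : a ⟶ b) :
    PreservesLimit (parallelPair f 0) (cohι X) := by
  haveI : PreservesLimit (parallelPair f 0) (cohι X ⋙ (QCohCat.isQCoh X).ι) :=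
    haveI := (cohP X).preservesKernels_ι f
    ‹PreservesLimit (parallelPair f 0) (cohP X).ι›
  exact preservesLimit_of_reflects_of_preserves (cohι X) (QCohCat.isQCoh X).ι

theorem preservesCokernel_cohι {a b : (cohP X).FullSubcategory} (f : a ⟶ b) :
    PreservesColimit (parallelPair f 0) (cohι X) := by
  haveI : PreservesColimit (parallelPair f 0) (cohι X ⋙ (QCohCat.isQCoh X).ι) :=
    haveI := (cohP X).preservesCokernels_ι f
    ‹PreservesColimit (parallelPair f 0) (cohP X).ι›
  exact preservesColimit_of_reflects_of_preserves (cohι X) (QCohCat.isQCoh X).ι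

theorem additive_of_preservesFiniteLimits_coh (F : (cohP X).FullSubcategory ⥤ (cohP Y).FullSubcategory)
    [PreservesFiniteLimits F] : F.Additive := by
  haveI : HasBinaryBiproducts (cohP X).FullSubcategory := HasBinaryBiproducts.of_hasBinaryProducts
  haveI : PreservesLimit (Functor.empty.{0} (cohP X).FullSubcategory) F := inferInstance
  haveI : F.PreservesZeroMorphisms := Functor.preservesZeroMorphisms_of_preserves_terminal_object (F := F)
  haveI : PreservesBinaryBiproducts F := preservesBinaryBiproducts_of_preservesBinaryProducts F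
  exact Functor.additive_of_preservesBinaryBiproducts F

theorem additive_of_preservesFiniteColimits_coh (F : (cohP X).FullSubcategory ⥤ (cohP Y).FullSubcategory)
    [PreservesFiniteColimits F] : F.Additive := by
  haveI : HasBinaryBiproducts (cohP X).FullSubcategory := HasBinaryBiproducts.of_hasBinaryProducts
  haveI : PreservesColimit (Functor.empty.{0} (cohP X).FullSubcategory) F := inferInstance
  haveI : F.PreservesZeroMorphisms := Functor.preservesZeroMorphisms_of_preserves_initial_object (F := F)
  haveI : PreservesBinaryBiproducts F := preservesBinaryBiproducts_of_preservesBinaryCoproducts F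
  exact Functor.additive_of_preservesBinaryBiproducts F

theorem preservesFiniteLimits_cohι : PreservesFiniteLimits (cohι X) :=
  haveI : ∀ {a b : (cohP X).FullSubcategory} (f : a ⟶ b), PreservesLimit (parallelPair f 0) (cohι X) :=
    fun f => preservesKernel_cohι f
  Functor.preservesFiniteLimits_of_preservesKernels _

theorem preservesFiniteColimits_cohι : PreservesFiniteColimits (cohι X) :=
  haveI : ∀ {a b : (cohP X).FullSubcategory} (f : a ⟶ b), PreservesColimit (parallelPair f 0) (cohι X) :=
    fun f => preservesCokernel_cohι f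
  Functor.preservesFiniteColimits_of_preservesCokernels _

theorem preservesFiniteLimits_comp_cohι (F : (cohP X).FullSubcategory ⥤ (cohP Y).FullSubcategory)
    [PreservesFiniteLimits F] : PreservesFiniteLimits (F ⋙ cohι Y) :=
  haveI := preservesFiniteLimits_cohι (X := Y)
  comp_preservesFiniteLimits F (cohι Y)

theorem preservesFiniteColimits_comp_cohι (F : (cohP X).FullSubcategory ⥤ (cohP Y).FullSubcategory)
    [PreservesFiniteColimits F] : PreservesFiniteColimits (F ⋙ cohι Y) :=
  haveI := preservesFiniteColimits_cohι (X := Y)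
  comp_preservesFiniteColimits F (cohι Y)

variable {B : Type u'} [Category.{v'} B] [Preadditive B] [HasFilteredColimitsOfSize.{u, u} B]

theorem preservesKernel_ind [AB5OfSize.{u, u} B] [HasFiniteLimits B] (E : QCohCat.QCoh X ⥤ B) [E.Additive]
    [PreservesFilteredColimitsOfSize.{u, u} E] [PreservesFiniteLimits (cohι X ⋙ E)]
    {M N : QCohCat.QCoh X} (f : M ⟶ N) : PreservesLimit (parallelPair f 0) E := by
  refine Ind.induction_on_morphisms.{u} (cohι X) (P := fun g => PreservesLimit (parallelPair g 0) E)
    (fun {a b} g => ?_) (fun φ c₁ c₂ h₁ h₂ f hf H => ?_) f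
  · haveI := preservesFiniteLimits_cohι (X := X)
    have hl := isLimitOfHasKernelOfPreservesLimit (cohι X) g
    exact preservesLimit_of_preserves_limit_cone hl
      ((isLimitMapConeForkEquiv' E (show (cohι X).map (kernel.ι g) ≫ (cohι X).map g = 0 by rw [← Functor.map_comp, kernel.condition, Functor.map_zero])).symm
        (isLimitOfHasKernelOfPreservesLimit (cohι X ⋙ E) g))
  · exact (Ind.preserves_of_colimit.{u} E φ h₁ h₂ f hf).1 (fun K _ _ _ => inferInstance) (fun K _ _ _ => inferInstance) H

theorem preservesCokernel_ind [HasFiniteColimits B] (E : QCohCat.QCoh X ⥤ B) [E.Additive]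
    [PreservesFilteredColimitsOfSize.{u, u} E] [PreservesFiniteColimits (cohι X ⋙ E)]
    {M N : QCohCat.QCoh X} (f : M ⟶ N) : PreservesColimit (parallelPair f 0) E := by
  refine Ind.induction_on_morphisms.{u} (cohι X) (P := fun g => PreservesColimit (parallelPair g 0) E)
    (fun {a b} g => ?_) (fun φ c₁ c₂ h₁ h₂ f hf H => ?_) f
  · haveI := preservesFiniteColimits_cohι (X := X)
    have hl := isColimitOfHasCokernelOfPreservesColimit (cohι X) g
    exact preservesColimit_of_preserves_colimit_cocone hl
      ((isColimitMapCoconeCoforkEquiv' E (show (cohι X).map g ≫ (cohι X).map (cokernel.π g) = 0 by rw [← Functor.map_comp, cokernel.condition, Functor.map_zero])).symm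
        (isColimitOfHasCokernelOfPreservesColimit (cohι X ⋙ E) g))
  · exact (Ind.preserves_of_colimit.{u} E φ h₁ h₂ f hf).2 H

end GrothLib.FunMor20
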