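import Groth.Agent.Lib.FunMor20.FlatKernel
import Groth.Agent.Lib.FunMor20.Compose
import Groth.Agent.Lib.FunMor20.Functors
import Groth.Agent.Lib.FunMor20.FMNat
import Groth.Agent.Lib.FunMor20.Cover
import Groth.Agent.Lib.RelVanish.Basic
import Groth.Agent.Lib.ModDesc.Basic

/-!
# An exact functor is the transform of a flat acyclic kernel
-/

set_option autoImplicit false
set_option linter.style.haveILetI false
set_option linter.style.longLine false
set_option maxHeartbeats 1000000
set_option backward.isDefEq.respectTransparency.types false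

universe u

open CategoryTheory CategoryTheory.Limits AlgebraicGeometry Opposite TopologicalSpace Abelian

noncomputable section

namespace GrothLib.FunMor20

theorem subsingleton_ext_one_of_seq {T' : Type u} [TopologicalSpace T'] {S : ShortComplex (Cohom.AbSheaf T')}
    (hS : S.ShortExact) (U : Opens T') (h₂ : Subsingleton (Ext.{u} (Cohom.freeFun.obj U) S.X₂ 1))
    (hsurj : Function.Surjective (S.g.hom.app (op U))) :
    Subsingleton (Ext.{u} (Cohom.freeFun.obj U) S.X₁ 1) := by
  refine subsingleton_of_forall_eq 0 fun x => ?_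
  obtain ⟨x₃, rfl⟩ := Ext.covariant_sequence_exact₁ _ hS x (Subsingleton.elim _ _) rfl
  obtain ⟨b, hb⟩ := hsurj (Cohom.H0Equiv _ U x₃)
  have hx₃ : x₃ = ((Cohom.H0Equiv _ U).symm b).comp (Ext.mk₀ S.g) (add_zero 0) := by
    apply (Cohom.H0Equiv _ U).injective
    rw [Cohom.H0Equiv_comp_mk₀, AddEquiv.apply_symm_apply]
    exact hb.symm
  rw [hx₃, Ext.comp_assoc_of_second_deg_zero, hS.comp_extClass, Ext.comp_zero]

theorem subsingleton_ext_succ_of_seq {T' : Type u} [TopologicalSpace T'] {S : ShortComplex (Cohom.AbSheaf T')}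
    (hS : S.ShortExact) (U : Opens T') (n : ℕ) (h₂ : Subsingleton (Ext.{u} (Cohom.freeFun.obj U) S.X₂ (n + 1)))
    (h₃ : Subsingleton (Ext.{u} (Cohom.freeFun.obj U) S.X₃ n)) :
    Subsingleton (Ext.{u} (Cohom.freeFun.obj U) S.X₁ (n + 1)) := by
  refine subsingleton_of_forall_eq 0 fun x => ?_
  obtain ⟨x₃, rfl⟩ := Ext.covariant_sequence_exact₁ _ hS x (Subsingleton.elim _ _) rfl
  rw [Subsingleton.elim x₃ 0, Ext.zero_comp]

variable {X Y S T : Scheme.{u}} [IsAffine S] {xX : X ⟶ S} [IsAffineHom (pullback.diagonal xX)] {y : Y ⟶ S}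
  {pT : T ⟶ X} {qT : T ⟶ Y} (h : IsPullback pT qT xX y)
  (𝔽 : QCohCat.QCoh X ⥤ Y.Modules) (K : T.Modules) [K.IsQuasicoherent] (t : 𝔽 ⟶ Φ pT qT K)
  (ht : ∀ (W : Scheme.{u}) [IsAffine W] (f : W ⟶ X) [IsAffineHom f] (N : QCohCat.QCoh W), IsIso (t.app ((qcohPush f).obj N)))

include h ht in
/-- The kernel of an exact functor is flat. -/
theorem isFlatOver_kernel [PreservesFiniteLimits 𝔽] : FlatMod.IsFlatOver pT K := by
  intro z
  obtain ⟨U, hU, hzU, -⟩ := exists_isAffineOpen_mem_and_subset (x := pT z) (U := (⊤ : X.Opens)) trivial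
  let A := Γ(X, U)
  let f : Spec A ⟶ X := hU.fromSpec
  haveI : IsAffineHom f := isAffineHom_of_affine_source xX f
  let T' := pullback f pT
  let p' := pullback.fst f pT
  let g := pullback.snd f pT
  let q' := g ≫ qT
  have hsq : IsPullback p' g f pT := IsPullback.of_hasPullback f pT
  have h' : IsPullback p' q' (f ≫ xX) y := hsq.paste_vert h
  let K₂ := (Scheme.Modules.pullback g).obj K
  haveI : K₂.IsQuasicoherent := FittSheaf.isQuasicoherent_pullback g K
  let G₂ := qcohPush f ⋙ Φ pT qT K
  let e₂ : G₂ ≅ Φ p' q' K₂ :=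
    Functor.isoWhiskerRight (pushSquareIso hsq K) (Scheme.Modules.pushforward qT) ≪≫
      Functor.isoWhiskerLeft (preFM p' K₂) (Scheme.Modules.pushforwardComp g qT)
  obtain ⟨z', hz'⟩ : ∃ z', g z' = z := by
    obtain ⟨w, hw⟩ : ∃ w, f w = pT z := by
      rw [← Set.mem_range, IsAffineOpen.range_fromSpec]
      exact hzU
    obtain ⟨z', -, hz'⟩ := Scheme.Pullback.exists_preimage_pullback w z hw
    exact ⟨z', hz'⟩
  have hflat : FlatMod.IsFlatOverAt p' K₂ z' := by
    refine isFlatOverAt_of_mono p' K₂ (fun I => ?_) z'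
    let b := ModuleCat.ofHom I.subtype
    let MI : QCohCat.QCoh (Spec A) := ⟨tilde (ModuleCat.of A I), (inferInstance : (tilde (ModuleCat.of A I)).IsQuasicoherent)⟩
    let MA : QCohCat.QCoh (Spec A) := ⟨tilde (ModuleCat.of A A), (inferInstance : (tilde (ModuleCat.of A A)).IsQuasicoherent)⟩
    let a : MI ⟶ MA := ObjectProperty.homMk ((tilde.functor A).map b)
    haveI hm0 : Mono ((tilde.functor A).map b) := by
      haveI : Mono b := (ModuleCat.mono_iff_injective _).2 Subtype.val_injective
      haveI : (tilde.functor A).PreservesMonomorphisms := inferInstance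
      exact (tilde.functor A).map_mono b
    haveI : Mono ((qcohPush f).map a).hom := by
      haveI : PreservesLimitsOfSize.{0, 0} (Scheme.Modules.pushforward f) :=
        (Scheme.Modules.pullbackPushforwardAdjunction f).rightAdjoint_preservesLimits
      exact (Scheme.Modules.pushforward f).map_mono ((tilde.functor A).map b)
    haveI : Mono ((qcohPush f).map a) := (ObjectProperty.ι (QCohCat.isQCoh X)).mono_of_mono_map
      (show Mono ((qcohPush f).map a).hom from inferInstance)
    haveI : Mono (𝔽.map ((qcohPush f).map a)) := inferInstance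
    have h1 : Mono (G₂.map a) :=
      haveI := ht (Spec A) f MI
      haveI := ht (Spec A) f MA
      ((MorphismProperty.monomorphisms _).arrow_mk_iso_iff
        (Arrow.isoMk (asIso (t.app ((qcohPush f).obj MI))) (asIso (t.app ((qcohPush f).obj MA)))
          (t.naturality ((qcohPush f).map a)).symm)).1 ‹_›
    have h2 : Mono ((Φ p' q' K₂).map a) :=
      ((MorphismProperty.monomorphisms _).arrow_mk_iso_iff
        (Arrow.isoMk (e₂.app MI) (e₂.app MA) (e₂.hom.naturality a).symm)).1 h1
    haveI : ((preFM p' K₂).obj MI).IsQuasicoherent := qcoh_preFM p' K₂ inferInstance MI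
    haveI : ((preFM p' K₂).obj MA).IsQuasicoherent := qcoh_preFM p' K₂ inferInstance MA
    exact mono_of_mono_push h' ((preFM p' K₂).map a) h2
  haveI : IsOpenImmersion g := MorphismProperty.pullback_snd (P := @IsOpenImmersion) f pT inferInstance
  have hfl : ∀ {P Q : Scheme.{u}} (j : P ⟶ Q) [IsOpenImmersion j] (w : P), (j.stalkMap w).hom.Flat := fun j _ w =>
    RingHom.Flat.of_bijective (ConcreteCategory.bijective_of_isIso (j.stalkMap w))
  have h3 := FunFlat6.isFlatOverAt_comp' p' f K₂ z' (hfl f _) hflat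
  have h4 : FlatMod.IsFlatOverAt (g ≫ pT) K₂ z' := (FunFlat6.isFlatOverAt_congr_map hsq.w K₂ z').1 h3
  rw [← hz']
  exact (FunFlat6.isFlatOverAt_comp_pullback_iff' g pT K z' (hfl g z')).1 h4

include h in
/-- Transforms of direct images from affine schemes are acyclic. -/
theorem subsingleton_ext_affinePush {W : Scheme.{u}} [IsAffine W] (f : W ⟶ X) [IsAffineHom f]
    (N : QCohCat.QCoh W) {V : Y.Opens} (hV : IsAffineOpen V) (n : ℕ) :
    Subsingleton (Ext.{u} (Cohom.freeFun.obj (qT ⁻¹ᵁ V))
      (Coh.toAb ((preFM pT K).obj ((qcohPush f).obj N))) (n + 1)) := by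
  let p' := pullback.fst f pT
  let g := pullback.snd f pT
  have hsq : IsPullback p' g f pT := IsPullback.of_hasPullback f pT
  have h' : IsPullback p' (g ≫ qT) (f ≫ xX) y := hsq.paste_vert h
  haveI := isAffineHom_snd h'
  haveI : IsAffineHom g := MorphismProperty.of_isPullback hsq ‹IsAffineHom f›
  let E := (preFM p' ((Scheme.Modules.pullback g).obj K)).obj N
  haveI : E.IsQuasicoherent := qcoh_preFM p' _ (FittSheaf.isQuasicoherent_pullback g K) N
  obtain ⟨e⟩ := Cohom.nonempty_ext_preimage_equiv g E (qT ⁻¹ᵁ V) (n + 1)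
  let e₃ := ((extFunctorObj.{u} (Cohom.freeFun.obj (qT ⁻¹ᵁ V)) (n + 1)).mapIso
    ((QCoh.toAbFun T).mapIso ((pushSquareIso hsq K).app N))).addCommGroupIsoToAddEquiv
  haveI := Cohom.subsingleton_ext_freeFun_of_isAffineOpen (hV.preimage (g ≫ qT)) E n
  exact @Equiv.subsingleton _ _ (e₃.trans e.symm).toEquiv
    (Cohom.subsingleton_ext_freeFun_of_isAffineOpen (hV.preimage (g ≫ qT)) E n)

/-- Every quasi-coherent module embeds into a direct image from an affine scheme. -/
theorem exists_cogenerator [CompactSpace X] (xX : X ⟶ S) [IsAffineHom (pullback.diagonal xX)] (M : QCohCat.QCoh X) :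
    ∃ (W : Scheme.{u}) (_ : IsAffine W) (f : W ⟶ X) (_ : IsAffineHom f) (N : QCohCat.QCoh W)
      (m : M ⟶ (qcohPush f).obj N), Mono m := by
  obtain ⟨W, hW, f, hf, hm⟩ := exists_affine_cover xX
  haveI : M.obj.IsQuasicoherent := M.property
  let N : QCohCat.QCoh W := ⟨(Scheme.Modules.pullback f).obj M.obj, FittSheaf.isQuasicoherent_pullback f M.obj⟩
  let m : M ⟶ (qcohPush f).obj N :=
    ObjectProperty.homMk ((Scheme.Modules.pullbackPushforwardAdjunction f).unit.app M.obj)
  exact ⟨W, hW, f, hf, N, m, (ObjectProperty.ι (QCohCat.isQCoh X)).mono_of_mono_map (hm M.obj)⟩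

variable [CompactSpace X] [PreservesFiniteLimits 𝔽] [𝔽.PreservesZeroMorphisms]

include h ht in
/-- The transformation is invertible. -/
theorem isIso_of_affinePush : IsIso t := by
  have hK := isFlatOver_kernel h 𝔽 K t ht
  haveI := (exact_preFM pT K hK).1
  haveI : PreservesFiniteLimits (Φ pT qT K) := preservesFiniteLimits_comp_push (preFM pT K) qT
  haveI : (Φ pT qT K).Additive := additive_Φ pT qT K
  haveI : ∀ M, IsIso (t.app M) := fun M => isIso_app_of_cogenerators t (fun N => by
    obtain ⟨W, hW, f, hf, N₀, m, hm⟩ := exists_cogenerator xX N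
    exact ⟨_, m, hm, ht W f N₀⟩) M
  exact NatIso.isIso_of_isIso_app t

variable [PreservesFiniteColimits 𝔽] [QuasiCompact qT] [QuasiSeparated qT] [HasInjectiveResolutions T.Modules]

include h ht in
/-- Cohomology over preimages of affines vanishes. -/
theorem subsingleton_ext_kernel {V : Y.Opens} (hV : IsAffineOpen V) (n : ℕ) (M : QCohCat.QCoh X) :
    Subsingleton (Ext.{u} (Cohom.freeFun.obj (qT ⁻¹ᵁ V)) (Coh.toAb ((preFM pT K).obj M)) (n + 1)) := by
  have hK := isFlatOver_kernel h 𝔽 K t ht
  haveI := isIso_of_affinePush h 𝔽 K t ht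
  haveI := (exact_preFM pT K hK).1
  haveI := (exact_preFM pT K hK).2
  let G := preFM pT K
  haveI : ∀ M, (G.obj M).IsQuasicoherent := qcoh_preFM pT K inferInstance
  revert M
  induction n with
  | zero =>
    intro M
    obtain ⟨W, hW, f, hf, N₀, m, hm⟩ := exists_cogenerator xX M
    let S₁ : ShortComplex (QCohCat.QCoh X) := ShortComplex.mk m (cokernel.π m) (cokernel.condition m)
    haveI : Mono S₁.f := hm
    have hS : S₁.ShortExact := { exact := ShortComplex.exact_of_g_is_cokernel _ (cokernelIsCokernel m) }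
    have hSG := hS.map_of_exact G
    have hST := QCoh.toAbFun_map_shortExact _ hSG
    haveI : PreservesFiniteLimits (Φ pT qT K) := preservesFiniteLimits_comp_push (preFM pT K) qT
    haveI : Epi ((Φ pT qT K).map S₁.g) := by
      haveI : Epi (𝔽.map S₁.g) := by
        haveI : Epi S₁.g := inferInstanceAs (Epi (cokernel.π m))
        infer_instance
      exact ((MorphismProperty.epimorphisms _).arrow_mk_iso_iff
        (Arrow.isoMk (asIso (t.app S₁.X₂)) (asIso (t.app S₁.X₃)) (t.naturality S₁.g).symm)).1 ‹_›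
    haveI : ((Φ pT qT K).obj S₁.X₂).IsQuasicoherent := QCoh.isQuasicoherent_pushforward qT (G.obj S₁.X₂)
    haveI : ((Φ pT qT K).obj S₁.X₃).IsQuasicoherent := QCoh.isQuasicoherent_pushforward qT (G.obj S₁.X₃)
    have hsurj : Function.Surjective (((Φ pT qT K).map S₁.g).app V) :=
      ModDesc.app_surjective_of_epi _ hV
    exact subsingleton_ext_one_of_seq hST _ (subsingleton_ext_affinePush h K f N₀ hV 0) hsurj
  | succ n ih =>
    intro M
    obtain ⟨W, hW, f, hf, N₀, m, hm⟩ := exists_cogenerator xX M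
    let S₁ : ShortComplex (QCohCat.QCoh X) := ShortComplex.mk m (cokernel.π m) (cokernel.condition m)
    haveI : Mono S₁.f := hm
    have hS : S₁.ShortExact := { exact := ShortComplex.exact_of_g_is_cokernel _ (cokernelIsCokernel m) }
    have hST := QCoh.toAbFun_map_shortExact _ (hS.map_of_exact G)
    exact subsingleton_ext_succ_of_seq hST _ (n + 1) (subsingleton_ext_affinePush h K f N₀ hV (n + 1)) (ih S₁.X₃)

include h ht in
/-- The higher direct images vanish. -/
theorem isZero_Rpush_kernel (M : QCohCat.QCoh X) (n : ℕ) :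
    IsZero ((Coh.Rpush qT (n + 1)).obj ((preFM pT K).obj M)) :=
  haveI : ((preFM pT K).obj M).IsQuasicoherent := qcoh_preFM pT K inferInstance M
  RelVanish.isZero_Rpush_of_cover qT _ (n + 1) (fun V : Y.affineOpens => V.1) (fun V => V.2)
    (fun y => by
      obtain ⟨V, hV, hy, -⟩ := exists_isAffineOpen_mem_and_subset (x := y) (U := (⊤ : Y.Opens)) trivial
      exact ⟨⟨V, hV⟩, hy⟩)
    fun V => subsingleton_ext_kernel h 𝔽 K t ht V.2 n M

end GrothLib.FunMor20
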