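import Groth.Agent.Lib.FunMor20.KernelCoh
import Groth.Agent.Lib.AssPts.Points
import Groth.Agent.Lib.QCoh.SupportPullback
import Mathlib.AlgebraicGeometry.ZariskisMainTheorem
import Mathlib.LinearAlgebra.Dimension.Finite

/-!
# The support of the kernel is quasi-finite over the target
-/

set_option autoImplicit false
set_option linter.style.haveILetI false
set_option linter.style.longLine false
set_option maxHeartbeats 1000000
set_option backward.isDefEq.respectTransparency.types false

universe u

open CategoryTheory CategoryTheory.Limits AlgebraicGeometry Opposite TopologicalSpace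

noncomputable section

namespace GrothLib.FunMor20

/-- A finite module has no more closed points in its support over a maximal ideal of the base than generators. -/
theorem card_le_of_generators {B R G : Type u} [CommRing B] [CommRing R] [Algebra B R] [AddCommGroup G]
    [Module B G] [Module R G] [IsScalarTower B R G] [Module.Finite R G] (n : Ideal B) [n.IsMaximal]
    {N : ℕ} (gen : Fin N → G) (hgen : Submodule.span B (Set.range gen) = ⊤)
    (s : Finset (PrimeSpectrum R)) (hmax : ∀ m ∈ s, m.asIdeal.IsMaximal)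
    (hn : ∀ m ∈ s, m.asIdeal.comap (algebraMap B R) = n) (hsupp : ∀ m ∈ s, m ∈ Module.support R G) :
    s.card ≤ N := by
  classical
  let S : Submodule B G := n • ⊤
  let _ : Field (B ⧸ n) := Ideal.Quotient.field n
  have hne : ∀ m ∈ s, ∃ v : G, v ∉ (m.asIdeal • (⊤ : Submodule R G)) := fun m hm => by
    have h1 : m ∈ Module.support R (G ⧸ (m.asIdeal • ⊤ : Submodule R G)) := by
      rw [Module.support_quotient]
      exact ⟨hsupp m hm, (PrimeSpectrum.mem_zeroLocus _ _).2 le_rfl⟩
    by_contra hv
    push Not at hv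
    haveI : Subsingleton (G ⧸ (m.asIdeal • ⊤ : Submodule R G)) :=
      Submodule.Quotient.subsingleton_iff.2 (Submodule.eq_top_iff'.2 hv)
    rw [Module.support_eq_empty] at h1
    exact h1.elim
  choose v hv using fun m : s => hne m.1 m.2
  have he : ∀ m : s, ∃ e : R, e - 1 ∈ m.1.asIdeal ∧ ∀ m' : s, m' ≠ m → e ∈ m'.1.asIdeal := fun m => by
    haveI := hmax _ m.2
    have hco : ∀ m' ∈ Finset.univ.erase m, ∃ a ∈ (m' : s).1.asIdeal, a ∉ m.1.asIdeal := fun m' hm' => by
      by_contra hc
      push Not at hc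
      have := (hmax _ m'.2).eq_of_le (Ideal.IsMaximal.ne_top ‹_›) hc
      exact (Finset.mem_erase.1 hm').1 (Subtype.ext (PrimeSpectrum.ext this))
    choose! a ha ha' using hco
    let b := ∏ m' ∈ Finset.univ.erase m, a m'
    have hb : b ∉ m.1.asIdeal := fun hb => by
      obtain ⟨m', hm', h⟩ := (Ideal.IsPrime.prod_mem_iff (hp := m.1.isPrime)).1 hb
      exact ha' m' hm' h
    obtain ⟨c, i, hi, hci⟩ := (Ideal.IsMaximal.exists_inv (I := m.1.asIdeal) inferInstance hb)
    refine ⟨c * b, ?_, fun m' hm' => ?_⟩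
    · rw [← hci, sub_add_eq_sub_sub, sub_self, zero_sub]
      exact neg_mem hi
    · obtain ⟨d, hd⟩ := Finset.dvd_prod_of_mem a (Finset.mem_erase.2 ⟨hm', Finset.mem_univ _⟩)
      refine Ideal.mul_mem_left _ c ?_
      simp only [b]
      rw [hd]
      exact Ideal.mul_mem_right d _ (ha m' (Finset.mem_erase.2 ⟨hm', Finset.mem_univ _⟩))
  choose e he₁ he₂ using he
  let w : s → G ⧸ S := fun m => Submodule.Quotient.mk (e m • v m)
  have hS : ∀ m : s, ∀ x ∈ S, x ∈ m.1.asIdeal • (⊤ : Submodule R G) := fun m x hx => by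
    refine Submodule.smul_induction_on hx (fun b hb y _ => ?_) fun x y hx hy => add_mem hx hy
    rw [← algebraMap_smul R b y]
    refine Submodule.smul_mem_smul ?_ trivial
    rw [← Ideal.mem_comap, hn _ m.2]
    exact hb
  have hli : LinearIndependent (B ⧸ n) w := by
    rw [Fintype.linearIndependent_iff]
    intro c hc m
    obtain ⟨d, hd⟩ : ∃ d : s → B, ∀ i, Ideal.Quotient.mk n (d i) = c i :=
      ⟨fun i => Function.surjInv Ideal.Quotient.mk_surjective (c i), fun i => Function.surjInv_eq _ _⟩
    have hsum : ∑ i, d i • e i • v i ∈ S := by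
      rw [← Submodule.Quotient.mk_eq_zero, ← Submodule.mkQ_apply, map_sum, ← hc]
      refine Finset.sum_congr rfl fun i _ => ?_
      rw [map_smul, ← hd i]
      rfl
    by_contra hcm
    have hdm : algebraMap B R (d m) ∉ m.1.asIdeal := fun h => by
      rw [← Ideal.mem_comap, hn _ m.2] at h
      exact hcm (by rw [← hd m]; exact Ideal.Quotient.eq_zero_iff_mem.2 h)
    let J := m.1.asIdeal • (⊤ : Submodule R G)
    have hm' : d m • e m • v m ∈ J := by
      have h1 := hS m _ hsum
      rw [← Finset.add_sum_erase _ _ (Finset.mem_univ m)] at h1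
      refine (J.add_mem_iff_left (J.sum_mem fun i hi => ?_)).1 h1
      rw [← algebraMap_smul R (d i), smul_smul]
      exact Submodule.smul_mem_smul (Ideal.mul_mem_left _ _ (he₂ i m (Finset.mem_erase.1 hi).1.symm)) trivial
    have hm'' : algebraMap B R (d m) • v m ∈ J := by
      rw [← algebraMap_smul R (d m)] at hm'
      have h2 : (algebraMap B R (d m) * (e m - 1)) • v m ∈ J :=
        Submodule.smul_mem_smul (Ideal.mul_mem_left _ _ (he₁ m)) trivial
      have h3 := J.sub_mem hm' h2
      rw [smul_smul, ← sub_smul] at h3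
      convert h3 using 2
      ring
    haveI := hmax _ m.2
    obtain ⟨a, i, hi, hai⟩ := Ideal.IsMaximal.exists_inv (I := m.1.asIdeal) inferInstance hdm
    apply hv m
    rw [← one_smul R (v m), ← hai, add_smul, mul_smul]
    exact J.add_mem (J.smul_mem a hm'') (Submodule.smul_mem_smul hi trivial)
  let gen' : Fin N → G ⧸ S := fun i => Submodule.Quotient.mk (gen i)
  have hspan : Submodule.span (B ⧸ n) (Set.range gen') = ⊤ := by
    refine Submodule.eq_top_iff'.2 fun q => ?_
    obtain ⟨x, rfl⟩ := Submodule.Quotient.mk_surjective _ q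
    have hx : x ∈ Submodule.span B (Set.range gen) := hgen ▸ trivial
    induction hx using Submodule.span_induction with
    | mem y hy => obtain ⟨i, rfl⟩ := hy; exact Submodule.subset_span ⟨i, rfl⟩
    | zero => exact zero_mem _
    | add y z _ _ hy hz => exact add_mem hy hz
    | smul b y _ hy =>
      have h1 := Submodule.smul_mem _ (Ideal.Quotient.mk n b) hy
      exact h1
  haveI : Module.Finite (B ⧸ n) (G ⧸ S) := Module.Finite.of_fg_top ⟨Finset.univ.image gen', by simpa using hspan⟩
  calc s.card = Fintype.card s := (Fintype.card_coe s).symm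
    _ ≤ Module.finrank (B ⧸ n) (G ⧸ S) := hli.fintype_card_le_finrank
    _ ≤ N := by
      rw [← finrank_top, ← hspan]
      exact (finrank_range_le_card gen').trans (Fintype.card_fin N).le

section Geometry

variable {X Y S T : Scheme.{u}} [IsAffine S] [IsLocallyArtinian S] {xX : X ⟶ S} [IsSeparated xX] [LocallyOfFiniteType xX]
  {y : Y ⟶ S} [LocallyOfFiniteType y]
  {pT : T ⟶ X} {qT : T ⟶ Y} (h : IsPullback pT qT xX y) (K : T.Modules)

/-- The hypothesis: the transform is exact on quotients supported on finite subschemes. -/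
def RestrictsEpi (pT : T ⟶ X) (qT : T ⟶ Y) (K : T.Modules) : Prop :=
  ∀ (X₀ : Scheme.{u}) (i : X₀ ⟶ X) [IsClosedImmersion i],
    ∃ φ : (Scheme.Modules.pushforward qT).obj K ⟶
      (Scheme.Modules.pushforward (pullback.snd i pT ≫ qT)).obj ((Scheme.Modules.pullback (pullback.snd i pT)).obj K), Epi φ

include h in
theorem card_closed_points_le (hK : Coh.IsCoh K) (hepi : RestrictsEpi pT qT K) {V : Y.Opens} (hV : IsAffineOpen V)
    {N : ℕ} (gen : Fin N → Γ((Scheme.Modules.pushforward qT).obj K, V)) (hgen : Submodule.span Γ(Y, V) (Set.range gen) = ⊤)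
    [QuasiCompact qT] [QuasiSeparated qT]
    {y₀ : Y} (hy₀ : IsClosed {y₀}) (hyV : y₀ ∈ V) (F : Finset T)
    (hF : ∀ z ∈ F, IsClosed {z} ∧ qT z = y₀ ∧ z ∈ CohB1.support K) : F.card ≤ N := by
  classical
  haveI : K.IsQuasicoherent := hK.1
  haveI : LocallyOfFiniteType pT := MorphismProperty.of_isPullback h.flip ‹LocallyOfFiniteType y›
  haveI : JacobsonSpace S := inferInstance
  haveI : JacobsonSpace X := LocallyOfFiniteType.jacobsonSpace xX
  haveI : JacobsonSpace T := LocallyOfFiniteType.jacobsonSpace (pT ≫ xX)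
  have hclosed : IsClosed ((F.image fun z => pT z : Finset X) : Set X) := by
    rw [← Set.biUnion_of_singleton ((F.image fun z => pT z : Finset X) : Set X)]
    refine (Finset.finite_toSet _).isClosed_biUnion fun x hx => ?_
    obtain ⟨z, hz, rfl⟩ := Finset.mem_image.1 hx
    exact (mem_closedPoints_iff).1 (pT.closePoints_subset_preimage_closedPoints ((mem_closedPoints_iff).2 (hF z hz).1))
  let I := Scheme.IdealSheafData.vanishingIdeal ⟨_, hclosed⟩
  let i := I.subschemeι
  have hrange : Set.range i = ((F.image fun z => pT z : Finset X) : Set X) := by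
    rw [Scheme.IdealSheafData.range_subschemeι]
    simp [I]
  haveI : Finite I.subscheme := by
    have : (Set.range i).Finite := hrange ▸ Finset.finite_toSet _
    haveI := this.to_subtype
    exact Finite.of_injective ((Set.rangeFactorization i)) fun a b hab =>
      i.isClosedEmbedding.injective (by simpa [Set.rangeFactorization] using congrArg (fun t : Set.range i => (t : X)) hab)
  haveI : LocallyQuasiFinite (i ≫ xX) := .of_finite_preimage_singleton _ fun _ => Set.toFinite _
  haveI : QuasiCompact (i ≫ xX) := quasiCompact_iff_compactSpace _ |>.2 inferInstance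
  haveI : IsFinite (i ≫ xX) := .of_locallyQuasiFinite _
  let g := pullback.snd i pT
  have hsq : IsPullback (pullback.fst i pT) g i pT := IsPullback.of_hasPullback i pT
  have h' : IsPullback (pullback.fst i pT) (g ≫ qT) (i ≫ xX) y := hsq.paste_vert h
  haveI : IsFinite (g ≫ qT) := MorphismProperty.of_isPullback h' ‹IsFinite (i ≫ xX)›
  haveI : IsClosedImmersion g := MorphismProperty.of_isPullback hsq (inferInstanceAs (IsClosedImmersion i))
  obtain ⟨φ, hφ⟩ := hepi I.subscheme i
  let K₀ := (Scheme.Modules.pullback g).obj K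
  have hK₀ : Coh.IsCoh K₀ := ModDesc.isCoh_pullback g K hK
  haveI : K₀.IsQuasicoherent := hK₀.1
  let W := (g ≫ qT) ⁻¹ᵁ V
  have hW : IsAffineOpen W := hV.preimage (g ≫ qT)
  let M₀ := (Scheme.Modules.pushforward (g ≫ qT)).obj K₀
  haveI : M₀.IsQuasicoherent := QCoh.isQuasicoherent_pushforward (g ≫ qT) K₀
  haveI : ((Scheme.Modules.pushforward qT).obj K).IsQuasicoherent := QCoh.isQuasicoherent_pushforward qT K
  haveI := hφ
  let R := Γ(pullback i pT, W)
  letI : Algebra Γ(Y, V) R := ((g ≫ qT).app V).hom.toAlgebra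
  letI : Module Γ(Y, V) Γ(K₀, W) := Module.compHom _ ((g ≫ qT).app V).hom
  haveI : IsScalarTower Γ(Y, V) R Γ(K₀, W) := IsScalarTower.of_algebraMap_smul fun _ _ => rfl
  haveI : Module.Finite R Γ(K₀, W) := QCoh.moduleFinite_of_isFiniteType K₀ hK₀.2 hW
  let L : Γ((Scheme.Modules.pushforward qT).obj K, V) →ₗ[Γ(Y, V)] Γ(K₀, W) :=
    { toFun := QCoh.appLinear φ V
      map_add' := fun a b => (QCoh.appLinear φ V).map_add a b
      map_smul' := fun a b => (QCoh.appLinear φ V).map_smul a b }
  have hL : Function.Surjective L := ModDesc.app_surjective_of_epi φ hV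
  have hgen' : Submodule.span Γ(Y, V) (Set.range (L ∘ gen)) = ⊤ := by
    rw [Set.range_comp, Submodule.span_image, hgen, Submodule.map_top, LinearMap.range_eq_top.2 hL]
  have hlift : ∀ z ∈ F, ∃ z', g z' = z := fun z hz => by
    obtain ⟨w, hw⟩ : pT z ∈ Set.range i := hrange ▸ Finset.mem_coe.2 (Finset.mem_image.2 ⟨z, hz, rfl⟩)
    obtain ⟨z', -, hz'⟩ := Scheme.Pullback.exists_preimage_pullback w z hw
    exact ⟨z', hz'⟩
  choose z' hz' using hlift
  have hzW : ∀ z (hz : z ∈ F), z' z hz ∈ W := fun z hz => by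
    show (g ≫ qT) (z' z hz) ∈ V
    rw [Scheme.Hom.comp_apply, hz', (hF z hz).2.1]
    exact hyV
  let pr : F → PrimeSpectrum R := fun z => ⟨WeakAss.primeAt (z' z.1 z.2) (hzW z.1 z.2), inferInstance⟩
  have hpr : Function.Injective pr := fun a b hab => by
    refine Subtype.ext ?_
    rw [← hz' a.1 a.2, ← hz' b.1 b.2]
    exact congrArg g (AssPts.primeAt_injective hW _ _ (congrArg PrimeSpectrum.asIdeal hab))
  haveI : (WeakAss.primeAt y₀ hyV).IsMaximal := by
    obtain ⟨q, hq⟩ : y₀ ∈ Set.range hV.fromSpec := hV.range_fromSpec.symm ▸ hyV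
    subst hq
    rw [WeakAss.primeAt_fromSpec hV]
    refine (PrimeSpectrum.isClosed_singleton_iff_isMaximal q).1 ?_
    have : hV.fromSpec ⁻¹' {hV.fromSpec q} = {q} := Set.ext fun r => hV.fromSpec.isOpenEmbedding.injective.eq_iff
    exact this ▸ hy₀.preimage hV.fromSpec.continuous
  rw [← Fintype.card_coe F, ← Finset.card_univ, ← Finset.card_image_of_injective _ hpr]
  refine card_le_of_generators (WeakAss.primeAt y₀ hyV) (L ∘ gen) hgen' _ (fun m hm => ?_) (fun m hm => ?_) fun m hm => ?_
  all_goals obtain ⟨z, -, rfl⟩ := Finset.mem_image.1 hm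
  · obtain ⟨q, hq⟩ : z' z.1 z.2 ∈ Set.range hW.fromSpec := hW.range_fromSpec.symm ▸ hzW z.1 z.2
    have hz'c : IsClosed {z' z.1 z.2} := by
      have hzc := (hF z.1 z.2).1.preimage g.continuous
      have : g ⁻¹' {z.1} = {z' z.1 z.2} := Set.ext fun r => by
        rw [Set.mem_preimage, Set.mem_singleton_iff, Set.mem_singleton_iff]
        constructor
        · intro hr
          exact g.isClosedEmbedding.injective (hr.trans (hz' z.1 z.2).symm)
        · rintro rfl
          exact hz' z.1 z.2
      exact this ▸ hzc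
    show (WeakAss.primeAt (z' z.1 z.2) (hzW z.1 z.2)).IsMaximal
    revert hz'c
    generalize hzW z.1 z.2 = hw
    revert hw
    rw [← hq]
    intro hw hc
    rw [WeakAss.primeAt_fromSpec hW]
    refine (PrimeSpectrum.isClosed_singleton_iff_isMaximal q).1 ?_
    have : hW.fromSpec ⁻¹' {hW.fromSpec q} = {q} := Set.ext fun r => hW.fromSpec.isOpenEmbedding.injective.eq_iff
    exact this ▸ hc.preimage hW.fromSpec.continuous
  · show (WeakAss.primeAt (z' z.1 z.2) (hzW z.1 z.2)).comap ((g ≫ qT).app V).hom = _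
    rw [Scheme.Hom.app_eq_appLE, AssPts.comap_primeAt]
    have : (g ≫ qT) (z' z.1 z.2) = y₀ := by rw [Scheme.Hom.comp_apply, hz', (hF z.1 z.2).2.1]
    simp only [this]
  · refine (QCoh.mem_support_iff_primeAt K₀ hW (hzW z.1 z.2)).1 ?_
    rw [QCoh.support_pullback g K hK, Set.mem_preimage]
    show g (z' z.1 z.2) ∈ _
    rw [hz']
    exact (hF z.1 z.2).2.2

end Geometry

end GrothLib.FunMor20
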