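import Groth.Agent.Lib.FunMor20.FibreFinite
import Groth.Agent.Lib.FunMor20.QAffClosure
import Groth.Agent.Lib.QCoh.SchSupport
import Groth.Agent.Lib.QCoh.PullbackSections

/-!
# The support of the kernel is finite over the target
-/

set_option autoImplicit false
set_option linter.style.haveILetI false
set_option linter.style.longLine false
set_option maxHeartbeats 1000000
set_option backward.isDefEq.respectTransparency.types false

universe u

open CategoryTheory CategoryTheory.Limits AlgebraicGeometry Opposite TopologicalSpace Abelian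

noncomputable section

namespace GrothLib.FunMor20

/-- A quasi-finite separated scheme over an affine one carrying a faithful acyclic module with finitely
generated sections is finite. -/
theorem isFinite_of_faithful {W B : Scheme.{u}} [IsAffine B] [IsNoetherianRing Γ(B, ⊤)] (g : W ⟶ B)
    [LocallyOfFiniteType g] [QuasiCompact g] [IsSeparated g] [LocallyQuasiFinite g]
    (K : W.Modules) [K.IsQuasicoherent] {N : ℕ} (gen : Fin N → Γ(K, ⊤))
    (hgen : ∀ m, ∃ c : Fin N → Γ(B, ⊤), m = ∑ j, g.appTop (c j) • gen j)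
    (hfaith : ∀ a : Γ(W, ⊤), (∀ m : Γ(K, ⊤), a • m = 0) → a = 0)
    (hH : ∀ n : ℕ, Subsingleton (Ext.{u} (Cohom.freeFun.obj (⊤ : W.Opens)) (Coh.toAb K) (n + 1))) :
    IsFinite g := by
  letI : Algebra Γ(B, ⊤) Γ(W, ⊤) := g.appTop.hom.toAlgebra
  letI : Module Γ(B, ⊤) Γ(K, ⊤) := Module.compHom _ g.appTop.hom
  haveI : IsScalarTower Γ(B, ⊤) Γ(W, ⊤) Γ(K, ⊤) := IsScalarTower.of_algebraMap_smul fun _ _ => rfl
  haveI : Module.Finite Γ(B, ⊤) Γ(K, ⊤) := by
    classical
    refine Module.Finite.of_fg_top ⟨Finset.univ.image gen, ?_⟩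
    rw [Finset.coe_image, Finset.coe_univ, Set.image_univ]
    refine Submodule.eq_top_iff'.2 fun m => ?_
    obtain ⟨c, rfl⟩ := hgen m
    exact Submodule.sum_mem _ fun j _ => Submodule.smul_mem _ (c j) (Submodule.subset_span ⟨j, rfl⟩)
  let ev : Γ(W, ⊤) →ₗ[Γ(B, ⊤)] (Fin N → Γ(K, ⊤)) :=
    { toFun := fun a j => a • gen j
      map_add' := fun a b => funext fun j => add_smul a b (gen j)
      map_smul' := fun b a => funext fun j => smul_assoc b a (gen j) }
  have hev : Function.Injective ev := by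
    rw [injective_iff_map_eq_zero]
    intro a ha
    refine hfaith a fun m => ?_
    obtain ⟨c, rfl⟩ := hgen m
    rw [Finset.smul_sum]
    refine Finset.sum_eq_zero fun j _ => ?_
    rw [smul_comm, show a • gen j = 0 from congrFun ha j, smul_zero]
  haveI hfinA : Module.Finite Γ(B, ⊤) Γ(W, ⊤) := Module.Finite.of_injective ev hev
  haveI : IsNoetherianRing Γ(W, ⊤) := IsNoetherianRing.of_finite Γ(B, ⊤) Γ(W, ⊤)
  haveI : CompactSpace W := QuasiCompact.compactSpace_of_compactSpace g
  haveI : IsAffine g.normalization := isAffine_of_isAffineHom g.fromNormalization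
  haveI : W.IsQuasiAffine := Scheme.IsQuasiAffine.of_isImmersion g.toNormalization
  haveI : Module.Finite Γ(W, ⊤) Γ(K, ⊤) := Module.Finite.of_restrictScalars_finite Γ(B, ⊤) _ _
  haveI : Surjective W.toSpecΓ := ⟨fun q => mem_range_of_mem_support K hH
    (Module.mem_support_iff_of_finite.2 fun a ha => by
      rw [hfaith a (Module.mem_annihilator.1 ha)]
      exact zero_mem _)⟩
  haveI : IsIso W.toSpecΓ := (isIso_iff_isOpenImmersion_and_surjective _).2 ⟨inferInstance, inferInstance⟩
  haveI : IsAffine W := ⟨inferInstance⟩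
  exact (HasAffineProperty.iff_of_isAffine (P := @IsFinite)).2 ⟨inferInstance, hfinA⟩

variable {X Y S T : Scheme.{u}} [IsAffine S] [IsLocallyArtinian S] {xX : X ⟶ S} [IsSeparated xX] [LocallyOfFiniteType xX]
  [QuasiCompact xX] {y : Y ⟶ S} [LocallyOfFiniteType y]
  {pT : T ⟶ X} {qT : T ⟶ Y} (h : IsPullback pT qT xX y) (K : T.Modules) [K.IsQuasicoherent] (hK : Coh.IsCoh K)

/-- The scheme-theoretic support over the target. -/
abbrev supportMap (qT : T ⟶ Y) (K : T.Modules) [K.IsQuasicoherent] (hK : Coh.IsCoh K) :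
    (QCoh.annIdeal K hK.2).subscheme ⟶ Y :=
  (QCoh.annIdeal K hK.2).subschemeι ≫ qT

include h in
theorem isProperData : LocallyOfFiniteType qT ∧ QuasiCompact qT ∧ IsSeparated qT :=
  ⟨MorphismProperty.of_isPullback h ‹LocallyOfFiniteType xX›, MorphismProperty.of_isPullback h ‹QuasiCompact xX›,
    MorphismProperty.of_isPullback h ‹IsSeparated xX›⟩

include h in
theorem locallyQuasiFinite_supportMap (hepi : RestrictsEpi pT qT K)
    (hpush : Coh.IsCoh ((Scheme.Modules.pushforward qT).obj K)) : LocallyQuasiFinite (supportMap qT K hK) := by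
  classical
  obtain ⟨_, _, _⟩ := isProperData h
  let I := QCoh.annIdeal K hK.2
  let g := supportMap qT K hK
  haveI : JacobsonSpace S := inferInstance
  haveI : JacobsonSpace Y := LocallyOfFiniteType.jacobsonSpace y
  haveI : JacobsonSpace I.subscheme := LocallyOfFiniteType.jacobsonSpace g
  haveI := hpush.1
  rw [← Scheme.Hom.quasiFiniteLocus_eq_top_iff]
  by_contra hne
  obtain ⟨s, hs, hsc⟩ := nonempty_inter_closedPoints (Z := ((g.quasiFiniteLocus : Set I.subscheme)ᶜ))
    (Set.nonempty_compl.2 fun hu => hne (Opens.ext hu)) g.quasiFiniteLocus.2.isClosed_compl.isLocallyClosed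
  apply hs
  have hy₀ : IsClosed {g s} := mem_closedPoints_iff.1 (g.closePoints_subset_preimage_closedPoints hsc)
  obtain ⟨V, hV, hyV, -⟩ := exists_isAffineOpen_mem_and_subset (x := g s) (U := (⊤ : Y.Opens)) trivial
  haveI := QCoh.moduleFinite_of_isFiniteType ((Scheme.Modules.pushforward qT).obj K) hpush.2 hV
  obtain ⟨N, gen, hgen⟩ := Module.Finite.exists_fin (R := Γ(Y, V)) (M := Γ((Scheme.Modules.pushforward qT).obj K, V))
  let C : Set I.subscheme := g ⁻¹' {g s} ∩ closedPoints I.subscheme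
  have hC : C.Finite := by
    by_contra hinf
    obtain ⟨F, hFC, hFcard⟩ := Set.Infinite.exists_subset_card_eq hinf (N + 1)
    have hcard := card_closed_points_le h K hK hepi hV gen hgen hy₀ hyV (F.image fun c => I.subschemeι c) fun z hz => by
      obtain ⟨c, hc, rfl⟩ := Finset.mem_image.1 hz
      refine ⟨?_, (hFC hc).1, ?_⟩
      · rw [← Set.image_singleton]
        exact I.subschemeι.isClosedEmbedding.isClosedMap _ (mem_closedPoints_iff.1 (hFC hc).2)
      · rw [← QCoh.coe_support_annIdeal K hK.2, ← Scheme.IdealSheafData.range_subschemeι]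
        exact ⟨c, rfl⟩
    rw [Finset.card_image_of_injective _ I.subschemeι.isClosedEmbedding.injective, hFcard] at hcard
    omega
  have hCclosed : IsClosed C := by
    rw [← Set.biUnion_of_singleton C]
    exact hC.isClosed_biUnion fun c hc => mem_closedPoints_iff.1 hc.2
  have hfib : g ⁻¹' {g s} = C := by
    refine le_antisymm (fun c hc => ?_) Set.inter_subset_left
    have h1 := JacobsonSpace.closure_inter_closedPoints_eq_closure (hy₀.preimage g.continuous).isLocallyClosed
    exact hCclosed.closure_subset (h1 ▸ subset_closure hc)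
  haveI : Finite ↥(g ⁻¹' {g s}) := (hfib ▸ hC).to_subtype
  haveI : T1Space ↥(g ⁻¹' {g s}) := ⟨fun c => by
    have hc : IsClosed {(c : I.subscheme)} := mem_closedPoints_iff.1 (hfib.le c.2).2
    have : ({c} : Set ↥(g ⁻¹' {g s})) = Subtype.val ⁻¹' {(c : I.subscheme)} := by
      ext d
      exact Subtype.ext_iff
    exact this ▸ hc.preimage continuous_subtype_val⟩
  haveI : DiscreteTopology ↥(g ⁻¹' {g s}) := inferInstance
  haveI : DiscreteTopology ↥(g.fiber (g s)) := (g.fiberHomeo (g s)).symm.discreteTopology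
  show s ∈ g.quasiFiniteLocus
  rw [Scheme.Hom.mem_quasiFiniteLocus, Scheme.Hom.quasiFiniteAt_iff_isOpen_singleton_asFiber]
  exact isOpen_discrete _

include h in
/-- **The scheme-theoretic support is finite over the target.** -/
theorem isFinite_supportMap [IsLocallyNoetherian Y] (hepi : RestrictsEpi pT qT K)
    (hpush : Coh.IsCoh ((Scheme.Modules.pushforward qT).obj K))
    (hzero : ∀ (N : T.Modules) [N.IsQuasicoherent] (ψ : K ⟶ N), (Scheme.Modules.pushforward qT).map ψ = 0 → ψ = 0)
    (hH : ∀ (V : Y.Opens), IsAffineOpen V → ∀ n : ℕ,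
      Subsingleton (Ext.{u} (Cohom.freeFun.obj (qT ⁻¹ᵁ V)) (Coh.toAb K) (n + 1))) :
    IsFinite (supportMap qT K hK) := by
  obtain ⟨_, _, _⟩ := isProperData h
  let I := QCoh.annIdeal K hK.2
  let i := I.subschemeι
  let g := supportMap qT K hK
  haveI := locallyQuasiFinite_supportMap h K hK hepi hpush
  let Ks := (Scheme.Modules.pullback i).obj K
  haveI : Ks.IsQuasicoherent := FittSheaf.isQuasicoherent_pullback i K
  haveI hη : IsIso ((Scheme.Modules.pullbackPushforwardAdjunction i).unit.app K) := QCoh.isIso_unit_annIdeal K hK.2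
  let η : K ≅ (Scheme.Modules.pushforward i).obj Ks :=
    @asIso _ _ _ _ ((Scheme.Modules.pullbackPushforwardAdjunction i).unit.app K) hη
  let epush : (Scheme.Modules.pushforward qT).obj K ≅ (Scheme.Modules.pushforward g).obj Ks :=
    (Scheme.Modules.pushforward qT).mapIso η ≪≫ (Scheme.Modules.pushforwardComp i qT).app Ks
  have hgKs : Coh.IsCoh ((Scheme.Modules.pushforward g).obj Ks) := QCoh.isCoh_of_iso epush hpush
  haveI := hgKs.1
  -- generation by sections over preimages of opens
  let adjg := Scheme.Modules.pullbackPushforwardAdjunction g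
  let ε : (Scheme.Modules.pullback g).obj ((Scheme.Modules.pushforward g).obj Ks) ⟶ Ks := adjg.counit.app Ks
  haveI : ((Scheme.Modules.pullback g).obj ((Scheme.Modules.pushforward g).obj Ks)).IsQuasicoherent :=
    FittSheaf.isQuasicoherent_pullback g _
  haveI hεepi : Epi ε := by
    haveI := QCoh.isQuasicoherent_cokernel ε
    let ψ := cokernel.π ε
    refine Preadditive.epi_of_cokernel_zero ?_
    have h1 : (Scheme.Modules.pushforward g).map ψ = 0 := by
      have ht : adjg.unit.app _ ≫ (Scheme.Modules.pushforward g).map ε = 𝟙 _ := adjg.right_triangle_components Ks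
      calc (Scheme.Modules.pushforward g).map ψ
          = (adjg.unit.app _ ≫ (Scheme.Modules.pushforward g).map ε) ≫ (Scheme.Modules.pushforward g).map ψ := by
            rw [ht]; exact (Category.id_comp _).symm
        _ = 0 := by rw [Category.assoc, ← Functor.map_comp, cokernel.condition, Functor.map_zero, comp_zero]
    haveI : ((Scheme.Modules.pushforward i).obj (cokernel ε)).IsQuasicoherent := QCoh.isQuasicoherent_pushforward i _
    have h2 := hzero _ ((Scheme.Modules.pullbackPushforwardAdjunction i).homEquiv K (cokernel ε) ψ) (by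
      rw [Adjunction.homEquiv_unit, Functor.map_comp]
      have h3 := (Scheme.Modules.pushforwardComp i qT).hom.naturality ψ
      have h4 : (Scheme.Modules.pushforward qT).map ((Scheme.Modules.pushforward i).map ψ) = 0 := by
        rw [← cancel_mono ((Scheme.Modules.pushforwardComp i qT).hom.app _), zero_comp]
        exact h3.trans (by rw [show (Scheme.Modules.pushforward (i ≫ qT)).map ψ = 0 from h1, comp_zero])
      rw [h4, comp_zero])
    exact ((Scheme.Modules.pullbackPushforwardAdjunction i).homEquiv K (cokernel ε)).injective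
      (h2.trans (by rw [Adjunction.homEquiv_unit, Functor.map_zero, comp_zero]))
  rw [IsZariskiLocalAtTarget.iff_of_iSup_eq_top (P := @IsFinite) (fun V : Y.affineOpens => V.1)
    (iSup_affineOpens_eq_top Y)]
  rintro ⟨V, hV⟩
  haveI : IsAffine (V : Scheme.{u}) := hV
  haveI : IsNoetherianRing Γ(Y, V) := IsLocallyNoetherian.component_noetherian ⟨V, hV⟩
  haveI : IsNoetherianRing Γ((V : Scheme.{u}), ⊤) :=
    isNoetherianRing_of_ringEquiv _ V.topIso.commRingCatIsoToRingEquiv.symm
  haveI := QCoh.moduleFinite_of_isFiniteType _ hgKs.2 hV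
  obtain ⟨N, gen, hgen⟩ := Module.Finite.exists_fin (R := Γ(Y, V)) (M := Γ((Scheme.Modules.pushforward g).obj Ks, V))
  let U : I.subscheme.Opens := g ⁻¹ᵁ V
  have hgenO : ∀ (V' : Y.Opens) (O : I.subscheme.Opens) (e : O ≤ g ⁻¹ᵁ V'), V' = V → O = U →
      ∃ gen' : Fin N → Γ(Ks, O), ∀ m : Γ(Ks, O), ∃ c : Fin N → Γ(Y, V'), m = ∑ j, g.appLE V' O e (c j) • gen' j := by
    intro V' O e h1 h2
    subst h1 h2
    refine ⟨gen, fun m => ?_⟩
    obtain ⟨c, hc⟩ := (Submodule.mem_span_range_iff_exists_fun Γ(Y, V')).1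
      (hgen ▸ (Submodule.mem_top : (show Γ((Scheme.Modules.pushforward g).obj Ks, V') from m) ∈ ⊤))
    refine ⟨c, hc.symm.trans (Finset.sum_congr rfl fun j _ => ?_)⟩
    rw [← Scheme.Hom.app_eq_appLE]
    rfl
  have hfaithO : ∀ (O : I.subscheme.Opens), O = U → ∀ a : Γ(I.subscheme, O),
      (∀ m : Γ(Ks, O), a • m = 0) → a = 0 := by
    intro O hO a ha
    subst hO
    refine (I.subscheme.sheaf.eq_of_locally_eq' (fun P : {P : T.affineOpens // P.1 ≤ qT ⁻¹ᵁ V} => i ⁻¹ᵁ P.1.1)
      U (fun P => homOfLE (i.preimage_mono P.2)) (fun z hz => ?_) a 0 fun P => ?_)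
    · obtain ⟨P, hP, hzP, hle⟩ := exists_isAffineOpen_mem_and_subset (x := i z) (U := qT ⁻¹ᵁ V) hz
      exact Opens.mem_iSup.2 ⟨⟨⟨P, hP⟩, hle⟩, hzP⟩
    obtain ⟨⟨P, hP⟩, hle⟩ := P
    let P' := i ⁻¹ᵁ P
    have hP' : IsAffineOpen P' := hP.preimage i
    have e : P' ≤ g ⁻¹ᵁ V := i.preimage_mono hle
    rw [map_zero]
    let ra := I.subscheme.presheaf.map (homOfLE e).op a
    have hkill : ∀ σ : Γ(Ks, P'), ra • σ = 0 := by
      intro σ
      letI : Algebra Γ(Y, V) Γ(I.subscheme, P') := (g.appLE V P' e).hom.toAlgebra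
      obtain ⟨τ, rfl⟩ := ModDesc.app_surjective_of_epi ε hP' σ
      obtain ⟨w, rfl⟩ := (QCoh.bijective_sectionsMap g ((Scheme.Modules.pushforward g).obj Ks) e rfl hV hP').2 τ
      show ra • QCoh.appLinear ε P' _ = 0
      induction w using TensorProduct.induction_on with
      | zero => rw [map_zero, map_zero, smul_zero]
      | add x z hx hz => rw [map_add, map_add, smul_add, hx, hz, add_zero]
      | tmul b s =>
        rw [QCoh.sectionsMap_tmul, map_smul, smul_comm]
        have ht : adjg.unit.app _ ≫ (Scheme.Modules.pushforward g).map ε = 𝟙 _ := adjg.right_triangle_components Ks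
        have hs : QCoh.appLinear ε P' (QCoh.pullSec g ((Scheme.Modules.pushforward g).obj Ks) e s) =
            Ks.presheaf.map (homOfLE e).op (show Γ(Ks, g ⁻¹ᵁ V) from s) := by
          refine (congr($((Scheme.Modules.Hom.mapPresheaf ε).naturality (homOfLE e).op) _)).trans ?_
          exact congrArg (Ks.presheaf.map (homOfLE e).op) (congrArg (fun φ => Scheme.Modules.Hom.app φ V s) ht)
        rw [hs, ← Scheme.Modules.map_smul Ks (homOfLE e), ha, map_zero, smul_zero]
    obtain ⟨ã, hã⟩ := I.subschemeι_app_surjective ⟨P, hP⟩ ra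
    refine hã.symm.trans ?_
    have hker : ã ∈ RingHom.ker (I.subschemeι.app P).hom := ?_
    · exact RingHom.mem_ker.1 hker
    rw [Scheme.IdealSheafData.ker_subschemeι_app I ⟨P, hP⟩, QCoh.annIdeal_ideal]
    refine Module.mem_annihilator.2 fun x => ?_
    apply ModDesc.app_injective_of_mono η.hom P
    rw [map_zero]
    have hx : η.hom.app P (ã • x) = ã • η.hom.app P x := Scheme.Modules.Hom.app_smul η.hom ã x
    rw [hx]
    show i.app P ã • (show Γ(Ks, P') from η.hom.app P x) = 0
    rw [hã]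
    exact hkill _
  let W : Scheme.{u} := (U : I.subscheme.Opens)
  let gV : W ⟶ (V : Scheme.{u}) := g ∣_ V
  haveI : ((Scheme.Modules.pullback U.ι).obj Ks).IsQuasicoherent := FittSheaf.isQuasicoherent_pullback U.ι Ks
  haveI : (Ks.restrict U.ι).IsQuasicoherent :=
    QCoh.isQuasicoherent_of_iso ((Scheme.Modules.restrictFunctorIsoPullback U.ι).app Ks).symm
  have hsmul : ∀ (r : Γ(W, ⊤)) (m : Γ(Ks.restrict U.ι, ⊤)),
      r • m = (show Γ(I.subscheme, U.ι ''ᵁ ⊤) from r) • (show Γ(Ks, U.ι ''ᵁ ⊤) from m) := fun r m => by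
    change (U.ι.appIso ⊤).inv r • (show Γ(Ks, U.ι ''ᵁ ⊤) from m) = _
    rw [Scheme.Opens.ι_appIso]
    rfl
  have hU : U.ι ''ᵁ ⊤ = U := Scheme.Opens.ι_image_top U
  have hV' : V.ι ''ᵁ ⊤ = V := Scheme.Opens.ι_image_top V
  obtain ⟨gen', hgen'⟩ := hgenO (V.ι ''ᵁ ⊤) (U.ι ''ᵁ ⊤) (le_of_eq (by rw [hU, hV'])) hV' hU
  refine isFinite_of_faithful gV (Ks.restrict U.ι) gen' (fun m => ?_) (fun a ha => hfaithO _ hU a fun m => (hsmul a m).symm.trans (ha m)) fun n => ?_
  · obtain ⟨c, hc⟩ := hgen' m
    refine ⟨c, hc.trans (Finset.sum_congr rfl fun j _ => ?_)⟩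
    rw [show gV.appTop = (g ∣_ V).appLE ⊤ ((g ∣_ V) ⁻¹ᵁ ⊤) le_rfl from Scheme.Hom.app_eq_appLE _, morphismRestrict_appLE, hsmul]
    rfl
  · obtain ⟨e₁⟩ := Cohom.nonempty_ext_image_equiv U.ι Ks ⊤ (n + 1)
    refine @Equiv.subsingleton _ _ e₁.symm.toEquiv ?_
    rw [hU]
    obtain ⟨e₂⟩ := Cohom.nonempty_ext_preimage_equiv i Ks (qT ⁻¹ᵁ V) (n + 1)
    let e₃ := ((extFunctorObj.{u} (Cohom.freeFun.obj (qT ⁻¹ᵁ V)) (n + 1)).mapIso
      ((QCoh.toAbFun T).mapIso η.symm)).addCommGroupIsoToAddEquiv
    exact @Equiv.subsingleton _ _ (e₂.trans e₃).toEquiv (hH V hV n)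

end GrothLib.FunMor20
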