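import Groth.Agent.Lib.FunMor20.AffinePush
import Groth.Agent.Lib.FunMor20.Exact
import Groth.Agent.Lib.OX.TildeKFlat
import Groth.Agent.Lib.FunFlat6.Point
import Mathlib.RingTheory.Flat.Localization

/-!
# An exact functor has a kernel flat over the source
-/

set_option autoImplicit false
set_option linter.style.haveILetI false
set_option linter.style.longLine false
set_option maxHeartbeats 1000000
set_option backward.isDefEq.respectTransparency.types false

universe u

open CategoryTheory CategoryTheory.Limits AlgebraicGeometry Opposite TopologicalSpace MonoidalCategory TensorProduct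

noncomputable section

namespace GrothLib.FunMor20

/-- The converse of `injective_rTensor_baseChange`. -/
theorem injective_lTensor_of_baseChange {A B : Type u} [CommRing A] [CommRing B] [Algebra A B] {M M' : Type u}
    [AddCommGroup M] [Module A M] [AddCommGroup M'] [Module A M'] (K : Type u) [AddCommGroup K] [Module B K]
    [Module A K] [IsScalarTower A B K] (ψ : M →ₗ[A] M')
    (hψ : Function.Injective ((ψ.baseChange B).rTensor K)) : Function.Injective (ψ.lTensor K) := by
  let e₁ := TensorProduct.comm B (B ⊗[A] M) K ≪≫ₗ AlgebraTensorModule.cancelBaseChange A B B K M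
  let e₂ := TensorProduct.comm B (B ⊗[A] M') K ≪≫ₗ AlgebraTensorModule.cancelBaseChange A B B K M'
  have h : ∀ z, e₂ ((ψ.baseChange B).rTensor K z) = ψ.lTensor K (e₁ z) := fun z => by
    induction z using TensorProduct.induction_on with
    | zero => simp
    | add a b ha hb => simp only [map_add, ha, hb]
    | tmul a k =>
      induction a using TensorProduct.induction_on with
      | zero => simp
      | add a b ha hb => simp only [TensorProduct.add_tmul, map_add, ha, hb]
      | tmul b m => simp [e₁, e₂]
  intro z z' hz
  obtain ⟨a, rfl⟩ := e₁.surjective z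
  obtain ⟨b, rfl⟩ := e₁.surjective z'
  rw [← h, ← h] at hz
  exact congrArg e₁ (hψ (e₂.injective hz))

/-- The converse, for the tensor product on the other side. -/
theorem injective_lTensor_of_lTensor_baseChange {A B : Type u} [CommRing A] [CommRing B] [Algebra A B] {M M' : Type u}
    [AddCommGroup M] [Module A M] [AddCommGroup M'] [Module A M'] (K : Type u) [AddCommGroup K] [Module B K]
    [Module A K] [IsScalarTower A B K] (ψ : M →ₗ[A] M')
    (hψ : Function.Injective ((ψ.baseChange B).lTensor K)) : Function.Injective (ψ.lTensor K) :=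
  injective_lTensor_of_baseChange (B := B) K ψ fun a b hab => by
    refine (TensorProduct.comm B _ K).injective (hψ ?_)
    have : ∀ z, (ψ.baseChange B).lTensor K (TensorProduct.comm B _ K z) =
        TensorProduct.comm B _ K ((ψ.baseChange B).rTensor K z) := fun z => by
      induction z using TensorProduct.induction_on with
      | zero => simp
      | add x y hx hy => simp only [map_add, hx, hy]
      | tmul x k => simp
    rw [this, this, hab]

/-- A module is flat over an affine base once tensoring with it after pullback keeps monomorphisms. -/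
theorem isFlatOverAt_of_mono {A : CommRingCat.{u}} {Z : Scheme.{u}} (p : Z ⟶ Spec A) (K : Z.Modules)
    (hK : ∀ I : Ideal A, Mono ((DCoh.tensorRightMod K).map ((Scheme.Modules.pullback p).map
      ((tilde.functor A).map (ModuleCat.ofHom I.subtype))))) (z : Z) : FlatMod.IsFlatOverAt p K z := by
  let O := (Spec A).presheaf.stalk (p z)
  letI : Algebra A O := (OX.specToStalk A (p z)).toAlgebra
  haveI hloc : IsLocalization (p z).asIdeal.primeCompl O := by
    have h : @IsLocalization.AtPrime A _ O _ (StructureSheaf.stalkAlgebra (R := A) (p z)) (p z).asIdeal _ :=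
      StructureSheaf.IsLocalization.to_stalk (R := A) (p z)
    have e : (StructureSheaf.stalkAlgebra (R := A) (p z)) = (OX.specToStalk A (p z)).toAlgebra :=
      Algebra.algebra_ext _ _ fun r => rfl
    rw [e] at h
    exact h
  let N := K.presheaf.stalk z
  letI : Module O N := Module.compHom _ (p.stalkMap z).hom
  letI : Algebra O (Z.presheaf.stalk z) := (p.stalkMap z).hom.toAlgebra
  haveI : IsScalarTower O (Z.presheaf.stalk z) N := IsScalarTower.of_algebraMap_smul fun _ _ => rfl
  letI : Module A N := Module.compHom _ (algebraMap A O)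
  haveI : IsScalarTower A O N := IsScalarTower.of_algebraMap_smul fun _ _ => rfl
  show Module.Flat O N
  refine (Module.flat_iff_of_isLocalization O (p z).asIdeal.primeCompl N).2 ?_
  refine Module.Flat.iff_lTensor_injective'.2 fun I => ?_
  haveI := hK I
  let m := (tilde.functor A).map (ModuleCat.ofHom I.subtype)
  have h0 : Mono ((OX.stalk z).map ((DCoh.tensorRightMod K).map ((Scheme.Modules.pullback p).map m))) :=
    (OX.mono_iff _).1 (hK I) z
  have h1 := OX.stalkTensorBiIso_natural₁ z ((Scheme.Modules.pullback p).map m) K
  have h2 : Mono ((OX.stalk z).map ((Scheme.Modules.pullback p).map m) ▷ (OX.stalk z).obj K) := by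
    have h3 : Mono ((OX.stalk z).map (((DCoh.tensorBi (X := Z)).map ((Scheme.Modules.pullback p).map m)).app K)) := h0
    rw [(Iso.eq_comp_inv _).2 h1] at h3
    haveI := h3
    exact ((MorphismProperty.monomorphisms _).arrow_mk_iso_iff
      (Arrow.isoMk (OX.stalkTensorBiIso z _ K) (OX.stalkTensorBiIso z _ K) h1.symm)).1 h0
  let φ := (ModuleCat.extendScalars (OX.specToStalk A (p z))).map (ModuleCat.ofHom I.subtype)
  have h4 : Mono ((ModuleCat.extendScalars (p.stalkMap z).hom).map φ ▷ (OX.stalk z).obj K) := by
    let T : ModuleCat.{u} A ⥤ ModuleCat.{u} (Z.presheaf.stalk z) :=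
      tilde.functor A ⋙ OX.stalk (p z) ⋙ ModuleCat.extendScalars (p.stalkMap z).hom
    let e : tilde.functor A ⋙ Scheme.Modules.pullback p ⋙ OX.stalk z ≅
        ModuleCat.extendScalars (OX.specToStalk A (p z)) ⋙ ModuleCat.extendScalars (p.stalkMap z).hom :=
      Functor.isoWhiskerLeft (tilde.functor A) (OX.pullStalkIso p z) ≪≫
        Functor.isoWhiskerRight (OX.tildeStalkIso A (p z)) (ModuleCat.extendScalars (p.stalkMap z).hom)
    have h5 := congrArg (· ▷ (OX.stalk z).obj K) (e.hom.naturality (ModuleCat.ofHom I.subtype))
    simp only [MonoidalCategory.comp_whiskerRight] at h5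
    exact ((MorphismProperty.monomorphisms _).arrow_mk_iso_iff
      (Arrow.isoMk (whiskerRightIso (e.app _) _) (whiskerRightIso (e.app _) _) h5.symm)).1 h2
  rw [ModuleCat.mono_iff_injective] at h4
  have h6 : Function.Injective ((I.subtype.baseChange O).lTensor N) :=
    injective_lTensor_of_baseChange (A := O) (B := Z.presheaf.stalk z) N (I.subtype.baseChange O) h4
  exact injective_lTensor_of_lTensor_baseChange (B := O) N I.subtype h6

variable {W Y S Z : Scheme.{u}} [IsAffine W] [IsAffine S] {x : W ⟶ S} {y : Y ⟶ S} {p : Z ⟶ W} {q : Z ⟶ Y}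

include x y in
/-- Direct image along an affine base change reflects monomorphisms of quasi-coherent modules. -/
theorem mono_of_mono_push (h : IsPullback p q x y) {K₁ K₂ : Z.Modules} [K₁.IsQuasicoherent] [K₂.IsQuasicoherent]
    (ψ : K₁ ⟶ K₂) (hψ : Mono ((Scheme.Modules.pushforward q).map ψ)) : Mono ψ := by
  let P := Scheme.Modules.pushforward q
  haveI : (kernel ψ).IsQuasicoherent := QCoh.isQuasicoherent_kernel ψ
  haveI : PreservesLimitsOfSize.{0, 0} P :=
    (Scheme.Modules.pullbackPushforwardAdjunction q).rightAdjoint_preservesLimits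
  haveI : P.Additive := (Scheme.Modules.pullbackPushforwardAdjunction q).right_adjoint_additive
  have hz : IsZero (P.obj (kernel ψ)) :=
    (isZero_kernel_of_mono (P.map ψ)).of_iso (PreservesKernel.iso P ψ)
  have hiso : IsIso (P.map (0 : kernel ψ ⟶ kernel ψ)) :=
    ⟨0, hz.eq_of_src _ _, hz.eq_of_src _ _⟩
  haveI h0 := isIso_of_isIso_push h (0 : kernel ψ ⟶ kernel ψ) hiso
  refine Preadditive.mono_of_kernel_zero ?_
  have : 𝟙 (kernel ψ) = 0 := by rw [← IsIso.hom_inv_id (0 : kernel ψ ⟶ kernel ψ), zero_comp]
  rw [← Category.id_comp (kernel.ι ψ), this, zero_comp]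

end GrothLib.FunMor20
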