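import Groth.Agent.Lib.FunMor20.SepGen
import Groth.Agent.Lib.TensorPerf20.FlatKernel
import Groth.Agent.Lib.ModDesc.Approx
import Groth.Agent.Lib.FunFlat6.Vanish

/-!
# The kernel of a functor preserving coherence is coherent
-/

set_option autoImplicit false
set_option linter.style.haveILetI false
set_option linter.style.longLine false
set_option maxHeartbeats 1000000
set_option backward.isDefEq.respectTransparency.types false

universe u

open CategoryTheory CategoryTheory.Limits AlgebraicGeometry Opposite TopologicalSpace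

noncomputable section

namespace GrothLib.FunMor20

/-- The box product with the structure module, over any scheme. -/
def ωGen {W Z : Scheme.{u}} (p : Z ⟶ W) (K : Z.Modules) :
    ((DCoh.tensorBi (X := Z)).obj ((Scheme.Modules.pullback p).obj (Coh.structureModule W))).obj K ≅ K :=
  ((DCoh.tensorBi).mapIso (OX.pullUnitIso p)).app K ≪≫ OX.tensorUnitLeftIso K

theorem ωGen_natural {W Z : Scheme.{u}} (p : Z ⟶ W) {K K' : Z.Modules} (ψ : K ⟶ K') :
    ((DCoh.tensorBi (X := Z)).obj ((Scheme.Modules.pullback p).obj (Coh.structureModule W))).map ψ ≫ (ωGen p K').hom =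
      (ωGen p K).hom ≫ ψ := by
  simp only [ωGen, Iso.trans_hom, Iso.app_hom, Functor.mapIso_hom, Category.assoc]
  erw [reassoc_of% ((DCoh.tensorBi (X := Z)).map (OX.pullUnitIso p).hom).naturality ψ]
  exact congrArg (_ ≫ ·) (tensorUnitLeftIso_natural ψ)

/-- A map is zero once its restrictions along an open cover are. -/
theorem eq_zero_of_pullback_cover {T : Scheme.{u}} {M N : T.Modules} [M.IsQuasicoherent] (ψ : M ⟶ N) {ι : Type*}
    (P : ι → T.Opens) (hcov : ∀ z, ∃ i, z ∈ P i) (h : ∀ i, (Scheme.Modules.pullback (P i).ι).map ψ = 0) : ψ = 0 := by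
  refine FunFlat6.eq_zero_of_cover ψ
    (fun k : Σ i, (P i : Scheme.{u}).affineOpens => (P k.1).ι ''ᵁ k.2.1) (fun k => k.2.2.image_of_isOpenImmersion _)
    (fun z => ?_) fun k s => ?_
  · obtain ⟨i, hi⟩ := hcov z
    obtain ⟨W, hW, hz, -⟩ := exists_isAffineOpen_mem_and_subset (x := (⟨z, hi⟩ : (P i : Scheme.{u})))
      (U := (⊤ : (P i : Scheme.{u}).Opens)) trivial
    exact ⟨⟨i, ⟨W, hW⟩⟩, ⟨⟨z, hi⟩, hz, rfl⟩⟩
  · let r := Scheme.Modules.restrictFunctorIsoPullback (P k.1).ι
    have h1 : (Scheme.Modules.restrictFunctor (P k.1).ι).map ψ = 0 := by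
      rw [← cancel_mono (r.hom.app N), r.hom.naturality, h, comp_zero, zero_comp]
    exact congrArg (fun φ => Scheme.Modules.Hom.app φ k.2.1 s) h1

variable {X Y S T : Scheme.{u}} [IsAffine S] {xX : X ⟶ S} [IsSeparated xX] {y : Y ⟶ S}
  {pT : T ⟶ X} {qT : T ⟶ Y} (h : IsPullback pT qT xX y)
  (K : T.Modules) [K.IsQuasicoherent] [∀ J : Type u, PreservesColimitsOfShape (Discrete J) (Φ pT qT K)]
  [PreservesFiniteColimits (Φ pT qT K)]

include h in
/-- A map out of the kernel is zero once its direct image is. -/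
theorem eq_zero_of_push_eq_zero {N : T.Modules} [N.IsQuasicoherent] (ψ : K ⟶ N)
    (hψ : (Scheme.Modules.pushforward qT).map ψ = 0) : ψ = 0 := by
  haveI : (Φ pT qT N).Additive := additive_Φ pT qT N
  haveI : (Φ pT qT K).Additive := additive_Φ pT qT K
  have hO : (ΦMap pT qT ψ).app (qO X) = 0 := by
    change (Scheme.Modules.pushforward qT).map
      (((DCoh.tensorBi (X := T)).obj ((Scheme.Modules.pullback pT).obj (Coh.structureModule X))).map ψ) = 0
    rw [← cancel_mono ((Scheme.Modules.pushforward qT).map (ωGen pT N).hom), ← Functor.map_comp, ωGen_natural,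
      Functor.map_comp, hψ, comp_zero, zero_comp]
  refine eq_zero_of_pullback_cover ψ (fun U : X.affineOpens => pT ⁻¹ᵁ U.1) (fun z => ?_) fun U => ?_
  · obtain ⟨U, hU, hz, -⟩ := exists_isAffineOpen_mem_and_subset (x := pT z) (U := (⊤ : X.Opens)) trivial
    exact ⟨⟨U, hU⟩, hz⟩
  haveI : IsAffine (U.1 : Scheme.{u}) := U.2
  haveI : IsAffineHom (pullback.diagonal xX) := inferInstance
  haveI : IsAffineHom U.1.ι := isAffineHom_of_affine_source xX U.1.ι
  have h' : IsPullback (pT ∣_ U.1) ((pT ⁻¹ᵁ U.1).ι ≫ qT) (U.1.ι ≫ xX) y :=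
    (isPullback_morphismRestrict pT U.1).paste_vert h
  obtain ⟨ι, c, hc, π, hπ⟩ := exists_epi_free_affinePush xX U.1 U.2
  have hc0 : (ΦMap pT qT ψ).app c.pt = 0 := by
    refine (isColimitOfPreserves (Φ pT qT K) hc).hom_ext fun ⟨i⟩ => ?_
    refine ((ΦMap pT qT ψ).naturality (c.inj i)).trans ?_
    change (ΦMap pT qT ψ).app (qO X) ≫ _ = _
    rw [hO, zero_comp, comp_zero]
  have hU0 : (ΦMap pT qT ψ).app ((qcohPush U.1.ι).obj (qO _)) = 0 := by
    haveI : Epi ((Φ pT qT K).map π) := inferInstance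
    rw [← cancel_epi ((Φ pT qT K).map π), (ΦMap pT qT ψ).naturality π, hc0, zero_comp, comp_zero]
  have h1 : (Scheme.Modules.pushforward ((pT ⁻¹ᵁ U.1).ι ≫ qT)).map ((Scheme.Modules.pullback (pT ⁻¹ᵁ U.1).ι).map ψ) = 0 := by
    rw [← cancel_epi (θ pT qT U.1 K).hom, ← θ_natural, hU0, zero_comp, comp_zero]
  haveI : ((Scheme.Modules.pullback (pT ⁻¹ᵁ U.1).ι).obj K).IsQuasicoherent := FittSheaf.isQuasicoherent_pullback _ K
  haveI : ((Scheme.Modules.pullback (pT ⁻¹ᵁ U.1).ι).obj N).IsQuasicoherent := FittSheaf.isQuasicoherent_pullback _ N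
  obtain ⟨φ, -, huniq⟩ := existsUnique_of_equivariant h' ((Scheme.Modules.pullback (pT ⁻¹ᵁ U.1).ι).obj K)
    ((Scheme.Modules.pullback (pT ⁻¹ᵁ U.1).ι).obj N) 0 fun a => by rw [comp_zero, zero_comp]
  exact (huniq _ h1).trans (huniq _ (Functor.map_zero _ _ _)).symm

variable [QuasiCompact qT] [QuasiSeparated qT]

include h in
/-- The kernel is generated by its direct image. -/
theorem epi_counit : Epi ((Scheme.Modules.pullbackPushforwardAdjunction qT).counit.app K) := by
  haveI : ((Scheme.Modules.pushforward qT).obj K).IsQuasicoherent := QCoh.isQuasicoherent_pushforward qT K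
  let adj := Scheme.Modules.pullbackPushforwardAdjunction qT
  let ε : (Scheme.Modules.pullback qT).obj ((Scheme.Modules.pushforward qT).obj K) ⟶ K := adj.counit.app K
  haveI : ((Scheme.Modules.pullback qT).obj ((Scheme.Modules.pushforward qT).obj K)).IsQuasicoherent :=
    FittSheaf.isQuasicoherent_pullback qT _
  haveI : (cokernel ε).IsQuasicoherent := QCoh.isQuasicoherent_cokernel ε
  refine Preadditive.epi_of_cokernel_zero (eq_zero_of_push_eq_zero h K (cokernel.π ε) ?_)
  have h1 : adj.unit.app _ ≫ (Scheme.Modules.pushforward qT).map ε = 𝟙 _ := adj.right_triangle_components K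
  calc (Scheme.Modules.pushforward qT).map (cokernel.π ε)
      = (adj.unit.app _ ≫ (Scheme.Modules.pushforward qT).map ε) ≫ (Scheme.Modules.pushforward qT).map (cokernel.π ε) := by
        rw [h1]; exact (Category.id_comp _).symm
    _ = 0 := by rw [Category.assoc, ← Functor.map_comp, cokernel.condition, Functor.map_zero, comp_zero]

include h in
/-- The kernel is coherent as soon as its direct image is. -/
theorem isCoh_kernelModule (hq : Coh.IsCoh ((Scheme.Modules.pushforward qT).obj K)) : Coh.IsCoh K := by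
  haveI := epi_counit h K
  exact TensorPerf20.isCoh_of_epi ((Scheme.Modules.pullbackPushforwardAdjunction qT).counit.app K)
    (ModDesc.isCoh_pullback qT _ hq) ‹K.IsQuasicoherent›

include h in
/-- The same, reading the hypothesis off the transform of the structure module. -/
theorem isCoh_kernelModule' {F : Y.Modules} (hF : Coh.IsCoh F) (e : (Φ pT qT K).obj (qO X) ≅ F) : Coh.IsCoh K :=
  isCoh_kernelModule h K (QCoh.isCoh_of_iso (e.symm ≪≫ (Scheme.Modules.pushforward qT).mapIso (ωGen pT K)) hF)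

end GrothLib.FunMor20
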