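import Groth.Agent.Lib.FunMor20.FibreFinite
import Groth.Agent.Lib.K0Sub.KerUnit

/-!
# Exactness of the transform on quotients supported on closed subschemes
-/

set_option autoImplicit false
set_option linter.style.haveILetI false
set_option linter.style.longLine false
set_option maxHeartbeats 1000000
set_option backward.isDefEq.respectTransparency.types false

universe u

open CategoryTheory CategoryTheory.Limits AlgebraicGeometry Opposite TopologicalSpace

noncomputable section

namespace GrothLib.FunMor20

variable {X Y T : Scheme.{u}} (pT : T ⟶ X) (qT : T ⟶ Y) (K : T.Modules) [K.IsQuasicoherent]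

/-- The structure module surjects onto that of a closed subscheme. -/
theorem exists_epi_to_closedPush {X₀ : Scheme.{u}} (i : X₀ ⟶ X) [IsClosedImmersion i] :
    ∃ a : qO X ⟶ (qcohPush i).obj (qO X₀), Epi a := by
  haveI : (Coh.structureModule X).IsQuasicoherent := WeakAss.isQuasicoherent_structureModule
  haveI : ((Scheme.Modules.pullback i).obj (Coh.structureModule X)).IsQuasicoherent :=
    FittSheaf.isQuasicoherent_pullback i _
  haveI : ((Scheme.Modules.pushforward i).obj ((Scheme.Modules.pullback i).obj (Coh.structureModule X))).IsQuasicoherent :=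
    QCoh.isQuasicoherent_pushforward i _
  let u₀ : Coh.structureModule X ⟶
      (Scheme.Modules.pushforward i).obj ((Scheme.Modules.pullback i).obj (Coh.structureModule X)) :=
    (Scheme.Modules.pullbackPushforwardAdjunction i).unit.app (Coh.structureModule X)
  haveI : Epi u₀ :=
    K0Sub.epi_of_app_surjective u₀ fun U => (K0Sub.app_unit_surjective_and_ker i (Coh.structureModule X) U).1
  let v₀ : (Scheme.Modules.pushforward i).obj ((Scheme.Modules.pullback i).obj (Coh.structureModule X)) ⟶
      (Scheme.Modules.pushforward i).obj (Coh.structureModule X₀) :=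
    (Scheme.Modules.pushforward i).map (OX.pullUnitIso i).hom
  haveI : IsIso v₀ := Functor.map_isIso _ _
  let a₀ : Coh.structureModule X ⟶ (Scheme.Modules.pushforward i).obj (Coh.structureModule X₀) := u₀ ≫ v₀
  haveI : Epi a₀ := epi_comp u₀ v₀
  exact ⟨ObjectProperty.homMk a₀, ⟨fun b c hbc => ObjectProperty.hom_ext _
    ((cancel_epi a₀).1 (congrArg InducedCategory.Hom.hom hbc))⟩⟩

/-- The transform at the structure module of a closed subscheme. -/
def closedTransformIso {X₀ : Scheme.{u}} (i : X₀ ⟶ X) [IsClosedImmersion i] :
    (Φ pT qT K).obj ((qcohPush i).obj (qO X₀)) ≅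
      (Scheme.Modules.pushforward (pullback.snd i pT ≫ qT)).obj ((Scheme.Modules.pullback (pullback.snd i pT)).obj K) :=
  (Scheme.Modules.pushforward qT).mapIso ((pushSquareIso (IsPullback.of_hasPullback i pT) K).app (qO X₀)) ≪≫
    (Scheme.Modules.pushforwardComp (pullback.snd i pT) qT).app
      ((preFM (pullback.fst i pT) ((Scheme.Modules.pullback (pullback.snd i pT)).obj K)).obj (qO X₀)) ≪≫
    (Scheme.Modules.pushforward (pullback.snd i pT ≫ qT)).mapIso (ωGen (pullback.fst i pT) _)

/-- Right exactness gives surjectivity onto restrictions to closed subschemes. -/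
theorem restrictsEpi_of_rightExact [PreservesFiniteColimits (Φ pT qT K)] : RestrictsEpi pT qT K := by
  intro X₀ i _
  obtain ⟨a, ha⟩ := exists_epi_to_closedPush i
  let u₁ : (Scheme.Modules.pushforward qT).obj K ⟶ (Φ pT qT K).obj (qO X) :=
    (Scheme.Modules.pushforward qT).map (ωGen pT K).inv
  let u₂ := (Φ pT qT K).map a
  haveI := ha
  haveI : IsIso u₁ := Functor.map_isIso _ _
  haveI : Epi u₂ := inferInstance
  haveI : Epi (u₂ ≫ (closedTransformIso pT qT K i).hom) := epi_comp _ _
  exact ⟨u₁ ≫ u₂ ≫ (closedTransformIso pT qT K i).hom, epi_comp _ _⟩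

end GrothLib.FunMor20
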