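import Groth.Agent.Lib.FunMor20.ExactKernel
import Groth.Agent.Lib.K0Sub.KerUnit
import Mathlib.AlgebraicGeometry.Morphisms.Separated

/-!
# Direct images of structure modules from affine opens are quotients of free modules
-/

set_option autoImplicit false
set_option linter.style.haveILetI false
set_option linter.style.longLine false
set_option maxHeartbeats 1000000
set_option backward.isDefEq.respectTransparency.types false

universe u

open CategoryTheory CategoryTheory.Limits AlgebraicGeometry Opposite TopologicalSpace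

noncomputable section

namespace GrothLib.FunMor20

/-- In a pushout of commutative rings the products of the two images generate additively. -/
theorem mem_of_products_mem {R A B C : CommRingCat.{u}} {f : R ⟶ A} {g : R ⟶ B} {i : A ⟶ C} {j : B ⟶ C}
    (h : IsPushout f g i j) (N : AddSubgroup C) (hN : ∀ a b, i.hom a * j.hom b ∈ N) (c : C) : c ∈ N := by
  let P : Set C := {c | ∃ a b, c = i.hom a * j.hom b}
  let N₀ := AddSubgroup.closure P
  have hsub : N₀ ≤ N := (AddSubgroup.closure_le N).2 fun c ⟨a, b, hc⟩ => hc ▸ hN a b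
  let T : Subring C :=
    { carrier := {x | ∀ n ∈ N₀, x * n ∈ N₀}
      one_mem' := fun n hn => by rwa [one_mul]
      mul_mem' := fun {x y} hx hy n hn => by rw [mul_assoc]; exact hx _ (hy _ hn)
      zero_mem' := fun n _ => by rw [zero_mul]; exact zero_mem N₀
      add_mem' := fun {x y} hx hy n hn => by rw [add_mul]; exact add_mem (hx _ hn) (hy _ hn)
      neg_mem' := fun {x} hx n hn => by rw [neg_mul]; exact neg_mem (hx _ hn) }
  have hi : ∀ a, i.hom a ∈ T := fun a n hn => by
    induction hn using AddSubgroup.closure_induction with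
    | mem x hx =>
      obtain ⟨a', b, rfl⟩ := hx
      exact AddSubgroup.subset_closure ⟨a * a', b, by rw [map_mul, mul_assoc]⟩
    | zero => rw [mul_zero]; exact zero_mem N₀
    | add x y _ _ hx hy => rw [mul_add]; exact add_mem hx hy
    | neg x _ hx => rw [mul_neg]; exact neg_mem hx
  have hj : ∀ b, j.hom b ∈ T := fun b n hn => by
    induction hn using AddSubgroup.closure_induction with
    | mem x hx =>
      obtain ⟨a, b', rfl⟩ := hx
      exact AddSubgroup.subset_closure ⟨a, b * b', by rw [map_mul]; ring⟩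
    | zero => rw [mul_zero]; exact zero_mem N₀
    | add x y _ _ hx hy => rw [mul_add]; exact add_mem hx hy
    | neg x _ hx => rw [mul_neg]; exact neg_mem hx
  let i' : A ⟶ CommRingCat.of T := CommRingCat.ofHom (i.hom.codRestrict T hi)
  let j' : B ⟶ CommRingCat.of T := CommRingCat.ofHom (j.hom.codRestrict T hj)
  let ι : CommRingCat.of T ⟶ C := CommRingCat.ofHom T.subtype
  obtain ⟨d, hd₁, hd₂⟩ : ∃ d : C ⟶ CommRingCat.of T, i ≫ d = i' ∧ j ≫ d = j' := by
    have hw : f ≫ i' = g ≫ j' := CommRingCat.hom_ext (RingHom.ext fun r =>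
      Subtype.ext (congrArg (fun φ : R ⟶ C => φ.hom r) h.w))
    exact ⟨h.desc i' j' hw, h.inl_desc _ _ hw, h.inr_desc _ _ hw⟩
  have hid : d ≫ ι = 𝟙 C := h.hom_ext (by rw [reassoc_of% hd₁, Category.comp_id]; rfl)
    (by rw [reassoc_of% hd₂, Category.comp_id]; rfl)
  have hc : ι.hom (d.hom c) = c := congrArg (fun φ : C ⟶ C => φ.hom c) hid
  have h1 : (1 : C) ∈ N₀ := AddSubgroup.subset_closure ⟨1, 1, by simp⟩
  have h2 := (d.hom c).2 1 h1
  rw [mul_one] at h2
  exact hsub (by rw [← hc]; exact h2)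

variable {X S : Scheme.{u}} [IsAffine S]

/-- On a separated scheme the sections over the intersection of two affine opens are generated by products. -/
theorem sections_inf_generated (x : X ⟶ S) [IsSeparated x] {U V : X.Opens} (hU : IsAffineOpen U) (hV : IsAffineOpen V)
    (N : AddSubgroup Γ((U : Scheme.{u}), U.ι ⁻¹ᵁ V))
    (hN : ∀ (r : Γ(X, V)) (s : Γ((U : Scheme.{u}), ⊤)),
      U.ι.app V r * (U : Scheme.{u}).presheaf.map (homOfLE (le_top : U.ι ⁻¹ᵁ V ≤ ⊤)).op s ∈ N)
    (c : Γ((U : Scheme.{u}), U.ι ⁻¹ᵁ V)) : c ∈ N := by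
  haveI : IsAffine (U : Scheme.{u}) := hU
  haveI : IsAffine (V : Scheme.{u}) := hV
  let W : (U : Scheme.{u}).Opens := U.ι ⁻¹ᵁ V
  have hsq : IsPullback (U.ι ∣_ V) W.ι V.ι U.ι := isPullback_morphismRestrict U.ι V
  let P := pullback (V.ι ≫ x) (U.ι ≫ x)
  let κ : (W : Scheme.{u}) ⟶ P := hsq.isoPullback.hom ≫ pullback.mapDesc V.ι U.ι x
  haveI : IsClosedImmersion κ := inferInstance
  haveI : IsAffine P := IsAffine.of_isPullback (IsPullback.of_hasPullback (V.ι ≫ x) (U.ι ≫ x))
  have hpo := isPushout_appTop_of_isPullback (IsPullback.of_hasPullback (V.ι ≫ x) (U.ι ≫ x))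
  obtain ⟨-, hsurj⟩ := IsClosedImmersion.isAffine_surjective_of_isAffine κ
  have hk₁ : κ ≫ pullback.fst (V.ι ≫ x) (U.ι ≫ x) = U.ι ∣_ V := by
    simp only [κ, pullback.mapDesc, pullback.map, Category.assoc]
    erw [pullback.lift_fst, Category.comp_id, hsq.isoPullback_hom_fst]
  have hk₂ : κ ≫ pullback.snd (V.ι ≫ x) (U.ι ≫ x) = W.ι := by
    simp only [κ, pullback.mapDesc, pullback.map, Category.assoc]
    erw [pullback.lift_snd, Category.comp_id, hsq.isoPullback_hom_snd]
  let e : Γ((W : Scheme.{u}), ⊤) →+* Γ((U : Scheme.{u}), W) := W.topIso.hom.hom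
  have he : Function.Surjective e := (ConcreteCategory.bijective_of_isIso W.topIso.hom).2
  obtain ⟨d, rfl⟩ := he c
  obtain ⟨q, rfl⟩ := hsurj d
  refine mem_of_products_mem hpo (AddSubgroup.comap (e.comp κ.appTop.hom).toAddMonoidHom N) (fun a b => ?_) q
  rw [AddSubgroup.mem_comap]
  change e (κ.appTop.hom ((pullback.fst (V.ι ≫ x) (U.ι ≫ x)).appTop.hom a *
    (pullback.snd (V.ι ≫ x) (U.ι ≫ x)).appTop.hom b)) ∈ N
  rw [map_mul, map_mul]
  have h1 : ∀ a, κ.appTop.hom ((pullback.fst (V.ι ≫ x) (U.ι ≫ x)).appTop.hom a) = (U.ι ∣_ V).appTop.hom a := fun a => by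
    rw [← hk₁]
    rfl
  have h2 : κ.appTop.hom ((pullback.snd (V.ι ≫ x) (U.ι ≫ x)).appTop.hom b) = W.ι.appTop.hom b := by
    rw [← hk₂]
    rfl
  rw [h1, h2]
  have h3 : (U.ι ∣_ V).appTop ≫ W.topIso.hom = V.topIso.hom ≫ U.ι.app V := by
    simp [Scheme.Hom.appTop, Scheme.Opens.topIso]
    erw [← Functor.map_comp, ← Functor.map_comp]
    rfl
  have h4 : W.ι.appTop ≫ W.topIso.hom = (U : Scheme.{u}).presheaf.map (homOfLE (le_top : W ≤ ⊤)).op := by
    simp [Scheme.Opens.topIso]
    erw [← Functor.map_comp]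
    rfl
  have h3' : e ((U.ι ∣_ V).appTop.hom a) = U.ι.app V (V.topIso.hom a) := congrArg (fun φ => φ.hom a) h3
  have h4' : e (W.ι.appTop.hom b) = (U : Scheme.{u}).presheaf.map (homOfLE (le_top : W ≤ ⊤)).op b :=
    congrArg (fun φ => φ.hom b) h4
  rw [h3', h4']
  exact hN _ _

/-- The direct image of the structure module of an affine open is generated by its global sections. -/
theorem epi_freeCover_affinePush (x : X ⟶ S) [IsSeparated x] (U : X.Opens) (hU : IsAffineOpen U) :
    Epi (freeCover ((Scheme.Modules.pushforward U.ι).obj (Coh.structureModule (U : Scheme.{u})))) := by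
  haveI : IsAffine (U : Scheme.{u}) := hU
  haveI : IsAffineHom U.ι := isAffineHom_of_affine_source x U.ι
  haveI : (Coh.structureModule (U : Scheme.{u})).IsQuasicoherent := WeakAss.isQuasicoherent_structureModule
  let M := (Scheme.Modules.pushforward U.ι).obj (Coh.structureModule (U : Scheme.{u}))
  haveI : M.IsQuasicoherent := QCoh.isQuasicoherent_pushforward U.ι _
  refine K0Sub.epi_of_app_surjective _ fun V => ?_
  let L := QCoh.appLinear (freeCover M) V.1
  let N : AddSubgroup Γ((U : Scheme.{u}), U.ι ⁻¹ᵁ V.1) := (LinearMap.range L).toAddSubgroup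
  have hN : ∀ (r : Γ(X, V.1)) (s : Γ((U : Scheme.{u}), ⊤)),
      U.ι.app V.1 r * (U : Scheme.{u}).presheaf.map (homOfLE (le_top : U.ι ⁻¹ᵁ V.1 ≤ ⊤)).op s ∈ N := fun r s => by
    have h1 : Sigma.ι (fun _ : Γ(M, ⊤) => Coh.structureModule X) s ≫ freeCover M = FinCov.homOfSection (N := M) s :=
      Sigma.ι_desc _ _
    have h2 : M.presheaf.map (homOfLE (le_top : V.1 ≤ ⊤)).op s ∈ LinearMap.range L := by
      refine ⟨(Sigma.ι (fun _ : Γ(M, ⊤) => Coh.structureModule X) s).app V.1 (FinCov.one X V.1), ?_⟩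
      have h3 := congrArg (fun φ => Scheme.Modules.Hom.app φ V.1 (FinCov.one X V.1)) h1
      simp only [Scheme.Modules.Hom.comp_app] at h3
      exact h3.trans (FinCov.homOfSection_one _ _)
    exact (LinearMap.range L).smul_mem r h2
  intro c
  exact sections_inf_generated x hU V.2 N hN c

/-- A quotient map from a free module in quasi-coherent modules. -/
theorem exists_epi_free_affinePush (x : X ⟶ S) [IsSeparated x] (U : X.Opens) (hU : IsAffineOpen U)
    [IsAffineHom U.ι] :
    ∃ (ι : Type u) (c : Cofan fun _ : ι => qO X) (_ : IsColimit c)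
      (π : c.pt ⟶ (qcohPush U.ι).obj (qO (U : Scheme.{u}))), Epi π := by
  haveI := epi_freeCover_affinePush x U hU
  let M := (qcohPush U.ι).obj (qO (U : Scheme.{u}))
  let ι := Γ(M.obj, ⊤)
  let C : X.Modules := ∐ fun _ : ι => Coh.structureModule X
  have hC : QCohCat.isQCoh X C := QCoh.isQuasicoherent_colimit _ fun _ => WeakAss.isQuasicoherent_structureModule
  let c : Cofan fun _ : ι => qO X :=
    Cofan.mk ⟨C, hC⟩ fun i => ObjectProperty.homMk (Sigma.ι (fun _ : ι => Coh.structureModule X) i)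
  refine ⟨ι, c, ?_, ObjectProperty.homMk (freeCover M.obj), ?_⟩
  · exact Cofan.IsColimit.mk c (fun s => ObjectProperty.homMk (Sigma.desc fun i => (s.inj i).hom))
      (fun s i => ObjectProperty.hom_ext _ (Sigma.ι_desc _ _))
      fun s k hk => ObjectProperty.hom_ext _ (Sigma.hom_ext _ _ fun i => by
        rw [ObjectProperty.homMk_hom, Sigma.ι_desc]
        exact congrArg InducedCategory.Hom.hom (hk i))
  · haveI : Epi (freeCover M.obj) := this
    exact ⟨fun a b h => ObjectProperty.hom_ext _ ((cancel_epi (freeCover M.obj)).1 (congrArg InducedCategory.Hom.hom h))⟩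

end GrothLib.FunMor20
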