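import Groth.Agent.Lib.FunMor20.ProjAffine
import Groth.Agent.Lib.AffBC.Basic
import Groth.Agent.Lib.GrTilde.Mul
import Groth.Agent.Lib.RelVanish.Basic
import Groth.Agent.Lib.Cohom.RpushModules

/-!
# Direct images of box products along affine slices
-/

set_option autoImplicit false
set_option linter.style.haveILetI false
set_option backward.isDefEq.respectTransparency.types false

universe u

open CategoryTheory CategoryTheory.Limits AlgebraicGeometry Opposite TopologicalSpace Abelian

noncomputable section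

namespace GrothLib.FunMor20

variable {Z' W Z X : Scheme.{u}} {b : Z' ⟶ W} {a : Z' ⟶ Z} {s : W ⟶ X} {p : Z ⟶ X}

/-- The direct image of a box product along an affine slice. -/
theorem nonempty_slice_iso (h : IsPullback b a s p) [IsAffineHom s] (F : W.Modules) [F.IsQuasicoherent]
    (K : Z.Modules) [K.IsQuasicoherent] :
    Nonempty ((Scheme.Modules.pushforward a).obj
        (CohB1.tensorMod ((Scheme.Modules.pullback b).obj F) ((Scheme.Modules.pullback a).obj K)) ≅
      CohB1.tensorMod ((Scheme.Modules.pullback p).obj ((Scheme.Modules.pushforward s).obj F)) K) := by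
  haveI : IsAffineHom a := MorphismProperty.of_isPullback h ‹IsAffineHom s›
  haveI hb : ((Scheme.Modules.pullback b).obj F).IsQuasicoherent := VA.isQCoh_pullback b (M := F) inferInstance
  haveI := isIso_projHom_affine a ((Scheme.Modules.pullback b).obj F) K
  haveI := AffBC.isIso_bcMap h F
  let β : (Scheme.Modules.pullback p).obj ((Scheme.Modules.pushforward s).obj F) ≅
      (Scheme.Modules.pushforward a).obj ((Scheme.Modules.pullback b).obj F) := asIso (AffBC.bcMap h F)
  exact ⟨(Scheme.Modules.pushforward a).mapIso (GrTilde.tensorModComm _ _) ≪≫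
    (asIso (ProjFormula.projHom a K ((Scheme.Modules.pullback b).obj F))).symm ≪≫
    ((DCoh.tensorBi (X := Z)).obj K).mapIso β.symm ≪≫ GrTilde.tensorModComm _ _⟩

/-- The acyclicity of a slice. -/
theorem subsingleton_ext_slice {T' : Scheme.{u}} (h : IsPullback b a s p) [IsAffineHom s] (q : Z ⟶ T')
    [QuasiCompact q] [QuasiSeparated q] [HasInjectiveResolutions Z.Modules] (F : W.Modules) [F.IsQuasicoherent]
    (K : Z.Modules) [K.IsQuasicoherent] {n : ℕ}
    (hK : ∀ M : X.Modules, Coh.IsQCoh M →
      IsZero ((Coh.Rpush q n).obj (CohB1.tensorMod ((Scheme.Modules.pullback p).obj M) K)))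
    {V : T'.Opens} (hV : IsAffineOpen V) :
    Subsingleton (Ext.{u} (Cohom.freeFun.obj (a ⁻¹ᵁ q ⁻¹ᵁ V))
      (Coh.toAb (CohB1.tensorMod ((Scheme.Modules.pullback b).obj F) ((Scheme.Modules.pullback a).obj K))) n) := by
  haveI : IsAffineHom a := MorphismProperty.of_isPullback h ‹IsAffineHom s›
  haveI : (CohB1.tensorMod ((Scheme.Modules.pullback b).obj F) ((Scheme.Modules.pullback a).obj K)).IsQuasicoherent :=
    VA.isQCoh_tensor (VA.isQCoh_pullback b (M := F) inferInstance) (VA.isQCoh_pullback a (M := K) inferInstance)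
  have hM : Coh.IsQCoh ((Scheme.Modules.pushforward s).obj F) := QCoh.isQuasicoherent_pushforward s F
  obtain ⟨e⟩ := nonempty_slice_iso h F K
  let N := CohB1.tensorMod ((Scheme.Modules.pullback p).obj ((Scheme.Modules.pushforward s).obj F)) K
  haveI : N.IsQuasicoherent := VA.isQCoh_tensor (VA.isQCoh_pullback p hM) (E' := K) inferInstance
  haveI := RelVanish.subsingleton_HHon_of_isZero_Rpush q N n hV (hK _ hM)
  obtain ⟨e₁⟩ := Cohom.nonempty_HHon_equiv N (q ⁻¹ᵁ V) n
  obtain ⟨e₂⟩ := Cohom.nonempty_ext_preimage_equiv a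
    (CohB1.tensorMod ((Scheme.Modules.pullback b).obj F) ((Scheme.Modules.pullback a).obj K)) (q ⁻¹ᵁ V) n
  let e₃ := ((extFunctorObj.{u} (Cohom.freeFun.obj (q ⁻¹ᵁ V)) n).mapIso
    ((QCoh.toAbFun Z).mapIso e)).addCommGroupIsoToAddEquiv
  exact @Equiv.subsingleton _ _ (e₂.trans e₃).toEquiv e₁.symm.toEquiv.subsingleton

end GrothLib.FunMor20
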