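import Groth.Agent.Lib.FunMor20.Datum

/-!
# Restrictions of supported modules, and of transition maps, to other opens
-/

set_option autoImplicit false
set_option linter.style.haveILetI false
set_option linter.style.longLine false
set_option linter.unusedSectionVars false
set_option maxHeartbeats 400000
set_option backward.isDefEq.respectTransparency.types false

universe u

open CategoryTheory CategoryTheory.Limits AlgebraicGeometry Opposite TopologicalSpace

noncomputable section

namespace GrothLib.FunMor20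

variable {Z : Scheme.{u}}

theorem isIso_unit_iff_restrict {T T' : Z.Opens} (E : Z.Modules) :
    IsIso ((Scheme.Modules.restrictFunctor T'.ι).map ((Scheme.Modules.pullbackPushforwardAdjunction T.ι).unit.app E)) ↔
      IsIso ((Scheme.Modules.restrictFunctor T'.ι).map ((Scheme.Modules.restrictAdjunction T.ι).unit.app E)) := by
  have h := Adjunction.unit_leftAdjointUniq_hom_app (Scheme.Modules.restrictAdjunction T.ι)
    (Scheme.Modules.pullbackPushforwardAdjunction T.ι) E
  rw [← h, Functor.map_comp]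
  exact isIso_comp_right_iff _ _

theorem supp_iff_restrict (V : Z.Opens) (E : Z.Modules) :
    Supp V E ↔ IsIso ((Scheme.Modules.restrictAdjunction V.ι).unit.app E) := by
  have h := Adjunction.unit_leftAdjointUniq_hom_app (Scheme.Modules.restrictAdjunction V.ι)
    (Scheme.Modules.pullbackPushforwardAdjunction V.ι) E
  unfold Supp
  rw [← h]
  exact isIso_comp_right_iff _ _

/-- For a module supported in `V`, restricting to `V ⊓ W` is invertible over `W`. -/
theorem isIso_pullback_unit_inter {V W T : Z.Opens} (hT : T = V ⊓ W) {E : Z.Modules} (hE : Supp V E) :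
    IsIso ((Scheme.Modules.pullback W.ι).map ((Scheme.Modules.pullbackPushforwardAdjunction T.ι).unit.app E)) := by
  refine (NatIso.isIso_map_iff (Scheme.Modules.restrictFunctorIsoPullback W.ι) _).1 ((isIso_unit_iff_restrict E).2 ?_)
  rw [Scheme.Modules.Hom.isIso_iff_isIso_app]
  intro O
  have hres : ∀ A : Z.Opens, IsIso (((Scheme.Modules.restrictAdjunction V.ι).unit.app E).app A) := fun A =>
    Scheme.Modules.Hom.isIso_iff_isIso_app.1 ((supp_iff_restrict V E).1 hE) A
  have h1 := hres (W.ι ''ᵁ O)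
  show IsIso (((Scheme.Modules.restrictAdjunction T.ι).unit.app E).app (W.ι ''ᵁ O))
  rw [Scheme.Modules.restrictAdjunction_unit_app_app] at h1 ⊢
  have key : ∀ (A B B' : Z.Opens) (hB : B ≤ A) (hB' : B' ≤ A), B = B' →
      IsIso (E.presheaf.map (homOfLE hB).op) → IsIso (E.presheaf.map (homOfLE hB').op) := by
    rintro A B B' hB hB' rfl hi
    exact hi
  refine key _ _ _ _ _ ?_ h1
  rw [Scheme.Hom.image_preimage_eq_opensRange_inf, Scheme.Hom.image_preimage_eq_opensRange_inf,
    Scheme.Opens.opensRange_ι, Scheme.Opens.opensRange_ι, hT, inf_assoc, inf_of_le_right (W.ι_image_le O)]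

variable {X Y S : Scheme.{u}} [IsAffine S] {x : X ⟶ S} {y : Y ⟶ S} {p : Z ⟶ X} {q : Z ⟶ Y}
  {𝔽 : QCohCat.QCoh X ⥤ Y.Modules} [IsAffineHom (pullback.diagonal x)]
  [PreservesFiniteColimits 𝔽] [∀ J : Type u, PreservesColimitsOfShape (Discrete J) 𝔽] [𝔽.Additive]
  (h : IsPullback p q x y)

include h in
/-- Transition maps restrict to isomorphisms over any open cutting out the smaller one. -/
theorem Datum.isIso_restrict_inter {U U' W : X.Opens} [IsAffine (U : Scheme.{u})] [IsAffineHom U.ι]
    [IsAffine (U' : Scheme.{u})] [IsAffineHom U'.ι] (hU' : U' = U ⊓ W) (D : Datum p q 𝔽 U) (D' : Datum p q 𝔽 U')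
    (r : D.E ⟶ D'.E) (hr : D.τ ≫ ΦMap p q r = D'.τ) : IsIso ((Scheme.Modules.pullback (p ⁻¹ᵁ W).ι).map r) := by
  have hle : U' ≤ U := hU' ▸ inf_le_left
  haveI hr' := D.isIso_restrict h hle D' r hr
  let adj := Scheme.Modules.pullbackPushforwardAdjunction (p ⁻¹ᵁ U').ι
  let L := Scheme.Modules.pullback (p ⁻¹ᵁ W).ι
  haveI : IsIso ((Scheme.Modules.pushforward (p ⁻¹ᵁ U').ι).map ((Scheme.Modules.pullback (p ⁻¹ᵁ U').ι).map r)) := inferInstance
  have hη : IsIso (adj.unit.app D'.E) := D'.supp
  have hfac : adj.unit.app D.E ≫ (Scheme.Modules.pushforward (p ⁻¹ᵁ U').ι).map ((Scheme.Modules.pullback (p ⁻¹ᵁ U').ι).map r) =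
      r ≫ adj.unit.app D'.E := (adj.unit.naturality r).symm
  have hLη : IsIso (L.map (adj.unit.app D.E)) :=
    isIso_pullback_unit_inter (V := p ⁻¹ᵁ U) (W := p ⁻¹ᵁ W) (by rw [hU']; rfl) D.supp
  have h2 := congrArg L.map hfac
  rw [L.map_comp, L.map_comp] at h2
  exact @IsIso.of_isIso_fac_right _ _ _ _ _ _ _ _ (Functor.map_isIso L _)
    (IsIso.comp_isIso' hLη (Functor.map_isIso L _)) h2.symm

end GrothLib.FunMor20
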